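import Mathlib
import Cfsg.Agent.S0799

/-!
# Self-normalising four-groups in `PSL(2,p)`

A proper subgroup with a self-normalising four-group whose involutions an automorphism cycles is that four-group.
-/

set_option autoImplicit false
set_option linter.all false

namespace CfsgLib.Perm.Trans.OrthFrame

open CfsgLib.Perm.Dickson

theorem alt_four_invol_comm : ∀ a b : alternatingGroup (Fin 4), a * a = 1 → b * b = 1 → a * b = b * a := by decide +kernel

/-- a four-group whose involutions are cycled by an automorphism, with trivial normaliser -/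
structure Klein {G : Type*} [Group G] (z : Fin 3 → G) : Prop where
  ne_one : ∀ a, z a ≠ 1
  inj : Function.Injective z
  sq : ∀ a, z a * z a = 1
  mul : ∀ a b, a ≠ b → ∃ c, z a * z b = z c
  cycle : ∃ θ : G ≃* G, ∀ a, θ (z a) = z (a + 1)
  normal : ∀ x : G, (∀ a, ∃ b, x * z a * x⁻¹ = z b) → x = 1 ∨ ∃ a, x = z a
  big : ∃ x : G, x ≠ 1 ∧ ∀ a, x ≠ z a

namespace Klein

variable {G : Type*} [Group G] {z : Fin 3 → G} (hz : Klein z)
include hz

theorem cent {x : G} (hx : ∀ a, x * z a = z a * x) : x = 1 ∨ ∃ a, x = z a :=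
  hz.normal x fun a => ⟨a, by rw [hx a, mul_inv_cancel_right]⟩

theorem no_center {a : Fin 3} (h : ∀ x : G, x * z a = z a * x) : False := by
  obtain ⟨θ, hθ⟩ := hz.cycle
  have hstep : ∀ b, (∀ x : G, x * z b = z b * x) → ∀ x : G, x * z (b + 1) = z (b + 1) * x := fun b hb x => by
    rw [← hθ b, ← θ.apply_symm_apply x, ← map_mul, hb, map_mul]
  obtain ⟨x, hx1, hxz⟩ := hz.big
  have hall : ∀ b, ∀ x : G, x * z b = z b * x := by
    have h1 := hstep a h
    have h3 := hstep (a + 1) h1
    intro b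
    rcases (show b = a ∨ b = a + 1 ∨ b = a + 1 + 1 from (show ∀ b a : Fin 3, b = a ∨ b = a + 1 ∨ b = a + 1 + 1 by decide) b a) with rfl | rfl | rfl
    exacts [h, h1, h3]
  rcases hz.cent fun b => hall b x with h' | ⟨b, h'⟩
  exacts [hx1 h', hxz b h']

/-- the four-group -/
def grp : Subgroup G where
  carrier := {x | x = 1 ∨ ∃ a, x = z a}
  one_mem' := Or.inl rfl
  mul_mem' := by
    rintro _ _ (rfl | ⟨a, rfl⟩) (rfl | ⟨b, rfl⟩)
    · exact Or.inl (one_mul 1)
    · exact Or.inr ⟨b, one_mul _⟩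
    · exact Or.inr ⟨a, mul_one _⟩
    · rcases eq_or_ne a b with rfl | hab
      · exact Or.inl (hz.sq a)
      · exact Or.inr (hz.mul a b hab)
  inv_mem' := by
    rintro _ (rfl | ⟨a, rfl⟩)
    · exact Or.inl inv_one
    · exact Or.inr ⟨a, inv_eq_of_mul_eq_one_right (hz.sq a)⟩

theorem card_grp : Nat.card hz.grp = 4 := by
  classical
  let e : Option (Fin 3) → hz.grp := fun o => o.elim ⟨1, one_mem _⟩ fun a => ⟨z a, Or.inr ⟨a, rfl⟩⟩
  rw [← Nat.card_eq_of_bijective e ⟨?_, ?_⟩, Nat.card_eq_fintype_card, Fintype.card_option, Fintype.card_fin]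
  · rintro (_ | a) (_ | b) h
    · rfl
    · exact absurd (congrArg Subtype.val h).symm (hz.ne_one b)
    · exact absurd (congrArg Subtype.val h) (hz.ne_one a)
    · rw [hz.inj (congrArg Subtype.val h)]
  · rintro ⟨x, rfl | ⟨a, rfl⟩⟩
    · exact ⟨none, rfl⟩
    · exact ⟨some a, rfl⟩

theorem normalizer_le {x : G} (hx : x ∈ Subgroup.normalizer (hz.grp : Set G)) : x ∈ hz.grp := by
  refine hz.normal x fun a => ?_
  rcases (Subgroup.mem_normalizer_iff.1 hx (z a)).1 (Or.inr ⟨a, rfl⟩) with h | h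
  · exact absurd (conj_eq_one_iff.1 h) (hz.ne_one a)
  · exact h

variable [Finite G]

theorem exists_sylow : ∃ P : Sylow 2 G, (P : Subgroup G) = hz.grp := by
  haveI : Fact (Nat.Prime 2) := ⟨Nat.prime_two⟩
  obtain ⟨P, hP⟩ := (IsPGroup.of_card (p := 2) (n := 2) (by rw [hz.card_grp]; rfl)).exists_le_sylow
  refine ⟨P, le_antisymm ?_ hP⟩
  haveI := P.isPGroup'.isNilpotent
  by_contra hcon
  have hlt : hz.grp.subgroupOf P < ⊤ := lt_top_iff_ne_top.2 fun e => hcon (Subgroup.subgroupOf_eq_top.1 e)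
  obtain ⟨y, hy, hy'⟩ := SetLike.exists_of_lt (Group.normalizerCondition_of_isNilpotent (hz.grp.subgroupOf P) hlt)
  refine hy' (Subgroup.mem_subgroupOf.2 (hz.normalizer_le (Subgroup.mem_normalizer_iff.2 fun n => ?_)))
  constructor <;> intro hn
  · have := (Subgroup.mem_normalizer_iff.1 hy ⟨n, hP hn⟩).1 (Subgroup.mem_subgroupOf.2 hn)
    exact this
  · have hnP : n ∈ (P : Subgroup G) := by
      have h1 := mul_mem (mul_mem (inv_mem y.2) (hP hn)) y.2
      rwa [show (y : G)⁻¹ * ((y : G) * n * (y : G)⁻¹) * (y : G) = n by group] at h1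
    exact Subgroup.mem_subgroupOf.1 ((Subgroup.mem_normalizer_iff.1 hy ⟨n, hnP⟩).2 (Subgroup.mem_subgroupOf.2 hn))

theorem dvd_four : ∀ n, 2 ^ n ∣ Nat.card G → n ≤ 2 := by
  intro n hn
  haveI : Fact (Nat.Prime 2) := ⟨Nat.prime_two⟩
  obtain ⟨P, hP⟩ := hz.exists_sylow
  have h1 := P.card_eq_multiplicity
  rw [hP, hz.card_grp, show (4 : ℕ) = 2 ^ 2 from rfl] at h1
  rw [Nat.pow_right_injective le_rfl h1]
  exact (Nat.prime_two.pow_dvd_iff_le_factorization Nat.card_pos.ne').1 hn

/-- the normal complement of the four-group -/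
theorem exists_complement : ∃ M : Subgroup G, M.Normal ∧ M ≠ ⊤ ∧ M ≠ ⊥ := by
  haveI : Fact (Nat.Prime 2) := ⟨Nat.prime_two⟩
  obtain ⟨P, hP⟩ := hz.exists_sylow
  have hle : Subgroup.normalizer ((P : Subgroup G) : Set G) ≤ Subgroup.centralizer ((P : Subgroup G) : Set G) := by
    rw [hP]
    intro x hx
    have hx' := hz.normalizer_le hx
    refine Subgroup.mem_centralizer_iff.2 fun y hy => ?_
    rcases hy with rfl | ⟨a, rfl⟩
    · rw [one_mul, mul_one]
    rcases hx' with rfl | ⟨b, rfl⟩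
    · rw [one_mul, mul_one]
    rcases eq_or_ne a b with rfl | hab
    · rfl
    obtain ⟨c, hc⟩ := hz.mul a b hab
    have h1 : (z a * z b) * (z a * z b) = 1 := by rw [hc, hz.sq]
    calc z a * z b = (z a * z b)⁻¹ := (inv_eq_of_mul_eq_one_right h1).symm
      _ = z b * z a := by rw [mul_inv_rev, inv_eq_of_mul_eq_one_right (hz.sq a), inv_eq_of_mul_eq_one_right (hz.sq b)]
  have hc := MonoidHom.ker_transferSylow_isComplement' P hle
  refine ⟨(MonoidHom.transferSylow P hle).ker, inferInstance, fun e => ?_, fun e => ?_⟩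
  · rw [e, hP, Subgroup.isComplement'_top_left] at hc
    have := hz.card_grp
    rw [hc, Subgroup.card_bot] at this
    omega
  · rw [e, hP, Subgroup.isComplement'_bot_left] at hc
    obtain ⟨x, hx1, hxz⟩ := hz.big
    rcases (show x ∈ hz.grp from hc ▸ Subgroup.mem_top x) with h | ⟨a, h⟩
    exacts [hx1 h, hxz a h]

end Klein

theorem klein_eq_top {F : Type*} [Field F] [Fintype F] (hp : (Fintype.card F).Prime) (hodd : Odd (Fintype.card F))
    (hnoc : ∀ a y : Matrix.ProjectiveSpecialLinearGroup (Fin 2) F, a * a = 1 → a ≠ 1 →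
      y ^ Fintype.card F = 1 → y ≠ 1 → a * y ≠ y * a)
    (X : Subgroup (Matrix.ProjectiveSpecialLinearGroup (Fin 2) F)) {z : Fin 3 → X} (hz : Klein z) : X = ⊤ := by
  classical
  obtain ⟨p, hpe⟩ : ∃ p, Fintype.card F = p := ⟨_, rfl⟩
  haveI hpf : Fact p.Prime := ⟨hpe ▸ hp⟩
  haveI : CharP F p := by
    rw [← hpe]
    obtain ⟨c, hc⟩ := CharP.exists F
    obtain ⟨n, hcp, hcn⟩ := FiniteField.card F c
    have : Fintype.card F = c := ((Nat.prime_dvd_prime_iff_eq hcp hp).1 (hcn ▸ dvd_pow_self c n.ne_zero)).symm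
    rwa [this]
  haveI : Finite (G2 F) := finite_G2
  haveI : Finite (Matrix.ProjectiveSpecialLinearGroup (Fin 2) F) := Finite.of_equiv _ (pslEquiv F).symm.toEquiv
  rcases Cfsg.Agent.S0799.result (F := F) rfl p X with ⟨k, -, h⟩ | ⟨P, K, hK, ⟨e⟩⟩ | ⟨⟨e⟩⟩ | ⟨⟨e⟩⟩ | ⟨⟨e⟩⟩ |
    ⟨K, hKf, hKt, m, hm, h⟩
  · exfalso
    rcases h with ⟨hcyc, -⟩ | ⟨⟨e⟩⟩
    · obtain ⟨g, hg⟩ := hcyc.exists_generator
      refine hz.no_center (a := 0) fun x => ?_
      obtain ⟨i, rfl⟩ := hg x
      obtain ⟨j, hj⟩ := hg (z 0)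
      dsimp only at hj ⊢
      rw [← hj, ← zpow_add, ← zpow_add, add_comm]
    · have hrot : ∀ a, ∃ j, e (z a) = DihedralGroup.sr j := fun a => by
        rcases hea : e (z a) with i | j
        · exfalso
          have hi : i + i = 0 := by
            have h1 := congrArg e (hz.sq a)
            rw [map_mul, map_one, hea, DihedralGroup.r_mul_r, DihedralGroup.one_def] at h1
            exact DihedralGroup.r.inj h1
          refine hz.no_center (a := a) fun x => e.injective ?_
          rw [map_mul, map_mul, hea]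
          rcases e x with i' | j'
          · rw [DihedralGroup.r_mul_r, DihedralGroup.r_mul_r, add_comm]
          · rw [DihedralGroup.r_mul_sr, DihedralGroup.sr_mul_r]
            refine congrArg DihedralGroup.sr ?_
            linear_combination hi
        · exact ⟨j, rfl⟩
      obtain ⟨c, hc⟩ := hz.mul 0 1 (by decide)
      obtain ⟨j₀, h₀⟩ := hrot 0
      obtain ⟨j₁, h₁⟩ := hrot 1
      obtain ⟨jc, h₂⟩ := hrot c
      have h1 := congrArg e hc
      rw [map_mul, h₀, h₁, h₂, DihedralGroup.sr_mul_sr] at h1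
      exact absurd h1 (by simp)
  · exfalso
    have hP : Nat.card (P : Subgroup (Matrix.ProjectiveSpecialLinearGroup (Fin 2) F)) = p := by
      rw [P.card_eq_multiplicity, card_S2P, factorization_card_psl (F := F) p (n := 1)
        (by rw [Nat.card_eq_fintype_card, hpe, pow_one]), pow_one]
    haveI := isCyclic_of_prime_card hP
    obtain ⟨g, hg⟩ := IsCyclic.exists_generator (α := P)
    have hgp : (g : Matrix.ProjectiveSpecialLinearGroup (Fin 2) F) ^ p = 1 := by
      have h1 := congrArg Subtype.val (pow_card_eq_one' (x := g))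
      rw [SubmonoidClass.coe_pow, OneMemClass.coe_one, hP] at h1
      exact h1
    have hgpF : (g : Matrix.ProjectiveSpecialLinearGroup (Fin 2) F) ^ Fintype.card F = 1 := by
      rw [hpe]; exact hgp
    have hg1 : (g : Matrix.ProjectiveSpecialLinearGroup (Fin 2) F) ≠ 1 := by
      intro h
      have hg1 : g = 1 := Subtype.ext h
      haveI : Subsingleton P := ⟨fun a b => by
        obtain ⟨i, hi⟩ := hg a
        obtain ⟨j, hj⟩ := hg b
        rw [← hi, ← hj, hg1]
        simp⟩
      exact hpf.out.one_lt.ne ((Nat.card_of_subsingleton (1 : P)).symm.trans hP)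
    obtain ⟨a', ha'⟩ : ∃ a' : Fin 3 → Matrix.ProjectiveSpecialLinearGroup (Fin 2) F, a' = fun a => ((e (z a) : K) : Matrix.ProjectiveSpecialLinearGroup (Fin 2) F) :=
      ⟨_, rfl⟩
    have hsq : ∀ a, a' a * a' a = 1 := fun a => by
      rw [ha', ← Subgroup.coe_mul, ← map_mul, hz.sq, map_one, OneMemClass.coe_one]
    have hne : ∀ a, a' a ≠ 1 := fun a h => hz.ne_one a (e.injective (Subtype.ext (by
      rw [map_one, OneMemClass.coe_one, ← h, ha'])))
    have hinv : ∀ a, a' a * g * (a' a)⁻¹ = (g : Matrix.ProjectiveSpecialLinearGroup (Fin 2) F)⁻¹ := by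
      intro a
      have hm : a' a * g * (a' a)⁻¹ ∈ (P : Subgroup _) :=
        (Subgroup.mem_normalizer_iff.1 (hK (by rw [ha']; exact (e (z a)).2)) _).1 g.2
      obtain ⟨i, hi⟩ := hg ⟨_, hm⟩
      have hi' : a' a * g * (a' a)⁻¹ = (g : Matrix.ProjectiveSpecialLinearGroup (Fin 2) F) ^ i := by
        have := congrArg Subtype.val hi
        exact (this.symm.trans (SubgroupClass.coe_zpow g i))
      have hai : (a' a)⁻¹ = a' a := inv_eq_of_mul_eq_one_right (hsq a)
      have h3 : (g : Matrix.ProjectiveSpecialLinearGroup (Fin 2) F) ^ (i * i) = g := by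
        rw [zpow_mul, ← hi', conj_zpow, ← hi', hai, ← mul_assoc, ← mul_assoc, hsq, one_mul, mul_assoc, hsq, mul_one]
      have hord : orderOf (g : Matrix.ProjectiveSpecialLinearGroup (Fin 2) F) = p := orderOf_eq_prime hgp hg1
      have hdvd : ((p : ℤ)) ∣ i * i - 1 := by
        rw [← hord, orderOf_dvd_iff_zpow_eq_one, zpow_sub, h3, zpow_one, mul_inv_cancel]
      rcases (Int.Prime.dvd_mul' (Fact.out : p.Prime) (show (p : ℤ) ∣ (i - 1) * (i + 1) by
        rwa [show (i - 1) * (i + 1) = i * i - 1 by ring])) with h | h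
      · exfalso
        rw [← hord, orderOf_dvd_iff_zpow_eq_one, zpow_sub, zpow_one, mul_inv_eq_one] at h
        refine hnoc (a' a) g (hsq a) (hne a) hgpF hg1 ?_
        rw [← mul_inv_eq_iff_eq_mul, hi', h]
      · rw [← hord, orderOf_dvd_iff_zpow_eq_one, zpow_add, zpow_one] at h
        rw [hi']
        exact eq_inv_of_mul_eq_one_left h
    obtain ⟨c, hc⟩ := hz.mul 0 1 (by decide)
    have hcc : a' 0 * a' 1 = a' c := by rw [ha', ← Subgroup.coe_mul, ← map_mul, hc]
    have h1 := hinv c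
    rw [← hcc, show a' 0 * a' 1 * (g : Matrix.ProjectiveSpecialLinearGroup (Fin 2) F) * (a' 0 * a' 1)⁻¹ =
      a' 0 * (a' 1 * g * (a' 1)⁻¹) * (a' 0)⁻¹ by group, hinv 1, ← conj_inv, hinv 0, inv_inv] at h1
    have hgg : (g : Matrix.ProjectiveSpecialLinearGroup (Fin 2) F) ^ 2 = 1 := by
      rw [pow_two, mul_eq_one_iff_eq_inv]
      exact h1
    have h3 := orderOf_dvd_of_pow_eq_one hgg
    rw [orderOf_eq_prime (p := p) hgp hg1] at h3
    have := Nat.le_of_dvd (by norm_num) h3
    obtain ⟨j, hj⟩ := hodd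
    rw [hpe] at hj
    have := hpf.out.two_le
    omega
  · exfalso
    obtain ⟨x, hx1, hxz⟩ := hz.big
    have hsq' : ∀ a, e (z a) * e (z a) = 1 := fun a => by rw [← map_mul, hz.sq, map_one]
    have hall : x = 1 ∨ ∃ a, x = z a := hz.normal x fun a => by
      have hc : ∀ b, (x * z a * x⁻¹) * z b = z b * (x * z a * x⁻¹) := fun b => e.injective (by
        rw [map_mul e (x * z a * x⁻¹) (z b), map_mul e (z b) (x * z a * x⁻¹)]
        refine alt_four_invol_comm (e (x * z a * x⁻¹)) (e (z b)) ?_ (hsq' b)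
        rw [← map_mul, show x * z a * x⁻¹ * (x * z a * x⁻¹) = x * (z a * z a) * x⁻¹ by group, hz.sq, mul_one,
          mul_inv_cancel, map_one])
      rcases hz.cent hc with h | h
      · exact absurd (conj_eq_one_iff.1 h) (hz.ne_one a)
      · exact h
    rcases hall with h | ⟨a, h⟩
    exacts [hx1 h, hxz a h]
  · exfalso
    have h := hz.dvd_four 3 (by
      rw [Nat.card_congr e.toEquiv, Nat.card_perm, Nat.card_fin]
      decide)
    omega
  · exfalso
    obtain ⟨M, hMn, hMt, hMb⟩ := hz.exists_complement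
    haveI := alternatingGroup.isSimpleGroup_five
    haveI : IsSimpleGroup X := e.isSimpleGroup
    exact (hMn.eq_bot_or_eq_top).elim hMb hMt
  · have hm1 : m = 1 := by
      have h1 : 1 < Fintype.card K := Fintype.one_lt_card
      rcases Nat.lt_trichotomy m 1 with hlt | rfl | hgt
      · rw [Nat.lt_one_iff] at hlt
        rw [hlt, pow_zero] at hm
        exact absurd hp (hm ▸ Nat.not_prime_one)
      · rfl
      · exact absurd (hm ▸ hp) (fun h => by
          have := h.eq_one_or_self_of_dvd (Fintype.card K) (dvd_pow_self _ (by omega))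
          rcases this with h' | h'
          · omega
          · have h5 := Nat.pow_lt_pow_right h1 hgt
            rw [pow_one] at h5
            omega)
    rw [hm1, pow_one] at hm
    haveI : Finite (G2 K) := finite_G2
    have hcK : Nat.card K = Nat.card F := by rw [Nat.card_eq_fintype_card, hm, Nat.card_eq_fintype_card]
    have hF := card_psl F
    have hK := card_psl K
    rw [hcK] at hK
    have hg0 : Nat.gcd 2 (Nat.card F - 1) = 2 := by
      rw [Nat.card_eq_fintype_card]
      obtain ⟨j, hj⟩ := hodd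
      exact Nat.gcd_eq_left ⟨j, by omega⟩
    rw [hg0] at hF hK
    rcases h with ⟨⟨e⟩⟩ | ⟨⟨e⟩⟩
    · refine (Subgroup.card_eq_iff_eq_top X).1 ?_
      rw [Nat.card_congr e.toEquiv, card_S2P, card_S2P]
      omega
    · exfalso
      have h1 := Subgroup.card_le_card_group X
      rw [Nat.card_congr e.toEquiv, card_S2P] at h1
      have h3 : Nat.card (Matrix.ProjGenLinGroup (Fin 2) K) = Nat.card F * (Nat.card F - 1) * (Nat.card F + 1) := by
        rw [← hcK]
        exact card_G2 K
      have h4 : 0 < Nat.card (psl F) := Nat.card_pos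
      rw [h3, mul_assoc] at h1
      omega

end CfsgLib.Perm.Trans.OrthFrame
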