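import Mathlib
import Cfsg.Agent.Lib.Perm.Trans.QuadB

/-!
# Orthogonal frames: sign changes, permutations, monomial isometries and supports

The coordinate frame of the form `∑ xᵢ²`.
-/

set_option autoImplicit false
set_option linter.all false

namespace CfsgLib.Perm.Trans.OrthFrame

open scoped Matrix
open Matrix Cfsg.Geo CfsgLib.Perm.Trans

variable {ι : Type} [Fintype ι] [DecidableEq ι] {F : Type*} [Field F]

/-- the form `∑ xᵢ²` -/
def stdQ : (ι → F) → F := fun x => x ⬝ᵥ x

/-- the coordinate vectors -/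
abbrev bv (i : ι) : ι → F := Pi.single i 1

/-- the action on vectors -/
abbrev act (g : GL ι F) (x : ι → F) : ι → F := (g : Matrix ι ι F) *ᵥ x

theorem act_mul (g h : GL ι F) (x : ι → F) : act (g * h) x = act g (act h x) := gl_mul_mulVec g h x

theorem act_one (x : ι → F) : act (1 : GL ι F) x = x := by simp [act]

theorem act_inv (g : GL ι F) (x : ι → F) : act g⁻¹ (act g x) = x := gl_inv_mulVec g x

theorem act_inv' (g : GL ι F) (x : ι → F) : act g (act g⁻¹ x) = x := gl_mulVec_inv g x

theorem act_add (g : GL ι F) (x y : ι → F) : act g (x + y) = act g x + act g y := mulVec_add _ _ _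

theorem act_sub (g : GL ι F) (x y : ι → F) : act g (x - y) = act g x - act g y := mulVec_sub _ _ _

theorem act_smul (g : GL ι F) (c : F) (x : ι → F) : act g (c • x) = c • act g x := mulVec_smul _ _ _

theorem act_neg (g : GL ι F) (x : ι → F) : act g (-x) = -act g x := mulVec_neg _ _

theorem act_zero (g : GL ι F) : act g 0 = 0 := mulVec_zero _

theorem gl_ext_bv {g h : GL ι F} (e : ∀ i, act g (bv i) = act h (bv i)) : g = h := by
  refine gl_ext_vec fun x => ?_
  have hx : x = ∑ i, x i • bv i := by simpa [bv] using pi_eq_sum_univ' x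
  rw [hx, mulVec_sum, mulVec_sum]
  exact Finset.sum_congr rfl fun i _ => by rw [mulVec_smul, mulVec_smul]; exact congrArg _ (e i)

/-- the orthogonality relation -/
theorem iso_dot (h2 : (2 : F) ≠ 0) {g : GL ι F} (hg : g ∈ Cfsg.isometryGroup F (stdQ : (ι → F) → F))
    (x y : ι → F) : act g x ⬝ᵥ act g y = x ⬝ᵥ y := by
  have h : ∀ z, act g z ⬝ᵥ act g z = z ⬝ᵥ z := fun z => Quad.mem_iso.1 hg z
  have h1 := h (x + y)
  rw [act_add] at h1
  simp only [add_dotProduct, dotProduct_add, h x, h y, dotProduct_comm y x,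
    dotProduct_comm (act g y) (act g x)] at h1
  exact mul_left_cancel₀ h2 (by linear_combination h1)

theorem dot_bv (x : ι → F) (i : ι) : x ⬝ᵥ bv i = x i := by simp [bv]

theorem bv_dot (x : ι → F) (i : ι) : bv i ⬝ᵥ x = x i := by simp [bv]

theorem bv_apply (i j : ι) : (bv i : ι → F) j = if j = i then 1 else 0 := by simp [bv, Pi.single_apply]

theorem bv_ne_zero (i : ι) : (bv i : ι → F) ≠ 0 := fun h => by simpa [bv] using congrFun h i

/-! ### sign changes and permutations -/

/-- the sign change on `D` -/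
def flp (D : Finset ι) : GL ι F where
  val := Matrix.diagonal fun i => if i ∈ D then -1 else 1
  inv := Matrix.diagonal fun i => if i ∈ D then -1 else 1
  val_inv := by
    rw [diagonal_mul_diagonal, ← diagonal_one]
    exact congrArg _ (funext fun i => by split <;> simp)
  inv_val := by
    rw [diagonal_mul_diagonal, ← diagonal_one]
    exact congrArg _ (funext fun i => by split <;> simp)

theorem act_flp (D : Finset ι) (x : ι → F) :
    act (flp D) x = fun i => if i ∈ D then -x i else x i := by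
  funext i
  show (Matrix.diagonal _ *ᵥ x) i = _
  rw [mulVec_diagonal]
  split <;> simp

theorem flp_bv (D : Finset ι) (j : ι) : act (flp D) (bv j : ι → F) = (if j ∈ D then (-1 : F) else 1) • bv j := by
  rw [act_flp]
  funext i
  simp only [Pi.smul_apply, smul_eq_mul, bv_apply]
  rcases eq_or_ne i j with rfl | hij
  · split <;> simp
  · simp [hij]

theorem flp_sq (D : Finset ι) : flp D * flp D = (1 : GL ι F) := by
  refine gl_ext_bv fun i => ?_
  rw [act_mul, flp_bv, act_smul, flp_bv, smul_smul, act_one]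
  split <;> simp

theorem flp_inv (D : Finset ι) : (flp D : GL ι F)⁻¹ = flp D := inv_eq_of_mul_eq_one_right (flp_sq D)

theorem flp_mul (D E : Finset ι) : flp D * flp E = (flp (symmDiff D E) : GL ι F) := by
  refine gl_ext_bv fun i => ?_
  rw [act_mul, flp_bv, act_smul, flp_bv, smul_smul, flp_bv]
  congr 1
  by_cases h1 : i ∈ D <;> by_cases h2 : i ∈ E <;> simp [h1, h2, Finset.mem_symmDiff]

theorem flp_empty : flp (∅ : Finset ι) = (1 : GL ι F) := gl_ext_bv fun i => by rw [flp_bv, act_one]; simp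

theorem flp_iso (D : Finset ι) : (flp D : GL ι F) ∈ Cfsg.isometryGroup F (stdQ : (ι → F) → F) :=
  Quad.mem_iso.2 fun x => by
    show act (flp D) x ⬝ᵥ act (flp D) x = x ⬝ᵥ x
    rw [act_flp]
    exact Finset.sum_congr rfl fun i _ => by dsimp only; split <;> simp

/-- the permutation matrices -/
def pm : Equiv.Perm ι →* GL ι F := (Matrix.permMatrixHom (R := F)).toHomUnits

theorem act_pm (σ : Equiv.Perm ι) (x : ι → F) : act (pm σ) x = x ∘ ⇑σ⁻¹ := by
  show (σ⁻¹).permMatrix F *ᵥ x = _
  rw [Matrix.permMatrix_mulVec]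

theorem pm_bv (σ : Equiv.Perm ι) (j : ι) : act (pm σ) (bv j : ι → F) = bv (σ j) := by
  rw [act_pm]
  funext i
  simp only [Function.comp_apply, bv_apply]
  exact if_congr (by rw [Equiv.Perm.inv_def, Equiv.symm_apply_eq]) rfl rfl

theorem pm_iso (σ : Equiv.Perm ι) : (pm σ : GL ι F) ∈ Cfsg.isometryGroup F (stdQ : (ι → F) → F) :=
  Quad.mem_iso.2 fun x => by
    show act (pm σ) x ⬝ᵥ act (pm σ) x = x ⬝ᵥ x
    rw [act_pm]
    exact Equiv.sum_comp σ⁻¹ fun i => x i * x i

theorem pm_conj_flp (σ : Equiv.Perm ι) (D : Finset ι) :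
    pm σ * flp D * pm σ⁻¹ = (flp (D.map σ.toEmbedding) : GL ι F) := by
  refine gl_ext_bv fun i => ?_
  rw [act_mul, act_mul, pm_bv, flp_bv, act_smul, pm_bv, flp_bv, Equiv.Perm.inv_def, Equiv.apply_symm_apply]
  congr 1
  simp [Finset.mem_map_equiv]

/-! ### the frame group -/

/-- `H` consists of isometries and contains the even sign changes and the even permutations -/
structure Frame (H : Subgroup (GL ι F)) : Prop where
  le_iso : H ≤ Cfsg.isometryGroup F (stdQ : (ι → F) → F)
  flp_mem : ∀ a b : ι, a ≠ b → flp {a, b} ∈ H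
  pm_mem : ∀ σ : Equiv.Perm ι, Equiv.Perm.sign σ = 1 → pm σ ∈ H

theorem Frame.flp_even {H : Subgroup (GL ι F)} (hH : Frame H) {D : Finset ι} (hD : Even D.card) : flp D ∈ H := by
  induction D using Finset.strongInduction with
  | _ D ih =>
  rcases D.eq_empty_or_nonempty with rfl | ⟨a, ha⟩
  · rw [flp_empty]; exact one_mem H
  · have h1 : 1 < D.card := by
      have := Finset.card_pos.2 ⟨a, ha⟩
      obtain ⟨k, hk⟩ := hD
      omega
    obtain ⟨b, hb, hba⟩ := Finset.exists_mem_ne h1 a
    have hcard : (({a, b} : Finset ι)).card = 2 := Finset.card_pair (Ne.symm hba)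
    have hsub : ({a, b} : Finset ι) ⊆ D := by
      intro x hx
      rcases Finset.mem_insert.1 hx with rfl | hx
      · exact ha
      · rw [Finset.mem_singleton.1 hx]; exact hb
    have hlt : D \ {a, b} ⊂ D := by
      refine (Finset.ssubset_iff_of_subset Finset.sdiff_subset).2 ⟨a, ha, ?_⟩
      simp
    have he : Even (D \ {a, b}).card := by
      rw [Finset.card_sdiff_of_subset hsub, hcard]
      obtain ⟨k, hk⟩ := hD
      exact ⟨k - 1, by omega⟩
    have h2 := mul_mem (ih _ hlt he) (hH.flp_mem a b (Ne.symm hba))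
    rw [flp_mul] at h2
    have h3 : symmDiff (D \ {a, b}) {a, b} = D := by
      ext x
      simp only [Finset.mem_symmDiff, Finset.mem_sdiff]
      constructor
      · rintro (⟨⟨h, -⟩, -⟩ | ⟨h, -⟩)
        · exact h
        · exact hsub h
      · intro h
        by_cases hx : x ∈ ({a, b} : Finset ι)
        · exact Or.inr ⟨hx, fun h' => h'.2 hx⟩
        · exact Or.inl ⟨⟨h, hx⟩, hx⟩
    rwa [h3] at h2

/-! ### supports -/

/-- the vectors supported in `B` -/
def SuppV (B : Finset ι) (x : ι → F) : Prop := ∀ k ∉ B, x k = 0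

/-- the elements fixing the coordinate vectors outside `B` -/
def fixOff (B : Finset ι) : Subgroup (GL ι F) where
  carrier := {g | ∀ k ∉ B, act g (bv k) = bv k}
  one_mem' := fun k _ => act_one _
  mul_mem' := fun {a b} ha hb k hk => by rw [act_mul, hb k hk, ha k hk]
  inv_mem' := fun {a} ha k hk => by conv_lhs => rw [← ha k hk, act_inv]

theorem mem_fixOff {B : Finset ι} {g : GL ι F} : g ∈ fixOff B ↔ ∀ k ∉ B, act g (bv k) = bv k := Iff.rfl

theorem fixOff_mono {B B' : Finset ι} (h : B ⊆ B') : (fixOff B : Subgroup (GL ι F)) ≤ fixOff B' :=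
  fun g hg k hk => hg k fun hk' => hk (h hk')

theorem flp_fixOff {D B : Finset ι} (h : D ⊆ B) : (flp D : GL ι F) ∈ fixOff B := fun k hk => by
  rw [flp_bv, if_neg fun hD => hk (h hD), one_smul]

theorem pm_fixOff {σ : Equiv.Perm ι} {B : Finset ι} (h : ∀ k ∉ B, σ k = k) : (pm σ : GL ι F) ∈ fixOff B :=
  fun k hk => by rw [pm_bv, h k hk]

theorem act_suppV (h2 : (2 : F) ≠ 0) {B : Finset ι} {g : GL ι F}
    (hg : g ∈ Cfsg.isometryGroup F (stdQ : (ι → F) → F)) (hB : g ∈ fixOff B) {x : ι → F} (hx : SuppV B x) :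
    SuppV B (act g x) := fun k hk => by
  rw [← dot_bv (act g x) k, ← hB k hk, iso_dot h2 hg, dot_bv, hx k hk]

theorem act_fix_perp {B : Finset ι} {g : GL ι F} (hB : g ∈ fixOff B) {x : ι → F} (hx : ∀ k ∈ B, x k = 0) :
    act g x = x := by
  have e : x = ∑ i, x i • bv i := by simpa [bv] using pi_eq_sum_univ' x
  conv_lhs => rw [e]
  conv_rhs => rw [e]
  rw [act, mulVec_sum]
  refine Finset.sum_congr rfl fun i _ => ?_
  rw [mulVec_smul]
  by_cases hi : i ∈ B
  · simp [hx i hi]
  · exact congrArg _ (hB i hi)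

theorem bv_suppV {B : Finset ι} {i : ι} (h : i ∈ B) : SuppV B (bv i : ι → F) := fun k hk => by
  rw [bv_apply, if_neg fun e : k = i => hk (e ▸ h)]

theorem SuppV.mono {B B' : Finset ι} (h : B ⊆ B') {x : ι → F} (hx : SuppV B x) : SuppV B' x :=
  fun k hk => hx k fun hk' => hk (h hk')

end CfsgLib.Perm.Trans.OrthFrame
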