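import Mathlib
import Cfsg.Agent.Lib.Perm.Trans.OrthFrame.Basic

/-!
# Monomial isometries of an orthogonal frame
-/

set_option autoImplicit false
set_option linter.all false

namespace CfsgLib.Perm.Trans.OrthFrame

open scoped Matrix
open Matrix Cfsg.Geo CfsgLib.Perm.Trans

variable {ι : Type} [Fintype ι] [DecidableEq ι] {F : Type*} [Field F]

/-- `g` permutes the coordinate lines -/
def Mono (g : GL ι F) : Prop := ∀ j, ∃ i, ∃ c : F, act g (bv j) = c • bv i

theorem mono_one : Mono (1 : GL ι F) := fun j => ⟨j, 1, by rw [act_one, one_smul]⟩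

theorem Mono.mul {g h : GL ι F} (hg : Mono g) (hh : Mono h) : Mono (g * h) := fun j => by
  obtain ⟨i, c, hc⟩ := hh j
  obtain ⟨k, d, hd⟩ := hg i
  exact ⟨k, c * d, by rw [act_mul, hc, act_smul, hd, smul_smul]⟩

theorem mono_flp (D : Finset ι) : Mono (flp D : GL ι F) := fun j => ⟨j, _, flp_bv D j⟩

theorem mono_pm (σ : Equiv.Perm ι) : Mono (pm σ : GL ι F) := fun j => ⟨σ j, 1, by rw [pm_bv, one_smul]⟩

variable [Fintype F]

theorem Mono.pow {g : GL ι F} (hg : Mono g) : ∀ n : ℕ, Mono (g ^ n)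
  | 0 => by rw [pow_zero]; exact mono_one
  | n + 1 => by rw [pow_succ]; exact (Mono.pow hg n).mul hg

theorem Mono.inv {g : GL ι F} (hg : Mono g) : Mono g⁻¹ := by
  have h : g⁻¹ = g ^ (orderOf g - 1) := inv_eq_of_mul_eq_one_right (by
    rw [← pow_succ', Nat.sub_add_cancel (isOfFinOrder_of_finite g).orderOf_pos, pow_orderOf_eq_one])
  rw [h]
  exact hg.pow _

/-- the monomial group -/
def monoG : Subgroup (GL ι F) where
  carrier := {g | Mono g}
  one_mem' := mono_one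
  mul_mem' := fun ha hb => Mono.mul ha hb
  inv_mem' := fun ha => Mono.inv ha

theorem mem_monoG {g : GL ι F} : g ∈ (monoG : Subgroup (GL ι F)) ↔ Mono g := Iff.rfl

theorem act_bv_ne_zero (g : GL ι F) (j : ι) : act g (bv j) ≠ 0 := fun h =>
  bv_ne_zero j (gl_mulVec_eq_zero.1 h)

/-- the image of a coordinate line -/
noncomputable def tgt (g : monoG (ι := ι) (F := F)) (j : ι) : ι := (g.2 j).choose

theorem tgt_spec (g : monoG (ι := ι) (F := F)) (j : ι) : ∃ c : F, act g.1 (bv j) = c • bv (tgt g j) :=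
  (g.2 j).choose_spec

theorem smul_bv_inj {c d : F} {i k : ι} (hc : c ≠ 0) (h : c • (bv i : ι → F) = d • bv k) : i = k ∧ c = d := by
  have h1 := congrFun h i
  simp only [Pi.smul_apply, smul_eq_mul, bv_apply] at h1
  rcases eq_or_ne i k with rfl | hik
  · exact ⟨rfl, by simpa using h1⟩
  · simp [hik] at h1
    exact absurd h1 hc

theorem tgt_eq {g : monoG (ι := ι) (F := F)} {i j : ι} {c : F} (h : act g.1 (bv j) = c • bv i) : tgt g j = i := by
  obtain ⟨d, hd⟩ := tgt_spec g j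
  have hd0 : d ≠ 0 := fun e => act_bv_ne_zero g.1 j (by rw [hd, e, zero_smul])
  exact (smul_bv_inj hd0 (hd.symm.trans h)).1

theorem tgt_injective (g : monoG (ι := ι) (F := F)) : Function.Injective (tgt g) := fun i j h => by
  obtain ⟨c, hc⟩ := tgt_spec g i
  obtain ⟨d, hd⟩ := tgt_spec g j
  rw [← h] at hd
  have hd0 : d ≠ 0 := fun e => act_bv_ne_zero g.1 j (by rw [hd, e, zero_smul])
  have h1 : act g.1 (bv i) = act g.1 ((c / d) • bv j) := by
    rw [act_smul, hd, smul_smul, div_mul_cancel₀ _ hd0, hc]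
  have h2 := congrArg (act g.1⁻¹) h1
  rw [act_inv, act_inv] at h2
  exact (smul_bv_inj (one_ne_zero (α := F)) ((one_smul F _).trans h2)).1

/-- the permutation of the coordinate lines -/
noncomputable def mperm : monoG (ι := ι) (F := F) →* Equiv.Perm ι where
  toFun g := Equiv.ofBijective (tgt g) ((Finite.injective_iff_bijective).1 (tgt_injective g))
  map_one' := Equiv.ext fun j => tgt_eq (c := 1) (by rw [OneMemClass.coe_one, act_one, one_smul]; rfl)
  map_mul' g h := Equiv.ext fun j => by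
    obtain ⟨c, hc⟩ := tgt_spec h j
    obtain ⟨d, hd⟩ := tgt_spec g (tgt h j)
    exact tgt_eq (c := c * d) (by rw [Subgroup.coe_mul, act_mul, hc, act_smul, hd, smul_smul]; rfl)

theorem mperm_apply (g : monoG (ι := ι) (F := F)) (j : ι) : ∃ c : F, c ≠ 0 ∧ act g.1 (bv j) = c • bv (mperm g j) := by
  obtain ⟨c, hc⟩ := tgt_spec g j
  exact ⟨c, fun e => act_bv_ne_zero g.1 j (by rw [hc, e, zero_smul]), hc⟩

theorem mperm_eq {g : monoG (ι := ι) (F := F)} {i j : ι} {c : F} (h : act g.1 (bv j) = c • bv i) : mperm g j = i :=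
  tgt_eq h

theorem mperm_fixOff {g : monoG (ι := ι) (F := F)} {B : Finset ι} (hg : g.1 ∈ fixOff B) {k : ι} (hk : k ∉ B) :
    mperm g k = k := mperm_eq (c := 1) (by rw [hg k hk, one_smul])

theorem mperm_flp (D : Finset ι) :
    mperm (⟨flp D, mono_flp D⟩ : monoG (ι := ι) (F := F)) = 1 := Equiv.ext fun j => mperm_eq (flp_bv D j)

theorem mperm_pm (σ : Equiv.Perm ι) :
    mperm (⟨pm σ, mono_pm σ⟩ : monoG (ι := ι) (F := F)) = σ :=
  Equiv.ext fun j => mperm_eq (c := 1) (by rw [pm_bv, one_smul])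

theorem coeff_sq (h2 : (2 : F) ≠ 0) {g : GL ι F} (hg : g ∈ Cfsg.isometryGroup F (stdQ : (ι → F) → F))
    {i j : ι} {c : F} (h : act g (bv j) = c • bv i) : c = 1 ∨ c = -1 := by
  have h1 := iso_dot h2 hg (bv j) (bv j)
  rw [h, smul_dotProduct, dotProduct_smul, dot_bv, dot_bv, bv_apply, bv_apply, if_pos rfl, if_pos rfl] at h1
  simp only [smul_eq_mul, mul_one] at h1
  exact mul_self_eq_one_iff.1 h1

theorem eq_flp_of_mperm (h2 : (2 : F) ≠ 0) {g : monoG (ι := ι) (F := F)}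
    (hg : g.1 ∈ Cfsg.isometryGroup F (stdQ : (ι → F) → F)) (hp : mperm g = 1) :
    ∃ D : Finset ι, g.1 = flp D := by
  classical
  refine ⟨Finset.univ.filter fun j => act g.1 (bv j) = -(bv j), gl_ext_bv fun j => ?_⟩
  obtain ⟨c, -, hc⟩ := mperm_apply g j
  rw [hp, Equiv.Perm.one_apply] at hc
  rw [flp_bv, hc]
  rcases coeff_sq h2 hg hc with rfl | rfl
  · rw [if_neg]
    simp only [Finset.mem_filter, Finset.mem_univ, true_and, hc, one_smul]
    intro h
    have := congrFun h j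
    simp only [Pi.neg_apply, bv_apply, if_pos] at this
    exact h2 (by linear_combination this)
  · rw [if_pos]
    simp only [Finset.mem_filter, Finset.mem_univ, true_and, hc, neg_one_smul]

/-! ### involutions normalised by an alternating group are trivial -/

omit [Fintype F] in
theorem perm_eq_one_of_commute {C : Finset ι} (hC : 5 ≤ C.card) {x : Equiv.Perm ι} (hx : x * x = 1)
    (hfix : ∀ k ∉ C, x k = k)
    (hcomm : ∀ σ : Equiv.Perm ι, Equiv.Perm.sign σ = 1 → (∀ k ∉ C, σ k = k) → Commute x (σ * x * σ⁻¹)) :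
    x = 1 := by
  by_contra hne
  obtain ⟨a, ha⟩ := not_forall.1 fun h => hne (Equiv.ext h)
  rw [Equiv.Perm.one_apply] at ha
  have hxx : ∀ y, x (x y) = y := fun y => by rw [← Equiv.Perm.mul_apply, hx, Equiv.Perm.one_apply]
  have haC : a ∈ C := by by_contra h; exact ha (hfix a h)
  obtain ⟨b, hb⟩ : ∃ b, b = x a := ⟨_, rfl⟩
  have hbC : b ∈ C := by
    by_contra h
    have := hfix b h
    rw [hb, hxx] at this
    exact ha this.symm
  obtain ⟨c, hc, hcn⟩ : ∃ c ∈ C, c ∉ ({a, b} : Finset ι) := Finset.exists_mem_notMem_of_card_lt_card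
    (lt_of_le_of_lt Finset.card_le_two (by omega))
  obtain ⟨e, he, hen⟩ : ∃ e ∈ C, e ∉ ({a, b, c, x c} : Finset ι) := Finset.exists_mem_notMem_of_card_lt_card
    (lt_of_le_of_lt Finset.card_le_four (by omega))
  simp only [Finset.mem_insert, Finset.mem_singleton, not_or] at hcn hen
  obtain ⟨σ, hσ⟩ : ∃ σ, σ = Equiv.swap a c * Equiv.swap c e := ⟨_, rfl⟩
  have hca : a ≠ c := Ne.symm hcn.1
  have hce : c ≠ e := Ne.symm hen.2.2.1
  have hs : Equiv.Perm.sign σ = 1 := by rw [hσ, map_mul, Equiv.Perm.sign_swap hca, Equiv.Perm.sign_swap hce]; rfl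
  have hσfix : ∀ k ∉ C, σ k = k := fun k hk => by
    have k1 : k ≠ a := fun h => hk (h ▸ haC)
    have k2 : k ≠ c := fun h => hk (h ▸ hc)
    have k3 : k ≠ e := fun h => hk (h ▸ he)
    rw [hσ, Equiv.Perm.mul_apply, Equiv.swap_apply_of_ne_of_ne k2 k3, Equiv.swap_apply_of_ne_of_ne k1 k2]
  have s_a : σ a = c := by
    rw [hσ, Equiv.Perm.mul_apply, Equiv.swap_apply_of_ne_of_ne hca (Ne.symm hen.1), Equiv.swap_apply_left]
  have s_e : σ e = a := by rw [hσ, Equiv.Perm.mul_apply, Equiv.swap_apply_right, Equiv.swap_apply_right]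
  have s_o : ∀ y, y ≠ a → y ≠ c → y ≠ e → σ y = y := fun y h1 h2 h3 => by
    rw [hσ, Equiv.Perm.mul_apply, Equiv.swap_apply_of_ne_of_ne h2 h3, Equiv.swap_apply_of_ne_of_ne h1 h2]
  have hba : b ≠ a := fun h => ha (by rw [← hb, h])
  have hbb : σ b = b := s_o b hba (Ne.symm hcn.2) (Ne.symm hen.2.1)
  have i_b : σ⁻¹ b = b := by rw [Equiv.Perm.inv_eq_iff_eq, hbb]
  have i_a : σ⁻¹ a = e := by rw [Equiv.Perm.inv_eq_iff_eq, s_e]
  obtain ⟨y, hy⟩ : ∃ y, y = σ * x * σ⁻¹ := ⟨_, rfl⟩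
  have hyb : y b = c := by
    rw [hy, Equiv.Perm.mul_apply, Equiv.Perm.mul_apply, i_b, hb, hxx, s_a]
  have hc' := hcomm σ hs hσfix
  rw [← hy] at hc'
  have h1 := Equiv.congr_fun hc'.eq a
  rw [Equiv.Perm.mul_apply, Equiv.Perm.mul_apply, ← hb, hyb] at h1
  have hya : y a = σ (x e) := by rw [hy, Equiv.Perm.mul_apply, Equiv.Perm.mul_apply, i_a]
  rw [hya] at h1
  rcases eq_or_ne (x e) e with hfe | hfe
  · rw [hfe, s_e, ← hb] at h1
    exact hcn.2 h1.symm
  · rw [s_o (x e) (fun h => hen.2.1 (by rw [hb, ← h, hxx])) (fun h => hen.2.2.2 (by rw [← h, hxx])) hfe, hxx] at h1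
    exact hen.2.2.1 h1

end CfsgLib.Perm.Trans.OrthFrame
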