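import Mathlib

/-!
# Quaternion matrices in four dimensions

Left and right multiplications, and their behaviour under special orthogonal conjugation.
-/

set_option autoImplicit false
set_option linter.all false

namespace CfsgLib.Perm.Trans.OrthFrame

open Matrix

variable {F : Type*} [Field F]

/-- left multiplication by a quaternion -/
def Lq (q : Fin 4 → F) : Matrix (Fin 4) (Fin 4) F :=
  !![q 0, -q 1, -q 2, -q 3; q 1, q 0, -q 3, q 2; q 2, q 3, q 0, -q 1; q 3, -q 2, q 1, q 0]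

/-- right multiplication by a quaternion -/
def Rq (q : Fin 4 → F) : Matrix (Fin 4) (Fin 4) F :=
  !![q 0, -q 1, -q 2, -q 3; q 1, q 0, q 3, -q 2; q 2, -q 3, q 0, q 1; q 3, q 2, -q 1, q 0]

/-- the quaternion product -/
def qm (p q : Fin 4 → F) : Fin 4 → F :=
  ![p 0 * q 0 - p 1 * q 1 - p 2 * q 2 - p 3 * q 3, p 0 * q 1 + p 1 * q 0 + p 2 * q 3 - p 3 * q 2,
    p 0 * q 2 - p 1 * q 3 + p 2 * q 0 + p 3 * q 1, p 0 * q 3 + p 1 * q 2 - p 2 * q 1 + p 3 * q 0]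

/-- the conjugate quaternion -/
def qc (q : Fin 4 → F) : Fin 4 → F := ![q 0, -q 1, -q 2, -q 3]

/-- the norm -/
def qn (q : Fin 4 → F) : F := q 0 ^ 2 + q 1 ^ 2 + q 2 ^ 2 + q 3 ^ 2

/-- the imaginary units -/
def ax (a : Fin 3) : Fin 4 → F := Pi.single a.succ 1

/-- the conjugation matrix -/
def Cm : Matrix (Fin 4) (Fin 4) F := Matrix.diagonal ![1, -1, -1, -1]

theorem Lq_mul (p q : Fin 4 → F) : Lq p * Lq q = Lq (qm p q) := by
  ext r s
  fin_cases r <;> fin_cases s <;> (simp [Lq, qm, Matrix.mul_apply, Fin.sum_univ_four] <;> ring)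

theorem Rq_mul (p q : Fin 4 → F) : Rq p * Rq q = Rq (qm q p) := by
  ext r s
  fin_cases r <;> fin_cases s <;> (simp [Rq, qm, Matrix.mul_apply, Fin.sum_univ_four] <;> ring)

theorem Lq_Rq_comm (p q : Fin 4 → F) : Lq p * Rq q = Rq q * Lq p := by
  ext r s
  fin_cases r <;> fin_cases s <;> (simp [Lq, Rq, Matrix.mul_apply, Fin.sum_univ_four] <;> ring)

theorem Lq_transpose (q : Fin 4 → F) : (Lq q)ᵀ = Lq (qc q) := by
  ext r s
  fin_cases r <;> fin_cases s <;> simp [Lq, qc]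

theorem qm_qc (q : Fin 4 → F) : qm (qc q) q = ![qn q, 0, 0, 0] := by
  ext r
  fin_cases r <;> simp [qm, qc, qn] <;> ring

theorem Lq_scalar (c : F) : Lq ![c, 0, 0, 0] = c • (1 : Matrix (Fin 4) (Fin 4) F) := by
  ext r s
  fin_cases r <;> fin_cases s <;> simp [Lq]

theorem Lq_col (q : Fin 4 → F) (r : Fin 4) : Lq q r 0 = q r := by
  fin_cases r <;> simp [Lq]

theorem Rq_col (q : Fin 4 → F) (r : Fin 4) : Rq q r 0 = q r := by
  fin_cases r <;> simp [Rq]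

theorem Cm_Lq (q : Fin 4 → F) : Cm * Lq q * Cm = Rq (qc q) := by
  ext r s
  fin_cases r <;> fin_cases s <;> simp [Cm, Lq, Rq, qc, Matrix.diagonal_mul, Matrix.mul_diagonal]

theorem Cm_Rq (q : Fin 4 → F) : Cm * Rq q * Cm = Lq (qc q) := by
  ext r s
  fin_cases r <;> fin_cases s <;> simp [Cm, Lq, Rq, qc, Matrix.diagonal_mul, Matrix.mul_diagonal]

theorem Cm_sq : Cm * Cm = (1 : Matrix (Fin 4) (Fin 4) F) := by
  rw [Cm, diagonal_mul_diagonal, ← diagonal_one]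
  congr 1
  funext r
  fin_cases r <;> simp

theorem qc_qc (q : Fin 4 → F) : qc (qc q) = q := by
  ext r
  fin_cases r <;> simp [qc]

theorem qn_qc (q : Fin 4 → F) : qn (qc q) = qn q := by simp [qn, qc]

set_option maxHeartbeats 1000000 in
theorem det_four (M : Matrix (Fin 4) (Fin 4) F) : M.det =
    M 0 0 * (M 1 1 * (M 2 2 * M 3 3 - M 2 3 * M 3 2) - M 1 2 * (M 2 1 * M 3 3 - M 2 3 * M 3 1) +
      M 1 3 * (M 2 1 * M 3 2 - M 2 2 * M 3 1)) -
    M 0 1 * (M 1 0 * (M 2 2 * M 3 3 - M 2 3 * M 3 2) - M 1 2 * (M 2 0 * M 3 3 - M 2 3 * M 3 0) +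
      M 1 3 * (M 2 0 * M 3 2 - M 2 2 * M 3 0)) +
    M 0 2 * (M 1 0 * (M 2 1 * M 3 3 - M 2 3 * M 3 1) - M 1 1 * (M 2 0 * M 3 3 - M 2 3 * M 3 0) +
      M 1 3 * (M 2 0 * M 3 1 - M 2 1 * M 3 0)) -
    M 0 3 * (M 1 0 * (M 2 1 * M 3 2 - M 2 2 * M 3 1) - M 1 1 * (M 2 0 * M 3 2 - M 2 2 * M 3 0) +
      M 1 2 * (M 2 0 * M 3 1 - M 2 1 * M 3 0)) := by
  simp [Matrix.det_succ_row_zero, Fin.sum_univ_succ, Fin.succAbove]
  ring

/-- the duality of skew matrices -/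
def star4 (B : Matrix (Fin 4) (Fin 4) F) : Matrix (Fin 4) (Fin 4) F :=
  !![0, B 2 3, B 3 1, B 1 2; B 3 2, 0, B 0 3, B 2 0; B 1 3, B 3 0, 0, B 0 1; B 2 1, B 0 2, B 1 0, 0]

set_option maxHeartbeats 4000000 in
theorem star4_conj (M : Matrix (Fin 4) (Fin 4) F) (b c d : F) :
    Mᵀ * star4 (M * Lq ![0, b, c, d] * Mᵀ) * M = M.det • Lq ![0, b, c, d] := by
  ext r s
  rw [Matrix.smul_apply, det_four]
  fin_cases r <;> fin_cases s <;>
    (simp [Lq, star4, Matrix.mul_apply, Fin.sum_univ_four] <;> ring)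

theorem conj_Lq_im (h2 : (2 : F) ≠ 0) {M : Matrix (Fin 4) (Fin 4) F} (hM : Mᵀ * M = 1) (hd : M.det = 1)
    {u : Fin 4 → F} (hu : u 0 = 0) :
    ∃ v : Fin 4 → F, v 0 = 0 ∧ qn v = qn u ∧ M * Lq u * Mᵀ = Lq v := by
  have hu' : u = ![0, u 1, u 2, u 3] := by
    ext r
    fin_cases r <;> simp [hu]
  obtain ⟨B, hB⟩ : ∃ B, B = M * Lq u * Mᵀ := ⟨_, rfl⟩
  have hskew : Bᵀ = -B := by
    have h1 : qc u = -u := by
      ext r
      fin_cases r <;> simp [qc, hu]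
    have h3 : Lq (-u) = -Lq u := by
      ext r s
      fin_cases r <;> fin_cases s <;> simp [Lq]
    rw [hB, transpose_mul, transpose_mul, transpose_transpose, Lq_transpose, h1, h3, ← Matrix.mul_assoc,
      Matrix.mul_neg, Matrix.neg_mul]
  have hM' : M * Mᵀ = 1 := mul_eq_one_comm.1 hM
  have hstar : star4 B = B := by
    have h1 := star4_conj M (u 1) (u 2) (u 3)
    rw [← hu', hd, one_smul, ← hB] at h1
    calc star4 B = (M * Mᵀ) * star4 B * (M * Mᵀ) := by rw [hM', Matrix.one_mul, Matrix.mul_one]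
      _ = M * (Mᵀ * star4 B * M) * Mᵀ := by simp only [Matrix.mul_assoc]
      _ = B := by rw [h1, hB]
  have hs : ∀ r s, B s r = -B r s := fun r s => congrFun (congrFun hskew r) s
  have hd0 : ∀ r, B r r = 0 := fun r =>
    (mul_eq_zero.1 (show (2 : F) * B r r = 0 by linear_combination hs r r)).resolve_left h2
  have e01 : B 2 3 = B 0 1 := by simpa [star4] using congrFun (congrFun hstar 0) 1
  have e02 : B 3 1 = B 0 2 := by simpa [star4] using congrFun (congrFun hstar 0) 2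
  have e03 : B 1 2 = B 0 3 := by simpa [star4] using congrFun (congrFun hstar 0) 3
  have hBv : B = Lq ![0, B 1 0, B 2 0, B 3 0] := by
    ext r s
    fin_cases r <;> fin_cases s <;> simp [Lq, hd0, hs 0 1, hs 0 2, hs 0 3, hs 1 2, hs 2 3, hs 3 1, e01, e02, e03]
  refine ⟨![0, B 1 0, B 2 0, B 3 0], by simp, ?_, hB ▸ hBv⟩
  have h1 : Bᵀ * B = qn u • (1 : Matrix (Fin 4) (Fin 4) F) := by
    rw [hB, transpose_mul, transpose_mul, transpose_transpose]
    calc M * ((Lq u)ᵀ * Mᵀ) * (M * Lq u * Mᵀ) = M * ((Lq u)ᵀ * (Mᵀ * M) * Lq u) * Mᵀ := by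
          simp only [Matrix.mul_assoc]
      _ = qn u • (1 : Matrix (Fin 4) (Fin 4) F) := by
          rw [hM, Matrix.mul_one, Lq_transpose, Lq_mul, qm_qc, Lq_scalar, Matrix.mul_smul, Matrix.smul_mul,
            Matrix.mul_one, hM']
  rw [hBv, Lq_transpose, Lq_mul, qm_qc, Lq_scalar] at h1
  simpa using congrFun (congrFun h1 0) 0

theorem conj_Rq_im (h2 : (2 : F) ≠ 0) {M : Matrix (Fin 4) (Fin 4) F} (hM : Mᵀ * M = 1) (hd : M.det = 1)
    {u : Fin 4 → F} (hu : u 0 = 0) :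
    ∃ v : Fin 4 → F, v 0 = 0 ∧ qn v = qn u ∧ M * Rq u * Mᵀ = Rq v := by
  have hCt : (Cm : Matrix (Fin 4) (Fin 4) F)ᵀ = Cm := diagonal_transpose _
  have hN : (Cm * M * Cm)ᵀ * (Cm * M * Cm) = (1 : Matrix (Fin 4) (Fin 4) F) := by
    rw [transpose_mul, transpose_mul, hCt]
    calc Cm * (Mᵀ * Cm) * (Cm * M * Cm) = Cm * (Mᵀ * (Cm * Cm) * M) * Cm := by simp only [Matrix.mul_assoc]
      _ = 1 := by rw [Cm_sq, Matrix.mul_one, hM, Matrix.mul_one, Cm_sq]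
  have hNd : (Cm * M * Cm).det = 1 := by
    have h1 := congrArg Matrix.det (Cm_sq (F := F))
    rw [det_mul, det_one] at h1
    rw [det_mul, det_mul, hd, mul_one, h1]
  obtain ⟨v, hv0, hvn, hv⟩ := conj_Lq_im h2 hN hNd (u := qc u) (by simp [qc, hu])
  refine ⟨qc v, by simp [qc, hv0], by rw [qn_qc, hvn, qn_qc], ?_⟩
  rw [← Cm_Lq v, ← hv, transpose_mul, transpose_mul, hCt, show Rq u = Cm * Lq (qc u) * Cm by rw [Cm_Lq, qc_qc]]
  calc M * (Cm * Lq (qc u) * Cm) * Mᵀ = (Cm * Cm) * (M * Cm * Lq (qc u) * (Cm * Mᵀ)) * (Cm * Cm) := by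
        simp only [Cm_sq, Matrix.one_mul, Matrix.mul_one, Matrix.mul_assoc]
    _ = Cm * (Cm * M * Cm * Lq (qc u) * (Cm * (Mᵀ * Cm))) * Cm := by simp only [Matrix.mul_assoc]

end CfsgLib.Perm.Trans.OrthFrame
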