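import Mathlib
import Cfsg.Agent.Lib.Perm.Trans.OrthFrame.Quat
import Cfsg.Agent.Lib.Perm.Trans.OrthFrame.KleinSelf
import Cfsg.Agent.Lib.Perm.Trans.OrthFrame.Mono

/-!
# Frame groups in four dimensions

A non-monomial special orthogonal frame group in four dimensions has an element with all entries `±1/2`.
-/

set_option autoImplicit false
set_option linter.all false

namespace CfsgLib.Perm.Trans.OrthFrame

open scoped Matrix
open Matrix

variable {F : Type*} [Field F]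

/-- all entries of `M` are `±1/2` -/
def Half (M : Matrix (Fin 4) (Fin 4) F) : Prop := ∀ r s, (2 * M r s) ^ 2 = 1

/-- conjugation by `M` carries the line of `X a` to that of `X b` -/
def Rel (X : (Fin 4 → F) → Matrix (Fin 4) (Fin 4) F) (M : Matrix (Fin 4) (Fin 4) F) (a b : Fin 3) : Prop :=
  ∃ c : F, c ^ 2 = 1 ∧ M * X (ax a) * Mᵀ = c • X (ax b)

theorem Rel.mul {X : (Fin 4 → F) → Matrix (Fin 4) (Fin 4) F} {M N : Matrix (Fin 4) (Fin 4) F} {a b d : Fin 3}
    (h : Rel X M b d) (h' : Rel X N a b) : Rel X (M * N) a d := by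
  obtain ⟨c, hc, e⟩ := h
  obtain ⟨c', hc', e'⟩ := h'
  refine ⟨c' * c, by rw [mul_pow, hc, hc', one_mul], ?_⟩
  rw [transpose_mul, show M * N * X (ax a) * (Nᵀ * Mᵀ) = M * (N * X (ax a) * Nᵀ) * Mᵀ by
    simp only [Matrix.mul_assoc], e', Matrix.mul_smul, Matrix.smul_mul, e, smul_smul]

theorem Rel.symm {X : (Fin 4 → F) → Matrix (Fin 4) (Fin 4) F} {M : Matrix (Fin 4) (Fin 4) F} (hM : Mᵀ * M = 1)
    {a b : Fin 3} (h : Rel X M a b) : Rel X Mᵀ b a := by
  obtain ⟨c, hc, e⟩ := h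
  refine ⟨c, hc, ?_⟩
  rw [transpose_transpose]
  have h1 : Mᵀ * (c • X (ax b)) * M = X (ax a) := by
    rw [← e, show Mᵀ * (M * X (ax a) * Mᵀ) * M = (Mᵀ * M) * X (ax a) * (Mᵀ * M) by simp only [Matrix.mul_assoc], hM,
      Matrix.one_mul, Matrix.mul_one]
  rw [Matrix.mul_smul, Matrix.smul_mul] at h1
  rw [← h1, smul_smul, ← pow_two, hc, one_smul]

theorem Lq_smul (c : F) (q : Fin 4 → F) : Lq (c • q) = c • Lq q := by
  ext r s
  fin_cases r <;> fin_cases s <;> simp [Lq]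

theorem Rq_smul (c : F) (q : Fin 4 → F) : Rq (c • q) = c • Rq q := by
  ext r s
  fin_cases r <;> fin_cases s <;> simp [Rq]

theorem Lq_inj {p q : Fin 4 → F} (h : Lq p = Lq q) : p = q := funext fun r => by rw [← Lq_col p, h, Lq_col]

theorem Rq_inj {p q : Fin 4 → F} (h : Rq p = Rq q) : p = q := funext fun r => by rw [← Rq_col p, h, Rq_col]

theorem ax_zero (a : Fin 3) : (ax a : Fin 4 → F) 0 = 0 := by
  fin_cases a <;> simp [ax]

theorem ax_ne (a : Fin 3) : (ax a : Fin 4 → F) ≠ 0 := fun h => by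
  simpa [ax] using congrFun h a.succ

theorem qn_ax (a : Fin 3) : qn (ax a : Fin 4 → F) = 1 := by
  fin_cases a <;> simp [qn, ax]

theorem ax_smul_inj {c d : F} {a b : Fin 3} (hc : c ≠ 0) (h : c • (ax a : Fin 4 → F) = d • ax b) : a = b ∧ c = d := by
  have h1 := congrFun h a.succ
  simp only [Pi.smul_apply, smul_eq_mul, ax, Pi.single_eq_same, mul_one] at h1
  rcases eq_or_ne a b with rfl | hab
  · exact ⟨rfl, by simpa using h1⟩
  · rw [Pi.single_eq_of_ne (fun e => hab (Fin.succ_injective _ e)), mul_zero] at h1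
    exact absurd h1 hc

theorem rel_inj {X : (Fin 4 → F) → Matrix (Fin 4) (Fin 4) F} (hX : ∀ p q, X p = X q → p = q)
    (hs : ∀ (c : F) q, X (c • q) = c • X q) {M : Matrix (Fin 4) (Fin 4) F} (hM : Mᵀ * M = 1) {π : Fin 3 → Fin 3}
    (h : ∀ a, Rel X M a (π a)) : Function.Injective π := by
  intro a b hab
  obtain ⟨c, hc, e⟩ := (h a).symm hM
  obtain ⟨c', hc', e'⟩ := (h b).symm hM
  rw [hab, e'] at e
  rw [← hs, ← hs] at e
  exact (ax_smul_inj (fun hh => by rw [hh] at hc'; norm_num at hc') (hX _ _ e)).1.symm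

/-- the regular four-group action -/
def xor4 (r k : Fin 4) : Fin 4 := ![![0, 1, 2, 3], ![1, 0, 3, 2], ![2, 3, 0, 1], ![3, 2, 1, 0]] r k

/-- the third index -/
def third (b c : Fin 3) : Fin 3 := -(b + c)

theorem LR_apply {b c : Fin 3} (hbc : b ≠ c) (y : Fin 4 → F) (r : Fin 4) :
    ((Lq (ax b) * Rq (ax c)) *ᵥ y) r ^ 2 = y (xor4 r (third b c).succ) ^ 2 := by
  fin_cases b <;> fin_cases c <;> first | exact absurd rfl hbc | skip
  all_goals fin_cases r <;>
    simp [Lq, Rq, ax, xor4, third, Matrix.mulVec, dotProduct, Matrix.mul_apply, Fin.sum_univ_four]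

theorem LR_diag (a : Fin 3) : ∃ d : Fin 4 → F, (∀ r, d r ^ 2 = 1) ∧
    Lq (ax a) * Rq (ax a) = Matrix.diagonal d := by
  fin_cases a
  · refine ⟨![-1, -1, 1, 1], fun r => by fin_cases r <;> simp, ?_⟩
    ext r s
    fin_cases r <;> fin_cases s <;> simp [Lq, Rq, ax, Matrix.mul_apply, Fin.sum_univ_four]
  · refine ⟨![-1, 1, -1, 1], fun r => by fin_cases r <;> simp, ?_⟩
    ext r s
    fin_cases r <;> fin_cases s <;> simp [Lq, Rq, ax, Matrix.mul_apply, Fin.sum_univ_four]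
  · refine ⟨![-1, 1, 1, -1], fun r => by fin_cases r <;> simp, ?_⟩
    ext r s
    fin_cases r <;> fin_cases s <;> simp [Lq, Rq, ax, Matrix.mul_apply, Fin.sum_univ_four]

theorem xor4_cover : ∀ f : Fin 3 → Fin 3, Function.Injective f → ∀ r : Fin 4, r = 0 ∨ ∃ a, xor4 0 (f a).succ = r := by
  unfold Function.Injective xor4
  decide +kernel

theorem third_inj : ∀ π ρ : Fin 3 → Fin 3, Function.Injective π → Function.Injective ρ → (∀ a, π a ≠ ρ a) →
    Function.Injective fun a => third (π a) (ρ a) := by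
  unfold Function.Injective third
  decide +kernel

theorem half_of_derangement (h2 : (2 : F) ≠ 0) {M : Matrix (Fin 4) (Fin 4) F} (hM : Mᵀ * M = 1) {π ρ : Fin 3 → Fin 3}
    (hπ : ∀ a, Rel Lq M a (π a)) (hρ : ∀ a, Rel Rq M a (ρ a)) (hne : ∀ a, π a ≠ ρ a) : Half M := by
  intro r m
  obtain ⟨y, hy⟩ : ∃ y, y = fun r => M r m := ⟨_, rfl⟩
  have key : ∀ a, y 0 ^ 2 = y (xor4 0 (third (π a) (ρ a)).succ) ^ 2 := fun a => by
    obtain ⟨c, hc, e⟩ := hπ a
    obtain ⟨c', hc', e'⟩ := hρ a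
    obtain ⟨d, hd, hde⟩ := LR_diag (F := F) a
    have h1 : (c * c') • (Lq (ax (π a)) * Rq (ax (ρ a))) * M = M * Matrix.diagonal d := by
      rw [← hde, ← smul_mul_smul_comm, ← e, ← e', show M * Lq (ax a) * Mᵀ * (M * Rq (ax a) * Mᵀ) * M =
        M * (Lq (ax a) * (Mᵀ * M) * Rq (ax a) * (Mᵀ * M)) by simp only [Matrix.mul_assoc], hM, Matrix.mul_one,
        Matrix.mul_one]
    have h3 := congrFun (congrFun h1 0) m
    have h5 : (Lq (ax (π a)) * Rq (ax (ρ a)) * M : Matrix (Fin 4) (Fin 4) F) 0 m =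
        ((Lq (ax (π a)) * Rq (ax (ρ a)) : Matrix (Fin 4) (Fin 4) F) *ᵥ y) 0 := by
      rw [hy]; rfl
    rw [Matrix.mul_diagonal, Matrix.smul_mul, Matrix.smul_apply, smul_eq_mul, h5] at h3
    have h4 := congrArg (· ^ 2) h3
    simp only [mul_pow, hc, hc', hd, one_mul, mul_one, LR_apply (hne a)] at h4
    subst hy
    exact h4.symm
  have hall : ∀ r, y r ^ 2 = y 0 ^ 2 := fun r => by
    rcases xor4_cover _ (third_inj π ρ (rel_inj (fun _ _ => Lq_inj) Lq_smul hM hπ)
      (rel_inj (fun _ _ => Rq_inj) Rq_smul hM hρ) hne) r with rfl | ⟨a, ha⟩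
    · rfl
    · rw [← ha]; exact (key a).symm
  have h1 := congrFun (congrFun hM m) m
  rw [Matrix.mul_apply, Fin.sum_univ_four, Matrix.one_apply_eq] at h1
  simp only [Matrix.transpose_apply] at h1
  have hy' : ∀ r, M r m ^ 2 = y 0 ^ 2 := fun r => by rw [← hall r, hy]
  linear_combination h1 + 4 * hy' r - hy' 0 - hy' 1 - hy' 2 - hy' 3

/-- the inverse of an injective self-map of three points -/
def inv3 (π : Fin 3 → Fin 3) (b : Fin 3) : Fin 3 := if π 0 = b then 0 else if π 1 = b then 1 else 2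

/-- the commutator with the cyclic shift -/
def comm3 (π : Fin 3 → Fin 3) (b : Fin 3) : Fin 3 := π (inv3 π (b - 1) + 1)

theorem inv3_spec : ∀ π : Fin 3 → Fin 3, Function.Injective π → ∀ b, π (inv3 π b) = b := by
  unfold Function.Injective inv3
  decide +kernel

theorem comm3_ne : ∀ π ρ : Fin 3 → Fin 3, Function.Injective π → Function.Injective ρ → (∃ a, π a = ρ a) → π ≠ ρ →
    ∀ b, comm3 π b ≠ comm3 ρ b := by
  unfold Function.Injective comm3 inv3
  decide +kernel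

/-- a four-dimensional special orthogonal frame group -/
structure FrameFour (K : Subgroup (GL (Fin 4) F)) : Prop where
  orth : ∀ g ∈ K, (g : Matrix (Fin 4) (Fin 4) F)ᵀ * (g : Matrix (Fin 4) (Fin 4) F) = 1
  det_one : ∀ g ∈ K, (g : Matrix (Fin 4) (Fin 4) F).det = 1
  flp_mem : ∀ a b : Fin 4, a ≠ b → flp {a, b} ∈ K
  pm_mem : ∀ σ : Equiv.Perm (Fin 4), Equiv.Perm.sign σ = 1 → pm σ ∈ K
  cc_mem : ∀ g ∈ K, flp {1, 2, 3} * g * flp {1, 2, 3} ∈ K

theorem flp_val (D : Finset (Fin 4)) :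
    ((flp D : GL (Fin 4) F) : Matrix (Fin 4) (Fin 4) F) = Matrix.diagonal fun i => if i ∈ D then -1 else 1 := rfl

theorem flp_cc : ((flp {1, 2, 3} : GL (Fin 4) F) : Matrix (Fin 4) (Fin 4) F) = Cm := by
  rw [flp_val, Cm]
  congr 1
  funext i
  fin_cases i <;> simp

theorem pm_val {ι : Type} [Fintype ι] [DecidableEq ι] (σ : Equiv.Perm ι) (r s : ι) :
    ((pm σ : GL ι F) : Matrix ι ι F) r s = if r = σ s then 1 else 0 := by
  have h := congrFun (pm_bv (F := F) σ s) r
  simpa [act, bv, Pi.single_apply] using h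

/-- the cyclic permutation of the imaginary units -/
def cyc : Equiv.Perm (Fin 4) := Equiv.swap 1 2 * Equiv.swap 2 3

theorem rel_cyc_L (a : Fin 3) : Rel Lq ((pm cyc : GL (Fin 4) F) : Matrix (Fin 4) (Fin 4) F) a (a + 1) := by
  refine ⟨1, one_pow _, ?_⟩
  rw [one_smul]
  ext r s
  fin_cases a <;> fin_cases r <;> fin_cases s <;>
    simp [Lq, ax, cyc, pm_val, Matrix.mul_apply, Fin.sum_univ_four, Equiv.swap_apply_def, Pi.single_apply]

theorem rel_cyc_R (a : Fin 3) : Rel Rq ((pm cyc : GL (Fin 4) F) : Matrix (Fin 4) (Fin 4) F) a (a + 1) := by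
  refine ⟨1, one_pow _, ?_⟩
  rw [one_smul]
  ext r s
  fin_cases a <;> fin_cases r <;> fin_cases s <;>
    simp [Rq, ax, cyc, pm_val, Matrix.mul_apply, Fin.sum_univ_four, Equiv.swap_apply_def, Pi.single_apply]

theorem exists_Lq_ax {K : Subgroup (GL (Fin 4) F)} (hK : FrameFour K) (a : Fin 3) :
    ∃ g ∈ K, (g : Matrix (Fin 4) (Fin 4) F) = Lq (ax a) := by
  fin_cases a
  · refine ⟨pm (Equiv.swap 0 1 * Equiv.swap 2 3) * flp {1, 3},
      mul_mem (hK.pm_mem _ (by decide)) (hK.flp_mem 1 3 (by decide)), ?_⟩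
    ext r s
    fin_cases r <;> fin_cases s <;>
      simp [-map_mul, Lq, ax, pm_val, flp_val, Matrix.mul_diagonal, Equiv.swap_apply_def, Equiv.Perm.mul_apply]
  · refine ⟨pm (Equiv.swap 0 2 * Equiv.swap 1 3) * flp {1, 2},
      mul_mem (hK.pm_mem _ (by decide)) (hK.flp_mem 1 2 (by decide)), ?_⟩
    ext r s
    fin_cases r <;> fin_cases s <;>
      simp [-map_mul, Lq, ax, pm_val, flp_val, Matrix.mul_diagonal, Equiv.swap_apply_def, Equiv.Perm.mul_apply]
  · refine ⟨pm (Equiv.swap 0 3 * Equiv.swap 1 2) * flp {2, 3},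
      mul_mem (hK.pm_mem _ (by decide)) (hK.flp_mem 2 3 (by decide)), ?_⟩
    ext r s
    fin_cases r <;> fin_cases s <;>
      simp [-map_mul, Lq, ax, pm_val, flp_val, Matrix.mul_diagonal, Equiv.swap_apply_def, Equiv.Perm.mul_apply]

theorem FrameFour.inv_val {K : Subgroup (GL (Fin 4) F)} (hK : FrameFour K) {g : GL (Fin 4) F} (hg : g ∈ K) :
    ((g⁻¹ : GL (Fin 4) F) : Matrix (Fin 4) (Fin 4) F) = (g : Matrix (Fin 4) (Fin 4) F)ᵀ := by
  rw [Matrix.coe_units_inv]
  exact Matrix.inv_eq_left_inv (hK.orth g hg)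

/-- different permutations of the two triples of axes give an element with entries `±1/2` -/
theorem FrameFour.half_of_perm (h2 : (2 : F) ≠ 0) {K : Subgroup (GL (Fin 4) F)} (hK : FrameFour K)
    {g : GL (Fin 4) F} (hg : g ∈ K) {π ρ : Fin 3 → Fin 3}
    (hπ : ∀ a, Rel Lq (g : Matrix (Fin 4) (Fin 4) F) a (π a)) (hρ : ∀ a, Rel Rq (g : Matrix (Fin 4) (Fin 4) F) a (ρ a))
    (hne : π ≠ ρ) : ∃ h ∈ K, Half (h : Matrix (Fin 4) (Fin 4) F) := by
  by_cases hd : ∀ a, π a ≠ ρ a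
  · exact ⟨g, hg, half_of_derangement h2 (hK.orth g hg) hπ hρ hd⟩
  push Not at hd
  have hπi := rel_inj (fun _ _ => Lq_inj) Lq_smul (hK.orth g hg) hπ
  have hρi := rel_inj (fun _ _ => Rq_inj) Rq_smul (hK.orth g hg) hρ
  have hw : (pm cyc : GL (Fin 4) F) ∈ K := hK.pm_mem _ (by decide)
  obtain ⟨h, hh⟩ : ∃ h, h = g * pm cyc * g⁻¹ * (pm cyc)⁻¹ := ⟨_, rfl⟩
  have hhK : h ∈ K := hh ▸ mul_mem (mul_mem (mul_mem hg hw) (inv_mem hg)) (inv_mem hw)
  have hwo := hK.orth _ hw
  have hgo := hK.orth _ hg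
  have hb1 : ∀ b : Fin 3, b - 1 + 1 = b := fun b => sub_add_cancel b 1
  refine ⟨h, hhK, half_of_derangement h2 (hK.orth h hhK) (π := comm3 π) (ρ := comm3 ρ) (fun b => ?_) (fun b => ?_)
    (comm3_ne π ρ hπi hρi hd hne)⟩
  · rw [hh, Units.val_mul, Units.val_mul, Units.val_mul, hK.inv_val hg, hK.inv_val hw]
    refine Rel.mul (Rel.mul (Rel.mul (hπ _) (rel_cyc_L (inv3 π (b - 1)))) ?_) ((?_ : Rel Lq _ b (b - 1)))
    · have := (hπ (inv3 π (b - 1))).symm hgo
      rwa [inv3_spec π hπi] at this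
    · have := (rel_cyc_L (F := F) (b - 1)).symm hwo
      rwa [hb1] at this
  · rw [hh, Units.val_mul, Units.val_mul, Units.val_mul, hK.inv_val hg, hK.inv_val hw]
    refine Rel.mul (Rel.mul (Rel.mul (hρ _) (rel_cyc_R (inv3 ρ (b - 1)))) ?_) ((?_ : Rel Rq _ b (b - 1)))
    · have := (hρ (inv3 ρ (b - 1))).symm hgo
      rwa [inv3_spec ρ hρi] at this
    · have := (rel_cyc_R (F := F) (b - 1)).symm hwo
      rwa [hb1] at this

variable [Fintype F]

/-- the image of a quaternion in two dimensions -/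
def Qtwo (α β : F) (q : Fin 4 → F) : Matrix (Fin 2) (Fin 2) F :=
  !![q 0 + α * q 2 + β * q 3, q 1 + β * q 2 - α * q 3; -(q 1) + β * q 2 - α * q 3, q 0 - α * q 2 - β * q 3]

theorem Qtwo_mul {α β : F} (hab : α ^ 2 + β ^ 2 = -1) (p q : Fin 4 → F) :
    Qtwo α β (qm p q) = Qtwo α β p * Qtwo α β q := by
  ext r s
  fin_cases r <;> fin_cases s
  · simp [Qtwo, qm, Matrix.mul_apply, Fin.sum_univ_two]
    linear_combination -(p 2 * q 2 + p 3 * q 3) * hab
  · simp [Qtwo, qm, Matrix.mul_apply, Fin.sum_univ_two]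
    linear_combination (p 2 * q 3 - p 3 * q 2) * hab
  · simp [Qtwo, qm, Matrix.mul_apply, Fin.sum_univ_two]
    linear_combination -(p 2 * q 3 - p 3 * q 2) * hab
  · simp [Qtwo, qm, Matrix.mul_apply, Fin.sum_univ_two]
    linear_combination -(p 2 * q 2 + p 3 * q 3) * hab

theorem Qtwo_det {α β : F} (hab : α ^ 2 + β ^ 2 = -1) (q : Fin 4 → F) : (Qtwo α β q).det = qn q := by
  rw [Matrix.det_fin_two]
  simp [Qtwo, qn]
  linear_combination -(q 2 ^ 2 + q 3 ^ 2) * hab

theorem Qtwo_inj (h2 : (2 : F) ≠ 0) {α β : F} (hab : α ^ 2 + β ^ 2 = -1) {p q : Fin 4 → F}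
    (h : Qtwo α β p = Qtwo α β q) : p = q := by
  have e1 := congrFun (congrFun h 0) 0
  have e2 := congrFun (congrFun h 0) 1
  have e3 := congrFun (congrFun h 1) 0
  have e4 := congrFun (congrFun h 1) 1
  simp [Qtwo] at e1 e2 e3 e4
  have k0 : p 0 = q 0 := mul_left_cancel₀ h2 (by linear_combination e1 + e4)
  have k1 : p 1 = q 1 := mul_left_cancel₀ h2 (by linear_combination e2 - e3)
  have k2 : p 2 = q 2 := mul_left_cancel₀ h2 (by
    linear_combination -α * (e1 - e4) - β * (e2 + e3) + 2 * (p 2 - q 2) * hab)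
  have k3 : p 3 = q 3 := mul_left_cancel₀ h2 (by
    linear_combination -β * (e1 - e4) + α * (e2 + e3) + 2 * (p 3 - q 3) * hab)
  ext r
  fin_cases r <;> assumption

/-- the order of an element of order `p` and that of an involution are incompatible -/
theorem no_commuting (h2 : (2 : F) ≠ 0) (hp : (Fintype.card F).Prime) (hodd : Odd (Fintype.card F))
    (a y : Matrix.ProjectiveSpecialLinearGroup (Fin 2) F) (ha : a * a = 1) (ha1 : a ≠ 1)
    (hy : y ^ Fintype.card F = 1) (hy1 : y ≠ 1) : a * y ≠ y * a := by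
  obtain ⟨A, rfl⟩ := QuotientGroup.mk'_surjective _ a
  obtain ⟨Y, rfl⟩ := QuotientGroup.mk'_surjective _ y
  intro hc
  haveI : CharP F (Fintype.card F) := by
    obtain ⟨c, hc⟩ := CharP.exists F
    obtain ⟨n, hcp, hcn⟩ := FiniteField.card F c
    have : Fintype.card F = c := ((Nat.prime_dvd_prime_iff_eq hcp hp).1 (hcn ▸ dvd_pow_self c n.ne_zero)).symm
    rwa [this]
  haveI : Fact (Fintype.card F).Prime := ⟨hp⟩
  have hcen : ∀ Z : Matrix.SpecialLinearGroup (Fin 2) F, Z ∈ Subgroup.center (Matrix.SpecialLinearGroup (Fin 2) F) ↔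
      ((Z : Matrix (Fin 2) (Fin 2) F) = 1 ∨ (Z : Matrix (Fin 2) (Fin 2) F) = -1) := by
    intro Z
    rw [Matrix.SpecialLinearGroup.mem_center_iff]
    constructor
    · rintro ⟨r, hr, hZ⟩
      rw [← hZ]
      rw [Fintype.card_fin] at hr
      rcases sq_eq_one_iff.1 hr with rfl | rfl
      · left; simp
      · right; ext i j; fin_cases i <;> fin_cases j <;> simp
    · rintro (h | h)
      · exact ⟨1, one_pow _, by rw [h]; simp⟩
      · refine ⟨-1, by rw [Fintype.card_fin]; norm_num, ?_⟩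
        rw [h]; ext i j; fin_cases i <;> fin_cases j <;> simp
  have hA2 := (hcen _).1 ((QuotientGroup.eq_one_iff _).1 (ha : ((A * A : Matrix.SpecialLinearGroup (Fin 2) F) :
    Matrix.ProjectiveSpecialLinearGroup (Fin 2) F) = 1))
  have hA1 : ¬ ((A : Matrix (Fin 2) (Fin 2) F) = 1 ∨ (A : Matrix (Fin 2) (Fin 2) F) = -1) := fun h =>
    ha1 ((QuotientGroup.eq_one_iff _).2 ((hcen A).2 h))
  have hY1 : ¬ ((Y : Matrix (Fin 2) (Fin 2) F) = 1 ∨ (Y : Matrix (Fin 2) (Fin 2) F) = -1) := fun h =>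
    hy1 ((QuotientGroup.eq_one_iff _).2 ((hcen Y).2 h))
  have hYp := (hcen _).1 ((QuotientGroup.eq_one_iff _).1 (hy : ((Y ^ Fintype.card F :
    Matrix.SpecialLinearGroup (Fin 2) F) : Matrix.ProjectiveSpecialLinearGroup (Fin 2) F) = 1))
  have hAY := (hcen _).1 ((QuotientGroup.eq).1 (hc.symm : ((Y * A : Matrix.SpecialLinearGroup (Fin 2) F) :
    Matrix.ProjectiveSpecialLinearGroup (Fin 2) F) = ((A * Y : Matrix.SpecialLinearGroup (Fin 2) F) : _)))
  obtain ⟨M, hM⟩ : ∃ M, M = (A : Matrix (Fin 2) (Fin 2) F) := ⟨_, rfl⟩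
  obtain ⟨a₀, hMa⟩ : ∃ x, x = M 0 0 := ⟨_, rfl⟩
  obtain ⟨b₀, hMb⟩ : ∃ x, x = M 0 1 := ⟨_, rfl⟩
  obtain ⟨c₀, hMc⟩ : ∃ x, x = M 1 0 := ⟨_, rfl⟩
  have hdA : M 0 0 * M 1 1 - M 0 1 * M 1 0 = 1 := by rw [hM, ← Matrix.det_fin_two]; exact A.2
  rw [Matrix.SpecialLinearGroup.coe_mul, ← hM] at hA2
  rw [← hM] at hA1
  have htr : M 1 1 = -M 0 0 := by
    rcases hA2 with h | h <;> [skip; skip] <;>
      have e1 := congrFun (congrFun h 0) 0 <;> have e2 := congrFun (congrFun h 0) 1 <;>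
      have e3 := congrFun (congrFun h 1) 0 <;> have e4 := congrFun (congrFun h 1) 1 <;>
      simp [Matrix.mul_apply, Fin.sum_univ_two] at e1 e2 e3 e4
    · -- the square of a non-central element of determinant one is not one
      exfalso
      have hb : M 0 1 = 0 := by
        by_contra hb
        have ht : M 0 0 + M 1 1 = 0 := (mul_eq_zero.1 (show M 0 1 * (M 0 0 + M 1 1) = 0 by linear_combination e2)).resolve_left hb
        exact h2 (by linear_combination -hdA - e1 + M 0 0 * ht)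
      have hc0 : M 1 0 = 0 := by
        by_contra hc0
        have ht : M 0 0 + M 1 1 = 0 := (mul_eq_zero.1 (show M 1 0 * (M 0 0 + M 1 1) = 0 by linear_combination e3)).resolve_left hc0
        exact h2 (by linear_combination -hdA - e1 + M 0 0 * ht)
      have had : M 0 0 = M 1 1 := by
        linear_combination -(M 0 0) * hdA + M 1 1 * e1 - M 1 0 * (M 0 0 + M 1 1) * hb
      rcases mul_self_eq_one_iff.1 (show M 0 0 * M 0 0 = 1 by linear_combination hdA + M 1 0 * hb + M 0 0 * had) with h' | h'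
      · exact hA1 (Or.inl (by ext i j; fin_cases i <;> fin_cases j <;> simp [hb, hc0, h', ← had]))
      · exact hA1 (Or.inr (by ext i j; fin_cases i <;> fin_cases j <;> simp [hb, hc0, h', ← had]))
    · have h5 : M 0 0 * (M 0 0 + M 1 1) = 0 := by linear_combination e1 + hdA
      have h6 : M 1 1 * (M 0 0 + M 1 1) = 0 := by linear_combination e4 + hdA
      have h7 : (M 0 0 + M 1 1) ^ 2 = 0 := by linear_combination h5 + h6
      exact eq_neg_of_add_eq_zero_right ((pow_eq_zero_iff two_ne_zero).1 h7)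
  obtain ⟨Z, hZ, hZp, hZ1, hZc⟩ : ∃ Z : Matrix (Fin 2) (Fin 2) F, Z.det = 1 ∧ Z ^ Fintype.card F = 1 ∧ Z ≠ 1 ∧
      (M * Z = Z * M ∨ M * Z = -(Z * M)) := by
    have hAY' : M * (Y : Matrix (Fin 2) (Fin 2) F) = (Y : Matrix (Fin 2) (Fin 2) F) * M ∨
        M * (Y : Matrix (Fin 2) (Fin 2) F) = -((Y : Matrix (Fin 2) (Fin 2) F) * M) := by
      obtain ⟨R, hR⟩ : ∃ R, R = (Y * A)⁻¹ * (A * Y) := ⟨_, rfl⟩
      rw [← hR] at hAY
      have h1 : A * Y = Y * A * R := by rw [hR, mul_inv_cancel_left]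
      have h3 := congrArg (Subtype.val : Matrix.SpecialLinearGroup (Fin 2) F → Matrix (Fin 2) (Fin 2) F) h1
      simp only [Matrix.SpecialLinearGroup.coe_mul] at h3
      rcases hAY with h | h
      · left; rw [hM, h3, h, Matrix.mul_one]
      · right; rw [hM, h3, h, Matrix.mul_neg, Matrix.mul_one]
    have hYd : (Y : Matrix (Fin 2) (Fin 2) F).det = 1 := Y.2
    rw [Matrix.SpecialLinearGroup.coe_pow] at hYp
    rcases hYp with h | h
    · exact ⟨_, hYd, h, fun e => hY1 (Or.inl e), hAY'⟩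
    · refine ⟨-(Y : Matrix (Fin 2) (Fin 2) F), by rw [Matrix.det_neg, Fintype.card_fin, hYd]; norm_num,
        by rw [hodd.neg_pow, h, neg_neg], fun e => hY1 (Or.inr (neg_eq_iff_eq_neg.1 e)), ?_⟩
      rw [Matrix.mul_neg, Matrix.neg_mul, neg_neg, neg_inj, neg_eq_iff_eq_neg]
      exact hAY'
  have hN : (Z - 1) ^ Fintype.card F = 0 := by
    rw [sub_pow_char_of_commute (p := Fintype.card F) (h := Commute.one_right Z), hZp, one_pow, sub_self]
  have hNd : (Z - 1).det = 0 := by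
    have h1 := congrArg Matrix.det hN
    rw [Matrix.det_pow, Matrix.det_zero] at h1
    exact eq_zero_of_pow_eq_zero h1
  rw [Matrix.det_fin_two] at hNd hZ
  simp only [Matrix.sub_apply, Matrix.one_apply_eq, ne_eq, Fin.zero_eq_one_iff, OfNat.ofNat_ne_one, not_false_eq_true,
    Matrix.one_apply_ne, sub_zero, Fin.one_eq_zero_iff] at hNd
  have htZ : Z 0 0 + Z 1 1 = 2 := by linear_combination hZ - hNd
  have hdM : M 0 0 * M 0 0 + M 0 1 * M 1 0 = -1 := by rw [htr] at hdA; linear_combination -hdA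
  rcases hZc with h | h <;>
    have e1 := congrFun (congrFun h 0) 0 <;> have e2 := congrFun (congrFun h 0) 1 <;>
    have e3 := congrFun (congrFun h 1) 0 <;> have e4 := congrFun (congrFun h 1) 1 <;>
    simp [Matrix.mul_apply, Fin.sum_univ_two, htr] at e1 e2 e3 e4
  · obtain ⟨x, hx⟩ : ∃ x, x = Z 0 0 - 1 := ⟨_, rfl⟩
    have hxd : Z 1 1 = 1 - x := by linear_combination htZ + hx
    have hxa : Z 0 0 = 1 + x := by linear_combination -hx
    rw [hxd, hxa] at e2 e3
    rw [hxd, hxa] at hNd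
    have hx0 : x = 0 := (pow_eq_zero_iff two_ne_zero).1 (show x ^ 2 = 0 from by
      have k1 : M 0 1 * x = M 0 0 * Z 0 1 := mul_left_cancel₀ h2 (by linear_combination -e2)
      have k2 : M 1 0 * x = M 0 0 * Z 1 0 := mul_left_cancel₀ h2 (by linear_combination e3)
      linear_combination x ^ 2 * hdM - (M 1 0 * x) * k1 - (M 0 0 * Z 0 1) * k2 + M 0 0 ^ 2 * hNd)
    rw [hx0] at hxa hxd hNd e2 e3
    have hy0 : Z 0 1 = 0 := by
      have k0 : M 0 0 * Z 0 1 = 0 := mul_left_cancel₀ h2 (by linear_combination e2)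
      have k1 : M 0 1 * Z 1 0 = M 1 0 * Z 0 1 := by linear_combination e1
      have k2 : Z 0 1 * Z 1 0 = 0 := by linear_combination -hNd
      refine (pow_eq_zero_iff two_ne_zero).1 ?_
      linear_combination Z 0 1 ^ 2 * hdM - (M 0 0 * Z 0 1) * k0 - M 0 1 * M 0 1 * k2 + M 0 1 * Z 0 1 * k1
    have hz0 : Z 1 0 = 0 := by
      have k0 : M 0 0 * Z 1 0 = 0 := mul_left_cancel₀ h2 (by linear_combination -e3)
      have k1 : M 0 1 * Z 1 0 = M 1 0 * Z 0 1 := by linear_combination e1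
      rw [hy0] at k1
      refine (pow_eq_zero_iff two_ne_zero).1 ?_
      linear_combination Z 1 0 ^ 2 * hdM - (M 0 0 * Z 1 0) * k0 - (M 1 0 * Z 1 0) * k1
    exact hZ1 (by ext i j; fin_cases i <;> fin_cases j <;> simp [hxa, hxd, hy0, hz0])
  · have hb : M 0 1 * (Z 0 0 + Z 1 1) = 0 := by linear_combination e2
    have hc0 : M 1 0 * (Z 0 0 + Z 1 1) = 0 := by linear_combination e3
    rw [htZ] at hb hc0
    have hb' := (mul_eq_zero.1 hb).resolve_right h2
    have hc' := (mul_eq_zero.1 hc0).resolve_right h2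
    rw [hb', hc'] at e1 e4 hdM
    have ha0 : M 0 0 * (Z 0 0 + Z 1 1) = 0 := mul_left_cancel₀ h2 (by linear_combination e1 - e4)
    rw [htZ] at ha0
    rw [(mul_eq_zero.1 ha0).resolve_right h2] at hdM
    norm_num at hdM

/-- left multiplications in the group only by units, up to sign, or there is an element with entries `±1/2` -/
theorem FrameFour.basic_or_half (hp : (Fintype.card F).Prime) (hodd : Odd (Fintype.card F)) (h2 : (2 : F) ≠ 0)
    {K : Subgroup (GL (Fin 4) F)} (hK : FrameFour K) {g₀ : GL (Fin 4) F} (hg₀ : g₀ ∈ K) {v : Fin 4 → F}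
    (hv0 : v 0 = 0) (hgv : (g₀ : Matrix (Fin 4) (Fin 4) F) = Lq v) :
    (∃ (c : F) (b : Fin 3), v = c • ax b) ∨ ∃ h ∈ K, Half (h : Matrix (Fin 4) (Fin 4) F) := by
  classical
  by_contra hcon
  rw [not_or] at hcon
  obtain ⟨hnb, hno⟩ := hcon
  haveI : Fact (Fintype.card F).Prime := ⟨hp⟩
  haveI : CharP F (Fintype.card F) := by
    obtain ⟨c, hc⟩ := CharP.exists F
    obtain ⟨n, hcp, hcn⟩ := FiniteField.card F c
    have : Fintype.card F = c := ((Nat.prime_dvd_prime_iff_eq hcp hp).1 (hcn ▸ dvd_pow_self c n.ne_zero)).symm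
    rwa [this]
  haveI : NeZero (Fintype.card F) := ⟨Fintype.card_ne_zero⟩
  obtain ⟨α₀, β₀, hab₀⟩ := CharP.sq_add_sq F (Fintype.card F) (-1)
  obtain ⟨α, β, hab⟩ : ∃ α β : F, α ^ 2 + β ^ 2 = -1 := ⟨α₀, β₀, by simpa using hab₀⟩
  let Kl : Subgroup (GL (Fin 4) F) :=
    { carrier := {g | g ∈ K ∧ ∃ q, qn q = 1 ∧ (g : Matrix (Fin 4) (Fin 4) F) = Lq q}
      one_mem' := ⟨one_mem K, ![1, 0, 0, 0], by simp [qn], by rw [Units.val_one, Lq_scalar, one_smul]⟩
      mul_mem' := by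
        rintro a b ⟨ha, p, hp', hap⟩ ⟨hb, q, hq', hbq⟩
        refine ⟨mul_mem ha hb, qm p q, ?_, by rw [Units.val_mul, hap, hbq, Lq_mul]⟩
        have e : qn (qm p q) = qn p * qn q := by simp [qn, qm]; ring
        rw [e, hp', hq', one_mul]
      inv_mem' := by
        rintro a ⟨ha, p, hp', hap⟩
        exact ⟨inv_mem ha, qc p, by rw [qn_qc, hp'], by rw [hK.inv_val ha, hap, Lq_transpose]⟩ }
  let q' : Kl → (Fin 4 → F) := fun g r => (g.1 : Matrix (Fin 4) (Fin 4) F) r 0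
  have hq' : ∀ g : Kl, qn (q' g) = 1 ∧ (g.1 : Matrix (Fin 4) (Fin 4) F) = Lq (q' g) := fun g => by
    obtain ⟨-, q, hq, hgq⟩ := g.2
    have e : q' g = q := funext fun r => by simp only [q']; rw [hgq, Lq_col]
    rw [e]
    exact ⟨hq, hgq⟩
  have hq'eq : ∀ (g : Kl) q, (g.1 : Matrix (Fin 4) (Fin 4) F) = Lq q → q' g = q := fun g q h =>
    Lq_inj ((hq' g).2.symm.trans h)
  have hq'mul : ∀ g h : Kl, q' (g * h) = qm (q' g) (q' h) := fun g h =>
    hq'eq _ _ (by rw [Subgroup.coe_mul, Units.val_mul, (hq' g).2, (hq' h).2, Lq_mul])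
  let sl : Kl →* Matrix.SpecialLinearGroup (Fin 2) F :=
    MonoidHom.mk' (fun g => ⟨Qtwo α β (q' g), by rw [Qtwo_det hab, (hq' g).1]⟩) fun g h => Subtype.ext (by
      show Qtwo α β (q' (g * h)) = Qtwo α β (q' g) * Qtwo α β (q' h)
      rw [hq'mul, Qtwo_mul hab])
  let ψ : Kl →* Matrix.ProjectiveSpecialLinearGroup (Fin 2) F := (QuotientGroup.mk' _).comp sl
  have hψeq : ∀ (g : Kl) (q : Fin 4 → F) (hq : qn q = 1), ψ g = QuotientGroup.mk' (Subgroup.center (Matrix.SpecialLinearGroup (Fin 2) F))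
      (⟨Qtwo α β q, by rw [Qtwo_det hab, hq]⟩ : Matrix.SpecialLinearGroup (Fin 2) F) → q' g = q ∨ q' g = -q := by
    intro g q hq h
    have h1 := (QuotientGroup.eq).1 h.symm
    rw [Matrix.SpecialLinearGroup.mem_center_iff] at h1
    obtain ⟨r, hr, h3⟩ := h1
    rw [Fintype.card_fin] at hr
    have h4 : Qtwo α β (q' g) = r • Qtwo α β q := by
      obtain ⟨P, hP⟩ : ∃ P : Matrix.SpecialLinearGroup (Fin 2) F, P = ⟨Qtwo α β q, by rw [Qtwo_det hab, hq]⟩ :=
        ⟨_, rfl⟩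
      rw [← hP] at h3
      have h5 : sl g = P * (P⁻¹ * sl g) := (mul_inv_cancel_left _ _).symm
      have h6 := congrArg (Subtype.val : Matrix.SpecialLinearGroup (Fin 2) F → Matrix (Fin 2) (Fin 2) F) h5
      rw [Matrix.SpecialLinearGroup.coe_mul, ← h3, hP] at h6
      rw [show Qtwo α β (q' g) = ((sl g : Matrix.SpecialLinearGroup (Fin 2) F) : Matrix (Fin 2) (Fin 2) F) from rfl, h6]
      ext i j
      fin_cases i <;> fin_cases j <;> simp [Matrix.mul_apply, Fin.sum_univ_two] <;> ring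
    have hlin : ∀ (r : F) q, Qtwo α β (r • q) = r • Qtwo α β q := fun r q => by
      ext i j
      fin_cases i <;> fin_cases j <;> simp [Qtwo] <;> ring
    rw [← hlin] at h4
    rcases sq_eq_one_iff.1 hr with rfl | rfl
    · exact Or.inl ((Qtwo_inj h2 hab h4).trans (one_smul _ _))
    · exact Or.inr ((Qtwo_inj h2 hab h4).trans (neg_one_smul _ _))
  have hψ : ∀ g h : Kl, ψ g = ψ h → q' g = q' h ∨ q' g = -q' h := fun g h e => hψeq g _ (hq' h).1 e
  have hψ1 : ∀ g : Kl, ψ g = 1 → q' g = ![1, 0, 0, 0] ∨ q' g = -![1, 0, 0, 0] := fun g e => by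
    have h1 : q' (1 : Kl) = ![1, 0, 0, 0] := hq'eq _ _ (by rw [OneMemClass.coe_one, Units.val_one, Lq_scalar, one_smul])
    rw [← h1]
    exact hψ g 1 (by rw [e, map_one])
  choose J hJK hJ using fun a => exists_Lq_ax hK a
  let J' : Fin 3 → Kl := fun a => ⟨J a, hJK a, ax a, qn_ax a, hJ a⟩
  have hJ' : ∀ a, q' (J' a) = ax a := fun a => hq'eq _ _ (hJ a)
  let z : Fin 3 → ψ.range := fun a => ⟨ψ (J' a), J' a, rfl⟩
  have hzc : ∀ g : Kl, q' g = ![1, 0, 0, 0] ∨ q' g = -![1, 0, 0, 0] → ψ g = 1 := fun g h => by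
    refine (QuotientGroup.eq_one_iff _).2 (Matrix.SpecialLinearGroup.mem_center_iff.2 ?_)
    rcases h with h | h
    · refine ⟨1, one_pow _, ?_⟩
      show _ = Qtwo α β (q' g)
      rw [h]; ext i j; fin_cases i <;> fin_cases j <;> simp [Qtwo]
    · refine ⟨-1, by rw [Fintype.card_fin]; norm_num, ?_⟩
      show _ = Qtwo α β (q' g)
      rw [h]; ext i j; fin_cases i <;> fin_cases j <;> simp [Qtwo]
  have hz2 : ∀ a, ψ (J' a) * ψ (J' a) = 1 := fun a => by
    rw [← map_mul]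
    refine hzc _ (Or.inr ?_)
    rw [hq'mul, hJ']
    ext r; fin_cases a <;> fin_cases r <;> simp [qm, ax]
  have hz12 : ∀ a b, a ≠ b → ψ (J' a) * ψ (J' b) = ψ (J' (third a b)) := fun a b hab' => by
    have h1 : ψ (J' a) * ψ (J' b) * ψ (J' (third a b)) = 1 := by
      rw [← map_mul, ← map_mul]
      refine hzc _ ?_
      rw [hq'mul, hq'mul, hJ', hJ', hJ']
      fin_cases a <;> fin_cases b <;> first | exact absurd rfl hab' | skip
      all_goals first
        | (left; ext r; fin_cases r <;> simp [qm, ax, third, show (-1 : Fin 3) = 2 from rfl, show (-2 : Fin 3) = 1 from rfl]; done)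
        | (right; ext r; fin_cases r <;> simp [qm, ax, third, show (-1 : Fin 3) = 2 from rfl, show (-2 : Fin 3) = 1 from rfl])
    calc ψ (J' a) * ψ (J' b) = ψ (J' a) * ψ (J' b) * ψ (J' (third a b)) * ψ (J' (third a b)) := by
          rw [mul_assoc _ (ψ (J' (third a b))), hz2, mul_one]
      _ = ψ (J' (third a b)) := by rw [h1, one_mul]
  have hne1 : ∀ a, ψ (J' a) ≠ 1 := fun a e => by
    rcases hψ1 _ e with h | h <;> rw [hJ'] at h <;> have := congrFun h 0 <;> simp [ax_zero] at this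
  -- the unit permuting the imaginary units cyclically
  obtain ⟨w, hw⟩ : ∃ w : Fin 4 → F, w = ![(2 : F)⁻¹, (2 : F)⁻¹, (2 : F)⁻¹, (2 : F)⁻¹] := ⟨_, rfl⟩
  have hwn : qn w = 1 := by rw [hw]; simp [qn]; field_simp; ring
  obtain ⟨W, hW⟩ : ∃ W : Matrix.ProjectiveSpecialLinearGroup (Fin 2) F, W = QuotientGroup.mk' (Subgroup.center (Matrix.SpecialLinearGroup (Fin 2) F))
      (⟨Qtwo α β w, by rw [Qtwo_det hab, hwn]⟩ : Matrix.SpecialLinearGroup (Fin 2) F) := ⟨_, rfl⟩
  have hwc : pm cyc ∈ K := hK.pm_mem _ (by decide)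
  have hconj : ∀ g : Kl, ∃ g' : Kl, W * ψ g * W⁻¹ = ψ g' ∧
      q' g' = ![q' g 0, q' g 3, q' g 1, q' g 2] := by
    intro g
    have hval : ((pm cyc * g.1 * (pm cyc)⁻¹ : GL (Fin 4) F) : Matrix (Fin 4) (Fin 4) F) =
        Lq ![q' g 0, q' g 3, q' g 1, q' g 2] := by
      rw [Units.val_mul, Units.val_mul, hK.inv_val hwc, (hq' g).2]
      ext r s
      fin_cases r <;> fin_cases s <;>
        simp [Lq, cyc, pm_val, Matrix.mul_apply, Fin.sum_univ_four, Equiv.swap_apply_def]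
    obtain ⟨g', hg'⟩ : ∃ g' : Kl, g'.1 = pm cyc * g.1 * (pm cyc)⁻¹ := by
      refine ⟨⟨_, mul_mem (mul_mem hwc g.2.1) (inv_mem hwc), _, ?_, hval⟩, rfl⟩
      rw [← (hq' g).1]; simp [qn]; ring
    have hqg := hq'eq g' _ (by rw [hg', hval])
    refine ⟨g', ?_, hqg⟩
    rw [mul_inv_eq_iff_eq_mul, hW]
    obtain ⟨P, hP⟩ : ∃ P : Matrix.SpecialLinearGroup (Fin 2) F, P = ⟨Qtwo α β w, by rw [Qtwo_det hab, hwn]⟩ :=
      ⟨_, rfl⟩
    rw [← hP]
    refine ((map_mul (QuotientGroup.mk' (Subgroup.center (Matrix.SpecialLinearGroup (Fin 2) F))) P (sl g)).symm.trans ?_).trans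
      (map_mul (QuotientGroup.mk' (Subgroup.center (Matrix.SpecialLinearGroup (Fin 2) F))) (sl g') P)
    refine congrArg _ ?_
    subst hP
    refine Subtype.ext ?_
    show Qtwo α β w * Qtwo α β (q' g) = Qtwo α β (q' g') * Qtwo α β w
    rw [← Qtwo_mul hab, ← Qtwo_mul hab, hqg]
    congr 1
    rw [hw]
    ext r
    fin_cases r <;> simp [qm] <;> ring
  have hklein : Klein z := {
    ne_one := fun a e => hne1 a (congrArg Subtype.val e)
    inj := fun a b e => by
      by_contra hab'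
      have h1 := hz12 a b hab'
      rw [show ψ (J' a) = ψ (J' b) from congrArg Subtype.val e, hz2] at h1
      exact hne1 _ h1.symm
    sq := fun a => Subtype.ext (hz2 a)
    mul := fun a b hab' => ⟨third a b, Subtype.ext (hz12 a b hab')⟩
    cycle := by
      haveI : Finite ψ.range := Finite.of_surjective ψ.rangeRestrict ψ.rangeRestrict_surjective
      let θ : ψ.range →* ψ.range :=
        MonoidHom.mk' (fun x => ⟨W * x.1 * W⁻¹, by
          obtain ⟨g, hg⟩ := x.2
          obtain ⟨g', hg', -⟩ := hconj g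
          exact ⟨g', by rw [← hg', hg]⟩⟩) fun x y => Subtype.ext (by
            show W * (x.1 * y.1) * W⁻¹ = W * x.1 * W⁻¹ * (W * y.1 * W⁻¹)
            group)
      refine ⟨MulEquiv.ofBijective θ (Finite.injective_iff_bijective.1 fun x y e => Subtype.ext
        (mul_left_cancel (mul_right_cancel (congrArg Subtype.val e)))), fun a => Subtype.ext ?_⟩
      show W * ψ (J' a) * W⁻¹ = ψ (J' (a + 1))
      obtain ⟨g', hg', hqg⟩ := hconj (J' a)
      rw [hg']
      have e : q' g' = q' (J' (a + 1)) := by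
        rw [hqg, hJ', hJ']
        ext r; fin_cases a <;> fin_cases r <;> simp [ax]
      exact congrArg ψ (Subtype.ext (Units.ext (by rw [(hq' g').2, e, ← (hq' (J' (a + 1))).2])))
    normal := by
      rintro ⟨_, g, rfl⟩ hx
      have hrel : ∀ a, ∃ b, Rel Lq (g.1 : Matrix (Fin 4) (Fin 4) F) a b := fun a => by
        obtain ⟨b, hb⟩ := hx a
        have hb' : ψ (g * J' a * g⁻¹) = ψ (J' b) := by
          rw [map_mul, map_mul, map_inv]; exact congrArg Subtype.val hb
        refine ⟨b, ?_⟩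
        have hval : (g.1 : Matrix (Fin 4) (Fin 4) F) * Lq (ax a) * (g.1 : Matrix (Fin 4) (Fin 4) F)ᵀ =
            Lq (q' (g * J' a * g⁻¹)) := by
          rw [← (hq' (g * J' a * g⁻¹)).2, Subgroup.coe_mul, Subgroup.coe_mul, Subgroup.coe_inv, Units.val_mul,
            Units.val_mul, hK.inv_val g.2.1]
          show _ = _ * (J a : Matrix (Fin 4) (Fin 4) F) * _
          rw [hJ a]
        rcases hψ _ _ hb' with h | h
        · exact ⟨1, one_pow _, by rw [hval, h, hJ', one_smul]⟩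
        · exact ⟨-1, by norm_num, by rw [hval, h, hJ', ← Lq_smul, neg_one_smul]⟩
      choose π hπ using hrel
      have hρ : ∀ a, Rel Rq (g.1 : Matrix (Fin 4) (Fin 4) F) a a := fun a => ⟨1, one_pow _, by
        rw [one_smul, (hq' g).2, Lq_Rq_comm, Matrix.mul_assoc, Lq_transpose, Lq_mul]
        have h1 : qm (q' g) (qc (q' g)) = ![qn (q' g), 0, 0, 0] := by
          ext r; fin_cases r <;> simp [qm, qc, qn] <;> ring
        rw [h1, (hq' g).1, Lq_scalar, one_smul, Matrix.mul_one]⟩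
      by_cases hid : π = id
      swap
      · exact absurd (hK.half_of_perm h2 g.2.1 hπ hρ hid) hno
      obtain ⟨q, hq⟩ : ∃ q, q = q' g := ⟨_, rfl⟩
      have key : ∀ a, ∃ c : F, c ^ 2 = 1 ∧ qm q (ax a) = c • qm (ax a) q := fun a => by
        obtain ⟨c, hc, e⟩ := hπ a
        rw [hid] at e
        refine ⟨c, hc, Lq_inj ?_⟩
        have h1 := congrArg (· * (g.1 : Matrix (Fin 4) (Fin 4) F)) e
        simp only [id, Matrix.mul_assoc, hK.orth _ g.2.1, Matrix.mul_one, Matrix.smul_mul] at h1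
        rw [Lq_smul, ← Lq_mul, ← Lq_mul, hq, ← (hq' g).2, h1]
      obtain ⟨c₁, hc₁, e₁⟩ := key 0
      obtain ⟨c₂, hc₂, e₂⟩ := key 1
      obtain ⟨c₃, hc₃, e₃⟩ := key 2
      have f₁ := fun r => congrFun e₁ r
      have f₂ := fun r => congrFun e₂ r
      have f₃ := fun r => congrFun e₃ r
      have a1 := f₁ 0; have a2 := f₁ 1; have a3 := f₁ 2; have a4 := f₁ 3
      have b1 := f₂ 0; have b2 := f₂ 1; have b3 := f₂ 2; have b4 := f₂ 3
      have d1 := f₃ 0; have d2 := f₃ 1; have d3 := f₃ 2; have d4 := f₃ 3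
      simp [qm, ax] at a1 a2 a3 a4 b1 b2 b3 b4 d1 d2 d3 d4
      have hsign : ∀ {c x y : F}, x = c * x → y = -(c * y) → x * y = 0 := fun {c x y} hx hy => by
        refine (mul_eq_zero.1 (show (2 : F) * (x * y) = 0 from ?_)).resolve_left h2
        linear_combination y * hx + x * hy
      have e02 : q 0 * q 2 = 0 := hsign a2 (by linear_combination -a4)
      have e03 : q 0 * q 3 = 0 := hsign a2 a3
      have e12 : q 1 * q 2 = 0 := hsign a1 (by linear_combination -a4)
      have e13 : q 1 * q 3 = 0 := hsign a1 a3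
      have e01 : q 0 * q 1 = 0 := hsign b3 b4
      have e23 : q 2 * q 3 = 0 := hsign b1 (by linear_combination -b2)
      have hn : qn q = 1 := hq ▸ (hq' g).1
      rw [qn] at hn
      simp only [Subtype.ext_iff]
      have hone : ∀ r : Fin 4, q r ≠ 0 → (q = ![1, 0, 0, 0] ∨ q = -![1, 0, 0, 0]) ∨
          ∃ a, (q = ax a ∨ q = -ax a) := by
        intro r hr
        fin_cases r
        · simp at hr
          have h1 := (mul_eq_zero.1 e01).resolve_left hr
          have h3 := (mul_eq_zero.1 e02).resolve_left hr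
          have h4 := (mul_eq_zero.1 e03).resolve_left hr
          rw [h1, h3, h4] at hn
          left
          rcases sq_eq_one_iff.1 (show q 0 ^ 2 = 1 by linear_combination hn) with h | h
          · left; ext r; fin_cases r <;> simp [h, h1, h3, h4]
          · right; ext r; fin_cases r <;> simp [h, h1, h3, h4]
        · simp at hr
          have h1 := (mul_eq_zero.1 e01).resolve_right hr
          have h3 := (mul_eq_zero.1 e12).resolve_left hr
          have h4 := (mul_eq_zero.1 e13).resolve_left hr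
          rw [h1, h3, h4] at hn
          right; refine ⟨0, ?_⟩
          rcases sq_eq_one_iff.1 (show q 1 ^ 2 = 1 by linear_combination hn) with h | h
          · left; ext r; fin_cases r <;> simp [ax, h, h1, h3, h4]
          · right; ext r; fin_cases r <;> simp [ax, h, h1, h3, h4]
        · simp at hr
          have h1 := (mul_eq_zero.1 e02).resolve_right hr
          have h3 := (mul_eq_zero.1 e12).resolve_right hr
          have h4 := (mul_eq_zero.1 e23).resolve_left hr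
          rw [h1, h3, h4] at hn
          right; refine ⟨1, ?_⟩
          rcases sq_eq_one_iff.1 (show q 2 ^ 2 = 1 by linear_combination hn) with h | h
          · left; ext r; fin_cases r <;> simp [ax, h, h1, h3, h4]
          · right; ext r; fin_cases r <;> simp [ax, h, h1, h3, h4]
        · simp at hr
          have h1 := (mul_eq_zero.1 e03).resolve_right hr
          have h3 := (mul_eq_zero.1 e13).resolve_right hr
          have h4 := (mul_eq_zero.1 e23).resolve_right hr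
          rw [h1, h3, h4] at hn
          right; refine ⟨2, ?_⟩
          rcases sq_eq_one_iff.1 (show q 3 ^ 2 = 1 by linear_combination hn) with h | h
          · left; ext r; fin_cases r <;> simp [ax, h, h1, h3, h4]
          · right; ext r; fin_cases r <;> simp [ax, h, h1, h3, h4]
      obtain ⟨r, hr⟩ : ∃ r, q r ≠ 0 := by
        by_contra h
        push Not at h
        rw [h, h, h, h] at hn
        simp at hn
      rcases hone r hr with h | ⟨a, ha⟩
      · exact Or.inl (hzc g (hq ▸ h))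
      · refine Or.inr ⟨a, ?_⟩
        show ψ g = ψ (J' a)
        rw [← mul_inv_eq_one, ← map_inv, ← map_mul]
        refine hzc _ ?_
        have hinv : q' (J' a)⁻¹ = qc (ax a) := hq'eq _ _ (by
          show (((J a)⁻¹ : GL (Fin 4) F) : Matrix (Fin 4) (Fin 4) F) = _
          rw [hK.inv_val (hJK a), hJ a, Lq_transpose])
        rw [hq'mul, hinv, ← hq]
        rcases ha with h | h <;> [left; right] <;> rw [h] <;> ext r <;> fin_cases a <;> fin_cases r <;>
          simp [qm, qc, ax]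
    big := by
      have hgn : qn v = 1 := by
        have h1 := hK.orth g₀ hg₀
        rw [hgv, Lq_transpose, Lq_mul, qm_qc, Lq_scalar] at h1
        simpa using congrFun (congrFun h1 0) 0
      obtain ⟨g', hg'⟩ : ∃ g' : Kl, g'.1 = g₀ := ⟨⟨g₀, hg₀, v, hgn, hgv⟩, rfl⟩
      have hqv : q' g' = v := hq'eq _ _ (by rw [hg', hgv])
      refine ⟨⟨ψ g', g', rfl⟩, fun e => ?_, fun a e => ?_⟩
      · rcases hψ1 _ (congrArg Subtype.val e) with h | h <;> rw [hqv] at h <;> have := congrFun h 0 <;>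
          simp [hv0] at this
      · rcases hψ _ _ (congrArg Subtype.val e) with h | h <;> rw [hqv, hJ'] at h
        · exact hnb ⟨1, a, by rw [one_smul, h]⟩
        · exact hnb ⟨-1, a, by rw [neg_one_smul, h]⟩ }
  have htop := klein_eq_top hp hodd (no_commuting h2 hp hodd) _ hklein
  have hWmem : W ∈ ψ.range := htop ▸ Subgroup.mem_top W
  obtain ⟨g, hg⟩ := hWmem
  refine hno ⟨g.1, g.2.1, fun r s => ?_⟩
  rcases hψeq g w hwn (hg.trans hW) with h | h <;> rw [(hq' g).2, h, hw] <;> fin_cases r <;> fin_cases s <;>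
    simp [Lq, h2]

/-- a non-monomial special orthogonal frame group in four dimensions has an element with entries `±1/2` -/
theorem FrameFour.exists_half (hp : (Fintype.card F).Prime) (hodd : Odd (Fintype.card F)) (h2 : (2 : F) ≠ 0)
    {K : Subgroup (GL (Fin 4) F)} (hK : FrameFour K) (hnm : ∃ g ∈ K, ¬ Mono g) :
    ∃ h ∈ K, Half (h : Matrix (Fin 4) (Fin 4) F) := by
  classical
  by_contra hno
  obtain ⟨g, hg, hgm⟩ := hnm
  have hbasic : ∀ g ∈ K, ∀ a, ∀ v : Fin 4 → F, v 0 = 0 → qn v = 1 →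
      (g : Matrix (Fin 4) (Fin 4) F) * Lq (ax a) * (g : Matrix (Fin 4) (Fin 4) F)ᵀ = Lq v →
      ∃ b, Rel Lq (g : Matrix (Fin 4) (Fin 4) F) a b := by
    intro g hg a v hv0 hvn hv
    obtain ⟨J, hJK, hJ⟩ := exists_Lq_ax hK a
    obtain ⟨c, b, hcb⟩ := (hK.basic_or_half hp hodd h2 (g₀ := g * J * g⁻¹)
      (mul_mem (mul_mem hg hJK) (inv_mem hg)) hv0
      (by rw [Units.val_mul, Units.val_mul, hK.inv_val hg, hJ, hv])).resolve_right hno
    refine ⟨b, c, ?_, by rw [hv, hcb, Lq_smul]⟩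
    have h1 := hvn
    rw [hcb] at h1
    rw [← h1]
    fin_cases b <;> simp [qn, ax]
  have hL : ∀ g ∈ K, ∀ a, ∃ b, Rel Lq (g : Matrix (Fin 4) (Fin 4) F) a b := fun g hg a => by
    obtain ⟨v, hv0, hvn, hv⟩ := conj_Lq_im h2 (hK.orth g hg) (hK.det_one g hg) (ax_zero a)
    exact hbasic g hg a v hv0 (by rw [hvn, qn_ax]) hv
  have hR : ∀ a, ∃ b, Rel Rq (g : Matrix (Fin 4) (Fin 4) F) a b := fun a => by
    obtain ⟨b, c, hc, e⟩ := hL _ (hK.cc_mem g hg) a
    refine ⟨b, c, hc, ?_⟩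
    rw [Units.val_mul, Units.val_mul, flp_cc, transpose_mul, transpose_mul,
      show (Cm : Matrix (Fin 4) (Fin 4) F)ᵀ = Cm from diagonal_transpose _] at e
    have hqa : ∀ b : Fin 3, qc (ax b : Fin 4 → F) = -ax b := fun b => by
      ext r
      fin_cases b <;> fin_cases r <;> simp [qc, ax]
    have hRn : ∀ q : Fin 4 → F, Rq (-q) = -Rq q := fun q => by
      rw [← neg_one_smul F q, Rq_smul, neg_one_smul]
    have h1 := congrArg (fun X => Cm * X * Cm) e
    simp only [Matrix.mul_smul, Matrix.smul_mul, Cm_Lq, hqa, hRn] at h1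
    rw [show Cm * (Cm * (g : Matrix (Fin 4) (Fin 4) F) * Cm * Lq (ax a) * (Cm * ((g : Matrix (Fin 4) (Fin 4) F)ᵀ * Cm))) * Cm =
      (Cm * Cm) * ((g : Matrix (Fin 4) (Fin 4) F) * (Cm * Lq (ax a) * Cm) * (g : Matrix (Fin 4) (Fin 4) F)ᵀ) * (Cm * Cm)
      by simp only [Matrix.mul_assoc], Cm_sq, Matrix.one_mul, Matrix.mul_one, Cm_Lq, hqa, hRn, Matrix.mul_neg,
      Matrix.neg_mul, smul_neg, neg_inj] at h1
    exact h1
  choose π hπ using hL g hg
  choose ρ hρ using hR
  by_cases hne : π = ρ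
  swap
  · exact hno (hK.half_of_perm h2 hg hπ hρ hne)
  subst hne
  have hconj : ∀ a, ∃ d : Fin 4 → F, ∃ e : Fin 4 → F,
      Lq (ax a) * Rq (ax a) = Matrix.diagonal d ∧
      (g : Matrix (Fin 4) (Fin 4) F) * Matrix.diagonal d = Matrix.diagonal e * (g : Matrix (Fin 4) (Fin 4) F) := by
    intro a
    obtain ⟨c, -, e⟩ := hπ a
    obtain ⟨c', -, e'⟩ := hρ a
    obtain ⟨d, -, hd⟩ := LR_diag (F := F) a
    obtain ⟨d', -, hd'⟩ := LR_diag (F := F) (π a)
    refine ⟨d, (c * c') • d', hd, ?_⟩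
    rw [diagonal_smul, ← hd, ← hd', ← smul_mul_smul_comm, ← e, ← e']
    simp only [Matrix.mul_assoc, hK.orth g hg, Matrix.mul_one]
    rw [← Matrix.mul_assoc (g : Matrix (Fin 4) (Fin 4) F)ᵀ, hK.orth g hg, Matrix.one_mul]
  refine hgm fun m => ?_
  -- column `m` has a single nonzero entry
  obtain ⟨d₀, e₀, hd₀, he₀⟩ := hconj 0
  obtain ⟨d₁, e₁, hd₁, he₁⟩ := hconj 1
  have hdv : d₀ = ![-1, -1, 1, 1] ∧ d₁ = ![-1, 1, -1, 1] := by
    constructor
    · refine (Matrix.diagonal_injective ?_)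
      rw [← hd₀]
      ext r s
      fin_cases r <;> fin_cases s <;> simp [Lq, Rq, ax, Matrix.mul_apply, Fin.sum_univ_four]
    · refine (Matrix.diagonal_injective ?_)
      rw [← hd₁]
      ext r s
      fin_cases r <;> fin_cases s <;> simp [Lq, Rq, ax, Matrix.mul_apply, Fin.sum_univ_four]
  obtain ⟨r, hr⟩ := Function.ne_iff.1 (act_bv_ne_zero g m)
  refine ⟨r, act g (bv m) r, funext fun t => ?_⟩
  rw [Pi.smul_apply, smul_eq_mul, bv_apply]
  rcases eq_or_ne t r with rfl | htr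
  · rw [if_pos rfl, mul_one]
  rw [if_neg htr, mul_zero]
  have hgm' : ∀ x y, act g (bv y) x = (g : Matrix (Fin 4) (Fin 4) F) x y := fun x y => by simp [act, bv]
  rw [hgm'] at hr ⊢
  have hrow : ∀ x y, (g : Matrix (Fin 4) (Fin 4) F) x y ≠ 0 → e₀ x = d₀ y ∧ e₁ x = d₁ y := fun x y hxy => by
    have h1 := congrFun (congrFun he₀ x) y
    have h3 := congrFun (congrFun he₁ x) y
    rw [Matrix.mul_diagonal, Matrix.diagonal_mul] at h1 h3
    exact ⟨mul_right_cancel₀ hxy (h1.symm.trans (mul_comm _ _)), mul_right_cancel₀ hxy (h3.symm.trans (mul_comm _ _))⟩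
  have huniq : ∀ x y y', (g : Matrix (Fin 4) (Fin 4) F) x y ≠ 0 → (g : Matrix (Fin 4) (Fin 4) F) x y' ≠ 0 → y = y' := by
    intro x y y' h h'
    have h1 := (hrow x y h).1.symm.trans (hrow x y' h').1
    have h3 := (hrow x y h).2.symm.trans (hrow x y' h').2
    rw [hdv.1] at h1
    rw [hdv.2] at h3
    have hm : (1 : F) ≠ -1 := fun e => h2 (by linear_combination e)
    have hm' : (-1 : F) ≠ 1 := hm.symm
    fin_cases y <;> fin_cases y' <;> first | rfl | (simp [hm, hm'] at h1 h3)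
  by_contra ht
  have hex : ∀ y, ∃ x, (g : Matrix (Fin 4) (Fin 4) F) x y ≠ 0 := fun y => by
    obtain ⟨x, hx⟩ := Function.ne_iff.1 (act_bv_ne_zero g y)
    exact ⟨x, by rwa [hgm'] at hx⟩
  choose f hf using hex
  have hinj : Function.Injective f := fun y y' e => huniq (f y) y y' (hf y) (e ▸ hf y')
  have hsur := Finite.injective_iff_surjective.1 hinj
  obtain ⟨y₁, hy₁⟩ := hsur t
  obtain ⟨y₂, hy₂⟩ := hsur r
  have k1 := huniq t y₁ m (hy₁ ▸ hf y₁) ht
  have k2 := huniq r y₂ m (hy₂ ▸ hf y₂) hr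
  exact htr (by rw [← hy₁, ← hy₂, k1, k2])

end CfsgLib.Perm.Trans.OrthFrame
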