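import Mathlib
import Cfsg.Agent.Lib.Perm.Trans.OrthFrame.Mono

/-!
# Elements normalising monomial groups are monomial
-/

set_option autoImplicit false
set_option linter.all false

namespace CfsgLib.Perm.Trans.OrthFrame

open scoped Matrix
open Matrix Cfsg.Geo CfsgLib.Perm.Trans

variable {ι : Type} [Fintype ι] [DecidableEq ι] {F : Type*} [Field F] [Fintype F]

omit [Fintype F] in
theorem flp_comm (D E : Finset ι) : flp D * flp E = (flp E * flp D : GL ι F) := by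
  rw [flp_mul, flp_mul, symmDiff_comm]

/-- an element carrying the sign changes of pairs to sign changes is monomial -/
theorem mono_on_of_diag (h2 : (2 : F) ≠ 0) {C : Finset ι} (hC : 3 ≤ C.card) {g : GL ι F}
    (hmap : ∀ x, SuppV C x → SuppV C (act g x))
    (hd : ∀ a ∈ C, ∀ b ∈ C, a ≠ b → ∃ D : Finset ι, g * flp {a, b} * g⁻¹ = flp D) :
    ∀ j ∈ C, ∃ i ∈ C, ∃ c : F, act g (bv j) = c • bv i := by
  classical
  have huniq : ∀ r, ∀ j ∈ C, ∀ l ∈ C, act g (bv j) r ≠ 0 → act g (bv l) r ≠ 0 → j = l := by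
    intro r j hj l hl hjr hlr
    by_contra hne
    obtain ⟨m, hm, hmn⟩ : ∃ m ∈ C, m ∉ ({j, l} : Finset ι) := Finset.exists_mem_notMem_of_card_lt_card
      (lt_of_le_of_lt Finset.card_le_two (by omega))
    simp only [Finset.mem_insert, Finset.mem_singleton, not_or] at hmn
    obtain ⟨D, hD⟩ := hd j hj m hm (Ne.symm hmn.1)
    rw [mul_inv_eq_iff_eq_mul] at hD
    have key : ∀ i, act g (act (flp {j, m}) (bv i)) r = act (flp D) (act g (bv i)) r := fun i => by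
      rw [← act_mul, ← act_mul, hD]
    have h1 := key j
    have h3 := key l
    rw [flp_bv, if_pos (by simp), neg_one_smul, act_neg, Pi.neg_apply, act_flp] at h1
    rw [flp_bv, if_neg (by simp [Ne.symm hne, Ne.symm hmn.2]), one_smul, act_flp] at h3
    by_cases hr : r ∈ D
    · simp only [hr, if_true] at h3
      exact hlr ((mul_eq_zero.1 (show (2 : F) * act g (bv l) r = 0 by linear_combination h3)).resolve_left h2)
    · simp only [hr, if_false] at h1
      exact hjr ((mul_eq_zero.1 (show (2 : F) * act g (bv j) r = 0 by linear_combination -h1)).resolve_left h2)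
  have hex : ∀ j : C, ∃ r : C, act g (bv (j : ι)) r ≠ 0 := by
    rintro ⟨j, hj⟩
    obtain ⟨r, hr⟩ := Function.ne_iff.1 (act_bv_ne_zero g j)
    refine ⟨⟨r, ?_⟩, hr⟩
    by_contra hrC
    exact hr (hmap _ (bv_suppV hj) r hrC)
  choose f hf using hex
  have hinj : Function.Injective f := fun a b hab =>
    Subtype.ext (huniq (f a) a a.2 b b.2 (hf a) (hab ▸ hf b))
  have hsur := (Finite.injective_iff_surjective).1 hinj
  intro j hj
  refine ⟨f ⟨j, hj⟩, (f ⟨j, hj⟩).2, act g (bv j) (f ⟨j, hj⟩), funext fun r => ?_⟩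
  rw [Pi.smul_apply, smul_eq_mul, bv_apply]
  rcases eq_or_ne r ((f ⟨j, hj⟩ : C) : ι) with rfl | hr
  · rw [if_pos rfl, mul_one]
  · rw [if_neg hr, mul_zero]
    by_contra h0
    have hrC : r ∈ C := by
      by_contra hrC
      exact h0 (hmap _ (bv_suppV hj) r hrC)
    obtain ⟨a, ha⟩ := hsur ⟨r, hrC⟩
    have h1 := hf a
    rw [ha] at h1
    have h3 := huniq r j hj a a.2 h0 h1
    subst h3
    exact hr (by rw [show (⟨(a : ι), hj⟩ : C) = a from Subtype.ext rfl, ha])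

theorem conj_fixOff (h2 : (2 : F) ≠ 0) {C : Finset ι} {g h : GL ι F}
    (hg : g ∈ Cfsg.isometryGroup F (stdQ : (ι → F) → F)) (hmap : ∀ x, SuppV C x → SuppV C (act g x))
    (hh : h ∈ fixOff C) : g * h * g⁻¹ ∈ fixOff C := fun k hk => by
  rw [act_mul, act_mul, act_fix_perp hh, act_inv']
  intro c hc
  rw [← dot_bv (act g⁻¹ (bv k)) c, ← iso_dot h2 hg, act_inv', bv_dot]
  exact hmap _ (bv_suppV hc) k hk

theorem suppV_iff_inv (h2 : (2 : F) ≠ 0) {C : Finset ι} {g : GL ι F}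
    (hg : g ∈ Cfsg.isometryGroup F (stdQ : (ι → F) → F)) (hmap : ∀ x, SuppV C x → SuppV C (act g x)) :
    ∀ x, SuppV C x → SuppV C (act g⁻¹ x) := by
  intro x hx
  obtain ⟨y, hy⟩ := (Finite.injective_iff_surjective
    (f := fun y : {y : ι → F // SuppV C y} => (⟨act g y.1, hmap _ y.2⟩ : {y : ι → F // SuppV C y}))).1
    (fun a b hab => Subtype.ext (by
      have := congrArg (fun z : {y : ι → F // SuppV C y} => act g⁻¹ z.1) hab
      simpa only [act_inv] using this)) ⟨x, hx⟩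
  have h1 : act g y.1 = x := congrArg Subtype.val hy
  rw [← h1, act_inv]
  exact y.2

/-- an element normalising a monomial group on a part of size at least five is monomial there -/
theorem mono_part (h2 : (2 : F) ≠ 0) {H : Subgroup (GL ι F)} (hH : Frame H) {C : Finset ι} (hC : 5 ≤ C.card)
    (hmono : ∀ h ∈ H, h ∈ fixOff C → Mono h) {g : GL ι F} (hg : g ∈ H)
    (hmap : ∀ x, SuppV C x → SuppV C (act g x)) :
    ∀ j ∈ C, ∃ i ∈ C, ∃ c : F, act g (bv j) = c • bv i := by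
  refine mono_on_of_diag h2 (by omega) hmap fun a ha b hb hab => ?_
  have hsub : ({a, b} : Finset ι) ⊆ C := by
    intro x hx
    rcases Finset.mem_insert.1 hx with rfl | hx
    · exact ha
    · rw [Finset.mem_singleton.1 hx]; exact hb
  obtain ⟨e, he⟩ : ∃ e, e = g * flp {a, b} * g⁻¹ := ⟨_, rfl⟩
  have heH : e ∈ H := he ▸ mul_mem (mul_mem hg (hH.flp_mem a b hab)) (inv_mem hg)
  have heC : e ∈ fixOff C := he ▸ conj_fixOff h2 (hH.le_iso hg) hmap (flp_fixOff hsub)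
  obtain ⟨em, hem⟩ : ∃ em : monoG (ι := ι) (F := F), em.1 = e := ⟨⟨e, hmono e heH heC⟩, rfl⟩
  have he2 : em * em = 1 := Subtype.ext (by
    rw [Subgroup.coe_mul, hem, he, OneMemClass.coe_one]
    rw [show g * flp {a, b} * g⁻¹ * (g * flp {a, b} * g⁻¹) = g * (flp {a, b} * flp {a, b}) * g⁻¹ by group,
      flp_sq, mul_one, mul_inv_cancel])
  have hpe : mperm em = 1 := by
    refine perm_eq_one_of_commute hC (by rw [← map_mul, he2, map_one])
      (fun k hk => mperm_fixOff (hem.symm ▸ heC) hk) fun σ hσ hσC => ?_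
    obtain ⟨y, hy⟩ : ∃ y : GL ι F, y = g⁻¹ * pm σ * g := ⟨_, rfl⟩
    have hyH : y ∈ H := hy ▸ mul_mem (mul_mem (inv_mem hg) (hH.pm_mem σ hσ)) hg
    have hyC : y ∈ fixOff C := by
      have := conj_fixOff h2 (inv_mem (hH.le_iso hg)) (suppV_iff_inv h2 (hH.le_iso hg) hmap) (pm_fixOff (F := F) hσC)
      rwa [inv_inv, ← hy] at this
    obtain ⟨ym, hym⟩ : ∃ ym : monoG (ι := ι) (F := F), ym.1 = y := ⟨⟨y, hmono y hyH hyC⟩, rfl⟩
    obtain ⟨fm, hfm⟩ : ∃ fm : monoG (ι := ι) (F := F), fm.1 = flp {a, b} := ⟨⟨_, mono_flp _⟩, rfl⟩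
    obtain ⟨D, hD⟩ := eq_flp_of_mperm h2 (g := ym * fm * ym⁻¹)
      (by rw [Subgroup.coe_mul, Subgroup.coe_mul, Subgroup.coe_inv, hym, hfm]
          exact mul_mem (mul_mem (hH.le_iso hyH) (flp_iso _)) (inv_mem (hH.le_iso hyH)))
      (by rw [map_mul, map_mul, map_inv, show fm = ⟨flp {a, b}, mono_flp _⟩ from Subtype.ext hfm, mperm_flp]; group)
    rw [Subgroup.coe_mul, Subgroup.coe_mul, Subgroup.coe_inv, hym, hfm] at hD
    obtain ⟨pσ, hpσ⟩ : ∃ pσ : monoG (ι := ι) (F := F), pσ = ⟨pm σ, mono_pm σ⟩ := ⟨_, rfl⟩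
    have hcom : Commute em (pσ * em * pσ⁻¹) := Subtype.ext (by
      have hval : (pσ * em * pσ⁻¹ : monoG (ι := ι) (F := F)).1 = g * flp D * g⁻¹ := by
        rw [Subgroup.coe_mul, Subgroup.coe_mul, Subgroup.coe_inv, hem, hpσ, he, ← hD, hy]
        group
      show em.1 * (pσ * em * pσ⁻¹ : monoG (ι := ι) (F := F)).1 =
        (pσ * em * pσ⁻¹ : monoG (ι := ι) (F := F)).1 * em.1
      rw [hval, hem, he]
      rw [show g * flp {a, b} * g⁻¹ * (g * flp D * g⁻¹) = g * (flp {a, b} * flp D) * g⁻¹ by group,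
        flp_comm, show g * flp D * g⁻¹ * (g * flp {a, b} * g⁻¹) = g * (flp D * flp {a, b}) * g⁻¹ by group])
    have := hcom.map (mperm (ι := ι) (F := F))
    rwa [map_mul, map_mul, map_inv, hpσ, mperm_pm] at this
  obtain ⟨D, hD⟩ := eq_flp_of_mperm h2 (hem.symm ▸ hH.le_iso heH) hpe
  exact ⟨D, by rw [← he, ← hem, hD]⟩

/-- extend a signed permutation of a part to an element of the frame group -/
theorem exists_adjust (h2 : (2 : F) ≠ 0) {H : Subgroup (GL ι F)} (hH : Frame H) {B A : Finset ι} (hA : A ⊆ B)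
    (hA2 : 2 ≤ A.card) {g : GL ι F} (hg : g ∈ H) (hgB : g ∈ fixOff B)
    (hmono : ∀ j ∈ B \ A, ∃ i ∈ B \ A, ∃ c : F, act g (bv j) = c • bv i) :
    ∃ k ∈ H, Mono k ∧ k⁻¹ * g ∈ fixOff A := by
  classical
  have hmono' : ∀ j : {x // x ∈ B \ A}, ∃ i : {x // x ∈ B \ A}, ∃ c : F, act g (bv (j : ι)) = c • bv (i : ι) :=
    fun j => let ⟨i, hi, c, hc⟩ := hmono j j.2; ⟨⟨i, hi⟩, c, hc⟩
  choose f c hfc using hmono'
  have hfinj : Function.Injective f := by
    intro a b hab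
    have ha := hfc a
    have hb := hfc b
    rw [← hab] at hb
    have hc0 : c b ≠ 0 := fun e => act_bv_ne_zero g (b : ι) (by rw [hb, e, zero_smul])
    have h1 : act g (bv (a : ι)) = act g ((c a / c b) • bv (b : ι)) := by
      rw [act_smul, hb, smul_smul, div_mul_cancel₀ _ hc0, ha]
    have h3 := congrArg (act g⁻¹) h1
    rw [act_inv, act_inv] at h3
    exact Subtype.ext (smul_bv_inj (one_ne_zero (α := F)) ((one_smul F _).trans h3)).1
  obtain ⟨a₁, ha₁, a₂, ha₂, hne⟩ := Finset.one_lt_card.1 hA2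
  let τ₀ : Equiv.Perm ι :=
    Equiv.Perm.ofSubtype (Equiv.ofBijective f (Finite.injective_iff_bijective.1 hfinj))
  have hτ₀ : ∀ j (hj : j ∈ B \ A), τ₀ j = (f ⟨j, hj⟩ : ι) := fun j hj => by
    rw [Equiv.Perm.ofSubtype_apply_of_mem _ hj]; rfl
  have hτ₀' : ∀ j, j ∉ B \ A → τ₀ j = j := fun j hj => Equiv.Perm.ofSubtype_apply_of_not_mem _ hj
  have hnot : ∀ a ∈ A, a ∉ B \ A := fun a ha h => (Finset.mem_sdiff.1 h).2 ha
  obtain ⟨τ, hτs, hτC, hτout⟩ : ∃ τ : Equiv.Perm ι, Equiv.Perm.sign τ = 1 ∧ (∀ j ∈ B \ A, τ j = τ₀ j) ∧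
      ∀ j ∉ B, τ j = j := by
    rcases Int.units_eq_one_or (Equiv.Perm.sign τ₀) with h | h
    · exact ⟨τ₀, h, fun _ _ => rfl, fun j hj => hτ₀' j fun h' => hj (Finset.mem_sdiff.1 h').1⟩
    · refine ⟨τ₀ * Equiv.swap a₁ a₂, by rw [map_mul, h, Equiv.Perm.sign_swap hne]; rfl, fun j hj => ?_,
        fun j hj => ?_⟩
      · rw [Equiv.Perm.mul_apply, Equiv.swap_apply_of_ne_of_ne]
        · exact fun e => hnot a₁ ha₁ (e ▸ hj)
        · exact fun e => hnot a₂ ha₂ (e ▸ hj)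
      · rw [Equiv.Perm.mul_apply, Equiv.swap_apply_of_ne_of_ne (fun e => hj (by rw [e]; exact hA ha₁))
          (fun e => hj (by rw [e]; exact hA ha₂)), hτ₀' j fun h' => hj (Finset.mem_sdiff.1 h').1]
  let D₀ : Finset ι := (Finset.univ.filter fun j : {x // x ∈ B \ A} => c j = -1).map (Function.Embedding.subtype _)
  have hD₀ : ∀ j, j ∈ D₀ ↔ ∃ hj : j ∈ B \ A, c ⟨j, hj⟩ = -1 := fun j => by
    simp [D₀]
  obtain ⟨D, hDe, hDC, hDout⟩ : ∃ D : Finset ι, Even D.card ∧ (∀ j ∈ B \ A, j ∈ D ↔ j ∈ D₀) ∧ ∀ j ∉ B, j ∉ D := by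
    have hout : ∀ j ∉ B, j ∉ D₀ := fun j hj h => hj (Finset.mem_sdiff.1 ((hD₀ j).1 h).1).1
    by_cases h : Even D₀.card
    · exact ⟨D₀, h, fun _ _ => Iff.rfl, hout⟩
    · have ha : a₁ ∉ D₀ := fun h' => hnot a₁ ha₁ ((hD₀ _).1 h').1
      refine ⟨insert a₁ D₀, ?_, fun j hj => ?_, fun j hj => ?_⟩
      · rw [Finset.card_insert_of_notMem ha]
        exact Nat.even_add_one.2 h
      · rw [Finset.mem_insert]
        exact or_iff_right fun e => hnot a₁ ha₁ (e ▸ hj)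
      · rw [Finset.mem_insert, not_or]
        exact ⟨fun e => hj (by rw [e]; exact hA ha₁), hout j hj⟩
  refine ⟨pm τ * flp D, mul_mem (hH.pm_mem τ hτs) (hH.flp_even hDe), (mono_pm τ).mul (mono_flp D), fun j hj => ?_⟩
  rw [act_mul]
  by_cases hjB : j ∈ B
  · have hjC : j ∈ B \ A := Finset.mem_sdiff.2 ⟨hjB, hj⟩
    have h1 : act (pm τ * flp D) (bv j) = act g (bv j) := by
      rw [act_mul, flp_bv, act_smul, pm_bv, hτC j hjC, hτ₀ j hjC, hfc ⟨j, hjC⟩]
      congr 1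
      rcases coeff_sq h2 (hH.le_iso hg) (hfc ⟨j, hjC⟩) with h | h
      · rw [if_neg, h]
        rw [hDC j hjC, hD₀]
        intro hh
        exact h2 (by linear_combination hh.2 - h)
      · rw [if_pos, h]
        rw [hDC j hjC, hD₀]
        exact ⟨hjC, h⟩
    rw [← h1, act_inv]
  · rw [hgB j hjB]
    have h1 : act (pm τ * flp D) (bv j) = (bv j : ι → F) := by
      rw [act_mul, flp_bv, act_smul, pm_bv, hτout j hjB, if_neg (hDout j hjB), one_smul]
    conv_lhs => rw [← h1, act_inv]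

/-- if all conjugates of pair sign changes by a group are monomial, so is the group -/
theorem mono_of_conj (h2 : (2 : F) ≠ 0) {K : Subgroup (GL ι F)} {B : Finset ι} (hB : 5 ≤ B.card)
    (hKiso : K ≤ Cfsg.isometryGroup F (stdQ : (ι → F) → F)) (hKB : K ≤ fixOff B)
    (hKf : ∀ a ∈ B, ∀ b ∈ B, a ≠ b → flp {a, b} ∈ K)
    (hKp : ∀ σ : Equiv.Perm ι, Equiv.Perm.sign σ = 1 → (∀ k ∉ B, σ k = k) → pm σ ∈ K)
    (hconj : ∀ g ∈ K, ∀ a ∈ B, ∀ b ∈ B, a ≠ b → Mono (g * flp {a, b} * g⁻¹)) :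
    ∀ g ∈ K, Mono g := by
  classical
  let gens : Set (GL ι F) := {x | ∃ g ∈ K, ∃ a ∈ B, ∃ b ∈ B, a ≠ b ∧ g * flp {a, b} * g⁻¹ = x}
  let Y : Subgroup (GL ι F) := Subgroup.closure gens
  have hYK : Y ≤ K := (Subgroup.closure_le _).2 fun x ⟨g, hg, a, ha, b, hb, hab, e⟩ =>
    e ▸ mul_mem (mul_mem hg (hKf a ha b hb hab)) (inv_mem hg)
  have hYm : Y ≤ monoG := (Subgroup.closure_le _).2 fun x ⟨g, hg, a, ha, b, hb, hab, e⟩ =>
    e ▸ hconj g hg a ha b hb hab
  have hYn : ∀ g ∈ K, ∀ y ∈ Y, g * y * g⁻¹ ∈ Y := by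
    intro g hg y hy
    induction hy using Subgroup.closure_induction with
    | mem x hx =>
      obtain ⟨g', hg', a, ha, b, hb, hab, rfl⟩ := hx
      exact Subgroup.subset_closure ⟨g * g', mul_mem hg hg', a, ha, b, hb, hab, by group⟩
    | one => rw [mul_one, mul_inv_cancel]; exact one_mem _
    | mul x y _ _ hx hy => rw [show g * (x * y) * g⁻¹ = g * x * g⁻¹ * (g * y * g⁻¹) by group]; exact mul_mem hx hy
    | inv x _ hx => rw [show g * x⁻¹ * g⁻¹ = (g * x * g⁻¹)⁻¹ by group]; exact inv_mem hx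
  let N : Subgroup (Equiv.Perm ι) := (Y.subgroupOf monoG).map mperm
  have hNfix : ∀ x ∈ N, ∀ k ∉ B, x k = k := by
    rintro _ ⟨y, hy, rfl⟩ k hk
    exact mperm_fixOff (hKB (hYK hy)) hk
  -- the image of a generator commutes with its conjugates
  have key : ∀ g ∈ K, ∀ a ∈ B, ∀ b ∈ B, a ≠ b → ∀ em : monoG (ι := ι) (F := F), em.1 = g * flp {a, b} * g⁻¹ →
      ∀ y ∈ N, Commute (mperm em) (y * mperm em * y⁻¹) := by
    rintro g hg a ha b hb hab em hem _ ⟨ym, hym, rfl⟩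
    obtain ⟨y', hy'⟩ : ∃ y', y' = g⁻¹ * ym.1 * g := ⟨_, rfl⟩
    have hy'Y : y' ∈ Y := by
      have := hYn g⁻¹ (inv_mem hg) _ hym
      rw [inv_inv] at this
      rw [hy']
      exact this
    obtain ⟨y'm, hy'm⟩ : ∃ z : monoG (ι := ι) (F := F), z.1 = y' := ⟨⟨y', hYm hy'Y⟩, rfl⟩
    obtain ⟨fm, hfm⟩ : ∃ fm : monoG (ι := ι) (F := F), fm = ⟨flp {a, b}, mono_flp _⟩ := ⟨_, rfl⟩
    obtain ⟨D, hD⟩ := eq_flp_of_mperm h2 (g := y'm * fm * y'm⁻¹)
      (by rw [Subgroup.coe_mul, Subgroup.coe_mul, Subgroup.coe_inv, hy'm, hfm]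
          exact mul_mem (mul_mem (hKiso (hYK hy'Y)) (flp_iso _)) (inv_mem (hKiso (hYK hy'Y))))
      (by rw [map_mul, map_mul, map_inv, hfm, mperm_flp]; group)
    rw [Subgroup.coe_mul, Subgroup.coe_mul, Subgroup.coe_inv, hy'm, hfm] at hD
    have hcom : Commute em (ym * em * ym⁻¹) := Subtype.ext (by
      have hval : (ym * em * ym⁻¹ : monoG (ι := ι) (F := F)).1 = g * flp D * g⁻¹ := by
        rw [Subgroup.coe_mul, Subgroup.coe_mul, Subgroup.coe_inv, hem, ← hD, hy']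
        group
      show em.1 * (ym * em * ym⁻¹ : monoG (ι := ι) (F := F)).1 =
        (ym * em * ym⁻¹ : monoG (ι := ι) (F := F)).1 * em.1
      rw [hval, hem]
      rw [show g * flp {a, b} * g⁻¹ * (g * flp D * g⁻¹) = g * (flp {a, b} * flp D) * g⁻¹ by group,
        flp_comm, show g * flp D * g⁻¹ * (g * flp {a, b} * g⁻¹) = g * (flp D * flp {a, b}) * g⁻¹ by group])
    have := hcom.map (mperm (ι := ι) (F := F))
    rwa [map_mul, map_mul, map_inv] at this
  have hdiag : ∀ g ∈ K, ∀ a ∈ B, ∀ b ∈ B, a ≠ b → ∃ D : Finset ι, g * flp {a, b} * g⁻¹ = flp D := by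
    intro g hg a ha b hb hab
    obtain ⟨em, hem⟩ : ∃ em : monoG (ι := ι) (F := F), em.1 = g * flp {a, b} * g⁻¹ :=
      ⟨⟨_, hconj g hg a ha b hb hab⟩, rfl⟩
    suffices hp : mperm em = 1 by
      obtain ⟨D, hD⟩ := eq_flp_of_mperm h2 (hem.symm ▸ mul_mem (mul_mem (hKiso hg) (flp_iso _)) (inv_mem (hKiso hg))) hp
      exact ⟨D, by rw [← hem, hD]⟩
    by_contra hne
    have hgen : g * flp {a, b} * g⁻¹ ∈ Y := Subgroup.subset_closure ⟨g, hg, a, ha, b, hb, hab, rfl⟩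
    have hemN : mperm em ∈ N := ⟨em, Subgroup.mem_subgroupOf.2 (hem.symm ▸ hgen), rfl⟩
    have hxx : mperm em * mperm em = 1 := by
      rw [← map_mul, show em * em = 1 from Subtype.ext (by
        rw [Subgroup.coe_mul, hem, OneMemClass.coe_one,
          show g * flp {a, b} * g⁻¹ * (g * flp {a, b} * g⁻¹) = g * (flp {a, b} * flp {a, b}) * g⁻¹ by group,
          flp_sq, mul_one, mul_inv_cancel]), map_one]
    have hNn : ∀ σ : Equiv.Perm ι, Equiv.Perm.sign σ = 1 → (∀ k ∉ B, σ k = k) → ∀ x ∈ N, σ * x * σ⁻¹ ∈ N := by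
      rintro σ hσ hσB _ ⟨y, hy, rfl⟩
      refine ⟨⟨pm σ, mono_pm σ⟩ * y * ⟨pm σ, mono_pm σ⟩⁻¹, Subgroup.mem_subgroupOf.2 ?_, ?_⟩
      · rw [Subgroup.coe_mul, Subgroup.coe_mul, Subgroup.coe_inv]
        exact hYn _ (hKp σ hσ hσB) _ hy
      · rw [map_mul, map_mul, map_inv, mperm_pm]
    obtain ⟨σ₀, hσ₀, hσ₀B, hnc⟩ : ∃ σ : Equiv.Perm ι, Equiv.Perm.sign σ = 1 ∧ (∀ k ∉ B, σ k = k) ∧
        ¬ Commute (mperm em) (σ * mperm em * σ⁻¹) := by
      by_contra hall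
      push Not at hall
      exact hne (perm_eq_one_of_commute hB hxx (hNfix _ hemN) hall)
    obtain ⟨w, hw⟩ : ∃ w, w = mperm em * (σ₀ * mperm em * σ₀⁻¹) := ⟨_, rfl⟩
    have hwN : w ∈ N := hw ▸ mul_mem hemN (hNn σ₀ hσ₀ hσ₀B _ hemN)
    have hw1 : w ≠ 1 := fun e => hnc (by
      have h1 : σ₀ * mperm em * σ₀⁻¹ = (mperm em)⁻¹ := eq_inv_of_mul_eq_one_right (hw.symm.trans e)
      rw [h1]
      exact (Commute.refl _).inv_right)
    haveI := alternatingGroup.isSimpleGroup (α := {x // x ∈ B}) (by simpa using hB)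
    let θ : alternatingGroup {x // x ∈ B} →* Equiv.Perm ι :=
      Equiv.Perm.ofSubtype.comp (alternatingGroup {x // x ∈ B}).subtype
    have hθsign : ∀ x, Equiv.Perm.sign (θ x) = 1 := fun x => by
      show Equiv.Perm.sign (Equiv.Perm.ofSubtype x.1) = 1
      rw [Equiv.Perm.sign_ofSubtype]
      exact x.2
    have hθfix : ∀ x, ∀ k ∉ B, θ x k = k := fun x k hk => Equiv.Perm.ofSubtype_apply_of_not_mem _ hk
    have hrange : ∀ σ : Equiv.Perm ι, Equiv.Perm.sign σ = 1 → (∀ k ∉ B, σ k = k) → ∃ x, θ x = σ := by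
      intro σ hσ hσB
      have hmem : ∀ k, σ k ∈ B ↔ k ∈ B := fun k => by
        constructor
        · intro h
          by_contra hk
          rw [hσB k hk] at h
          exact hk h
        · intro h
          by_contra hk
          exact hk ((σ.injective (hσB _ hk)).symm ▸ h)
      have hof : Equiv.Perm.ofSubtype (σ.subtypePerm hmem) = σ :=
        Equiv.Perm.ofSubtype_subtypePerm _ (fun k hk => by by_contra h; exact hk (hσB k h))
      refine ⟨⟨σ.subtypePerm hmem, ?_⟩, hof⟩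
      rw [Equiv.Perm.mem_alternatingGroup, ← Equiv.Perm.sign_ofSubtype, hof]
      exact hσ
    haveI : (N.comap θ).Normal := ⟨fun x hx y => by
      rw [Subgroup.mem_comap, map_mul, map_mul, map_inv]
      exact hNn _ (hθsign y) (hθfix y) _ hx⟩
    have htop : N.comap θ = ⊤ := by
      refine (Subgroup.Normal.eq_bot_or_eq_top ‹_›).resolve_left fun hbot => ?_
      obtain ⟨x, hx⟩ := hrange w (by
        rw [hw, map_mul, map_mul, map_mul, map_inv, hσ₀, one_mul, inv_one, mul_one, ← map_mul, hxx, map_one])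
        (hNfix w hwN)
      have hx1 : x ∈ N.comap θ := by rw [Subgroup.mem_comap, hx]; exact hwN
      rw [hbot, Subgroup.mem_bot] at hx1
      exact hw1 (by rw [← hx, hx1, map_one])
    obtain ⟨x, hx⟩ := hrange σ₀ hσ₀ hσ₀B
    have hσN : σ₀ ∈ N := hx ▸ (Subgroup.mem_comap.1 (htop ▸ Subgroup.mem_top x))
    exact hnc (key g hg a ha b hb hab em hem σ₀ hσN)
  intro g hg j
  by_cases hj : j ∈ B
  · obtain ⟨i, -, c, hc⟩ := mono_on_of_diag h2 (by omega)
      (fun x => act_suppV h2 (hKiso hg) (hKB hg)) (hdiag g hg) j hj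
    exact ⟨i, c, hc⟩
  · exact ⟨j, 1, by rw [hKB hg j hj, one_smul]⟩

end CfsgLib.Perm.Trans.OrthFrame
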