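import Mathlib
import Cfsg.Agent.Lib.Perm.Trans.OrthFrame.Normal

/-!
# Involutions with a two-dimensional minus space at a minimal non-monomial support

`Invol` packages such an involution by an orthonormal basis of its minus space.  The lemma `outcome` describes the
minus space relative to one coordinate of the support.
-/

set_option autoImplicit false
set_option linter.all false

namespace CfsgLib.Perm.Trans.OrthFrame

open scoped Matrix
open Matrix Cfsg.Geo CfsgLib.Perm.Trans

variable {ι : Type} [Fintype ι] [DecidableEq ι] {F : Type*} [Field F]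

/-- `B` is a support all of whose smaller supports only carry monomial elements -/
structure MinB (H : Subgroup (GL ι F)) (B : Finset ι) : Prop where
  frame : Frame H
  two : (2 : F) ≠ 0
  five : 5 ≤ B.card
  small : ∀ C : Finset ι, C.card < B.card → ∀ h ∈ H, h ∈ fixOff C → Mono h

/-- an involution with minus space spanned by the orthonormal vectors `v`, `w` supported in `B` -/
structure Invol (H : Subgroup (GL ι F)) (B : Finset ι) (u : GL ι F) (v w : ι → F) : Prop where
  mem : u ∈ H
  fix : u ∈ fixOff B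
  sq : u * u = 1
  formula : ∀ x, act u x = x - (2 * (x ⬝ᵥ v)) • v - (2 * (x ⬝ᵥ w)) • w
  v_self : v ⬝ᵥ v = 1
  w_self : w ⬝ᵥ w = 1
  v_w : v ⬝ᵥ w = 0
  v_supp : SuppV B v
  w_supp : SuppV B w

theorem Invol.conj (h2 : (2 : F) ≠ 0) {H : Subgroup (GL ι F)} (hH : Frame H) {B : Finset ι} {g : GL ι F} (hg : g ∈ H)
    (hgB : g ∈ fixOff B) {a b : ι} (ha : a ∈ B) (hb : b ∈ B) (hab : a ≠ b) :
    Invol H B (g * flp {a, b} * g⁻¹) (act g (bv a)) (act g (bv b)) where
  mem := mul_mem (mul_mem hg (hH.flp_mem a b hab)) (inv_mem hg)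
  fix := mul_mem (mul_mem hgB (flp_fixOff (by
    intro x hx
    rcases Finset.mem_insert.1 hx with rfl | hx
    · exact ha
    · rw [Finset.mem_singleton.1 hx]; exact hb))) (inv_mem hgB)
  sq := by
    rw [show g * flp {a, b} * g⁻¹ * (g * flp {a, b} * g⁻¹) = g * (flp {a, b} * flp {a, b}) * g⁻¹ by group,
      flp_sq, mul_one, mul_inv_cancel]
  formula x := by
    have e : ∀ y : ι → F, act (flp {a, b}) y = y - (2 * y a) • bv a - (2 * y b) • bv b := fun y => by
      rw [act_flp]
      funext i
      simp only [Pi.sub_apply, Pi.smul_apply, smul_eq_mul, bv_apply, Finset.mem_insert, Finset.mem_singleton]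
      rcases eq_or_ne i a with rfl | hia
      · simp [hab]; ring
      rcases eq_or_ne i b with rfl | hib
      · simp [hia]; ring
      · simp [hia, hib]
    have hc : ∀ c, act g⁻¹ x c = x ⬝ᵥ act g (bv c) := fun c => by
      rw [← dot_bv (act g⁻¹ x) c, ← iso_dot h2 (hH.le_iso hg), act_inv']
    rw [act_mul, act_mul, e, hc, hc, act_sub, act_sub, act_smul, act_smul, act_inv']
  v_self := by rw [iso_dot h2 (hH.le_iso hg), dot_bv, bv_apply, if_pos rfl]
  w_self := by rw [iso_dot h2 (hH.le_iso hg), dot_bv, bv_apply, if_pos rfl]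
  v_w := by rw [iso_dot h2 (hH.le_iso hg), dot_bv, bv_apply, if_neg (Ne.symm hab)]
  v_supp := act_suppV h2 (hH.le_iso hg) hgB (bv_suppV ha)
  w_supp := act_suppV h2 (hH.le_iso hg) hgB (bv_suppV hb)

/-- the minus space -/
def InU (v w y : ι → F) : Prop := ∃ a b : F, y = a • v + b • w

/-- the projection of a coordinate vector on the minus space -/
def prj (v w : ι → F) (i : ι) : ι → F := v i • v + w i • w

/-- the vector of the minus space orthogonal to a coordinate vector -/
def ort (v w : ι → F) (i : ι) : ι → F := w i • v - v i • w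

/-- a vector of the minus space on two coordinates different from `i` with equal squares -/
def Alpha (B : Finset ι) (v w : ι → F) (i : ι) : Prop :=
  ∃ y, InU v w y ∧ ∃ j ∈ B, ∃ l ∈ B, j ≠ i ∧ l ≠ i ∧ j ≠ l ∧ y j ≠ 0 ∧ y j ^ 2 = y l ^ 2 ∧ SuppV {j, l} y

/-- the minus space is supported by `i` and two orbits -/
def Beta (B : Finset ι) (v w : ι → F) (i : ι) : Prop :=
  ∃ O₁ O₂ : Finset ι, O₁.card ≤ 2 ∧ O₂.card ≤ 2 ∧ O₁ ⊆ B ∧ O₂ ⊆ B ∧ i ∉ O₁ ∧ i ∉ O₂ ∧ Disjoint O₁ O₂ ∧
    ∀ y, InU v w y → SuppV (insert i (O₁ ∪ O₂)) y ∧ (∀ a ∈ O₁, ∀ b ∈ O₁, y a ^ 2 = y b ^ 2) ∧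
      ∀ a ∈ O₂, ∀ b ∈ O₂, y a ^ 2 = y b ^ 2

/-- a vector of the minus space on three coordinates with squares in the ratio `2 : 1 : 1` -/
def Gamma (B : Finset ι) (v w : ι → F) (i : ι) : Prop :=
  ∃ y, InU v w y ∧ ∃ k ∈ B, ∃ l ∈ B, k ≠ i ∧ l ≠ i ∧ k ≠ l ∧ y i ^ 2 = 2 * y k ^ 2 ∧ y k ^ 2 = y l ^ 2 ∧
    y k ≠ 0 ∧ SuppV {i, k, l} y

/-- the projection of a coordinate vector has two coordinates -/
def Delta (B : Finset ι) (v w : ι → F) (i : ι) : Prop :=
  ∃ l ∈ B, l ≠ i ∧ prj v w i l ≠ 0 ∧ SuppV {i, l} (prj v w i)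

variable [Fintype F] {H : Subgroup (GL ι F)} {B : Finset ι} {u : GL ι F} {v w : ι → F}

/-- an element with one fixed coordinate line inside and one outside is monomial -/
theorem MinB.mono_of_fixed (hB : MinB H B) {g : GL ι F} (hg : g ∈ H) {k : ι} (hgB : g ∈ fixOff (insert k B))
    {i : ι} (hi : i ∈ B) {c d : F} (hc : act g (bv i) = c • bv i) (hd : act g (bv k) = d • bv k) : Mono g := by
  classical
  have hiso := hB.frame.le_iso hg
  obtain ⟨x, hx, hxi⟩ := Finset.exists_mem_ne (s := B) (by have := hB.five; omega) i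
  obtain ⟨D, hDe, hDsub, hDi, hDk⟩ : ∃ D : Finset ι, Even D.card ∧ D ⊆ insert k B ∧ (i ∈ D ↔ c = -1) ∧
      (k ∉ B → (k ∈ D ↔ d = -1)) := by
    by_cases hkB : k ∈ B
    · by_cases hcc : c = -1
      · exact ⟨{i, x}, by rw [Finset.card_pair (Ne.symm hxi)]; exact even_two,
          fun y hy => by
            rcases Finset.mem_insert.1 hy with rfl | hy
            · exact Finset.mem_insert_of_mem hi
            · rw [Finset.mem_singleton.1 hy]; exact Finset.mem_insert_of_mem hx,
          by simp [hcc], fun h => absurd hkB h⟩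
      · exact ⟨∅, by simp, by simp, by simp [hcc], fun h => absurd hkB h⟩
    · have hki : k ≠ i := fun h => hkB (h ▸ hi)
      have hkx : k ≠ x := fun h => hkB (h ▸ hx)
      have hI : i ∈ insert k B := Finset.mem_insert_of_mem hi
      have hX : x ∈ insert k B := Finset.mem_insert_of_mem hx
      have hK : k ∈ insert k B := Finset.mem_insert_self k B
      by_cases hcc : c = -1 <;> by_cases hdd : d = -1
      · exact ⟨{i, k}, by rw [Finset.card_pair (Ne.symm hki)]; exact even_two,
          by simp [Finset.insert_subset_iff, hI], by simp [hcc], fun _ => by simp [hdd]⟩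
      · exact ⟨{i, x}, by rw [Finset.card_pair (Ne.symm hxi)]; exact even_two,
          by simp [Finset.insert_subset_iff, hI, hX], by simp [hcc], fun _ => by simp [hdd, hki, hkx]⟩
      · exact ⟨{k, x}, by rw [Finset.card_pair hkx]; exact even_two,
          by simp [Finset.insert_subset_iff, hX], by simp [hcc, Ne.symm hki, Ne.symm hxi], fun _ => by simp [hdd]⟩
      · exact ⟨∅, by simp, by simp, by simp [hcc], fun _ => by simp [hdd]⟩
  have hmem : g * flp D ∈ fixOff (B.erase i) := by
    intro y hy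
    rw [act_mul, flp_bv, act_smul]
    rw [Finset.mem_erase, not_and_or, not_not] at hy
    rcases eq_or_ne y i with rfl | hyi
    · rw [hc, smul_smul]
      rcases coeff_sq hB.two hiso hc with rfl | rfl
      · rw [if_neg, one_mul, one_smul]
        intro h
        exact hB.two (by linear_combination hDi.1 h)
      · rw [if_pos (hDi.2 rfl)]
        simp
    · have hyB : y ∉ B := hy.resolve_left hyi
      by_cases hyk : y = k
      · subst hyk
        rw [hd, smul_smul]
        rcases coeff_sq hB.two hiso hd with rfl | rfl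
        · rw [if_neg, one_mul, one_smul]
          intro h
          exact hB.two (by linear_combination (hDk hyB).1 h)
        · rw [if_pos ((hDk hyB).2 rfl)]
          simp
      · have hy' : y ∉ insert k B := by simp [hyk, hyB]
        rw [if_neg fun h => hy' (hDsub h), hgB y hy', one_smul]
  have h1 := hB.small _ (by rw [Finset.card_erase_of_mem hi]; have := hB.five; omega) _
    (mul_mem hg (hB.frame.flp_even hDe)) hmem
  have h3 := h1.mul (mono_flp D)
  rwa [mul_assoc, flp_sq, mul_one] at h3

theorem MinB.mono_of_eig (hB : MinB H B) {g : GL ι F} (hg : g ∈ H) (hgB : g ∈ fixOff B) {i : ι} (hi : i ∈ B) {c : F}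
    (hc : act g (bv i) = c • bv i) : Mono g :=
  hB.mono_of_fixed hg (k := i) (fixOff_mono (Finset.subset_insert i B) hgB) hi hc hc

namespace Invol

variable (hu : Invol H B u v w)
include hu

omit [Fintype F] in
theorem inU_v : InU v w v := ⟨1, 0, by simp⟩

omit [Fintype F] in
theorem inU_w : InU v w w := ⟨0, 1, by simp⟩

omit [Fintype F] in
theorem suppV_of_inU {y : ι → F} (hy : InU v w y) : SuppV B y := by
  obtain ⟨a, b, rfl⟩ := hy
  intro k hk
  simp [hu.v_supp k hk, hu.w_supp k hk]

omit [Fintype F] in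
theorem act_bv (i : ι) : act u (bv i) = bv i - (2 : F) • prj v w i := by
  rw [hu.formula, prj, bv_dot, bv_dot, smul_add, smul_smul, smul_smul, sub_sub]

omit [Fintype F] in
theorem prj_self (i : ι) : prj v w i ⬝ᵥ prj v w i = prj v w i i := by
  simp only [prj, add_dotProduct, dotProduct_add, smul_dotProduct, dotProduct_smul, hu.v_self, hu.w_self, hu.v_w,
    dotProduct_comm w v, smul_eq_mul, Pi.add_apply, Pi.smul_apply]
  ring

omit [Fintype F] in
theorem ort_self (i : ι) : ort v w i ⬝ᵥ ort v w i = prj v w i i := by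
  simp only [ort, prj, sub_dotProduct, dotProduct_sub, smul_dotProduct, dotProduct_smul, hu.v_self, hu.w_self, hu.v_w,
    dotProduct_comm w v, smul_eq_mul, Pi.add_apply, Pi.smul_apply]
  ring

omit [Fintype F] in
theorem ort_prj (i : ι) : ort v w i ⬝ᵥ prj v w i = 0 := by
  simp only [ort, prj, sub_dotProduct, dotProduct_add, smul_dotProduct, dotProduct_smul, hu.v_self, hu.w_self, hu.v_w,
    dotProduct_comm w v, smul_eq_mul]
  ring

omit hu [Fintype F] in
theorem ort_apply (i : ι) : ort v w i i = 0 := by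
  simp [ort, mul_comm]

omit [Fintype F] in
theorem inU_prj (i : ι) : InU v w (prj v w i) := ⟨v i, w i, rfl⟩

omit hu [Fintype F] in
theorem inU_ort (i : ι) : InU v w (ort v w i) := ⟨w i, -v i, by rw [ort, neg_smul, sub_eq_add_neg]⟩

omit [Fintype F] in
theorem act_inU {y : ι → F} (hy : InU v w y) : act u y = -y := by
  obtain ⟨a, b, rfl⟩ := hy
  rw [hu.formula]
  simp only [add_dotProduct, smul_dotProduct, hu.v_self, hu.w_self, hu.v_w, dotProduct_comm w v, smul_eq_mul]
  module

omit [Fintype F] in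
theorem act_perp {y : ι → F} (h1 : y ⬝ᵥ v = 0) (h3 : y ⬝ᵥ w = 0) : act u y = y := by
  rw [hu.formula, h1, h3, mul_zero, zero_smul, zero_smul, sub_zero, sub_zero]

omit [Fintype F] in
theorem ort_ne_zero {i : ι} (h : ¬ (v i = 0 ∧ w i = 0)) : ort v w i ≠ 0 := by
  intro h0
  have h1 := congrArg (· ⬝ᵥ v) h0
  have h3 := congrArg (· ⬝ᵥ w) h0
  simp only [ort, sub_dotProduct, smul_dotProduct, hu.v_self, hu.w_self, hu.v_w, dotProduct_comm w v, smul_eq_mul,
    zero_dotProduct] at h1 h3
  exact h ⟨by linear_combination -h3, by linear_combination h1⟩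

/-- the minus space has full support, or the involution is monomial -/
theorem mono_of_zero (hB : MinB H B) {j : ι} (hj : j ∈ B) (h1 : v j = 0) (h3 : w j = 0) : Mono u :=
  hB.mono_of_eig hu.mem hu.fix hj (c := 1) (by rw [hu.act_bv, prj, h1, h3]; simp)

theorem mono_of_supp (hB : MinB H B) {T : Finset ι} (hT : T.card < B.card)
    (h : ∀ y, InU v w y → SuppV T y) : Mono u := by
  obtain ⟨j, hj, hjT⟩ := Finset.exists_mem_notMem_of_card_lt_card hT
  exact hu.mono_of_zero hB hj (h _ hu.inU_v j hjT) (h _ hu.inU_w j hjT)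

end Invol

end CfsgLib.Perm.Trans.OrthFrame
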