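import Mathlib
import Cfsg.Agent.Lib.Perm.Trans.OrthFrame.Pair

/-!
# The minus space of a pair involution relative to one coordinate

The product with a sign change generates a dihedral group whose central involution is monomial.
-/

set_option autoImplicit false
set_option linter.all false

namespace CfsgLib.Perm.Trans.OrthFrame

open scoped Matrix
open Matrix Cfsg.Geo CfsgLib.Perm.Trans

variable {ι : Type} [Fintype ι] [DecidableEq ι] {F : Type*} [Field F]

theorem coord_of_bv (h2 : (2 : F) ≠ 0) {g : GL ι F} (hg : g ∈ Cfsg.isometryGroup F (stdQ : (ι → F) → F))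
    (hsq : g * g = 1) {r l : ι} {d : F} (h : act g (bv r) = d • bv l) (y : ι → F) : act g y r = d * y l := by
  have h1 : act g (act g (bv r : ι → F)) = bv r := by rw [← act_mul, hsq, act_one]
  rw [← dot_bv (act g y) r, ← h1, iso_dot h2 hg, h, dotProduct_smul, dot_bv, smul_eq_mul]

theorem act_pow_eig {g : GL ι F} {c : F} {x : ι → F} (h : act g x = c • x) (n : ℕ) :
    act (g ^ n) x = c ^ n • x := by
  induction n with
  | zero => rw [pow_zero, pow_zero, act_one, one_smul]
  | succ n ih => rw [pow_succ, act_mul, h, act_smul, ih, smul_smul, ← pow_succ']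

/-- a vector orthogonal to the supported common orthogonal of `v`, `w` and `eᵢ` lies in their span -/
theorem mem_three {B : Finset ι} {v w y : ι → F} {i : ι} (hi : i ∈ B) (hv : SuppV B v) (hw : SuppV B w)
    (hy : SuppV B y)
    (h : ∀ x, SuppV B x → x ⬝ᵥ v = 0 → x ⬝ᵥ w = 0 → x i = 0 → y ⬝ᵥ x = 0) :
    ∃ a b c : F, y = a • v + b • w + c • bv i := by
  classical
  obtain ⟨vec, hvec⟩ : ∃ vec : Fin 3 ⊕ {x // x ∉ B} → (ι → F),
      vec = Sum.elim ![v, w, bv i] (fun x : {x // x ∉ B} => bv x.1) := ⟨_, rfl⟩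
  have hmem : dotProductBilin (m := ι) (A := F) F F y ∈
      Submodule.span F (Set.range fun t => dotProductBilin (m := ι) (A := F) F F (vec t)) := by
    refine mem_span_of_iInf_ker_le_ker (fun x hx => ?_)
    simp only [Submodule.mem_iInf, LinearMap.mem_ker, dotProductBilin_apply_apply] at hx
    rw [LinearMap.mem_ker, dotProductBilin_apply_apply]
    refine h x (fun r hr => ?_) ?_ ?_ ?_
    · have := hx (Sum.inr ⟨r, hr⟩)
      simpa [hvec] using this
    · have := hx (Sum.inl 0)
      simpa [hvec, dotProduct_comm] using this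
    · have := hx (Sum.inl 1)
      simpa [hvec, dotProduct_comm] using this
    · have := hx (Sum.inl 2)
      simpa [hvec] using this
  obtain ⟨c, hc⟩ := (Submodule.mem_span_range_iff_exists_fun F).1 hmem
  have hcoord : ∀ r, y r = ∑ t, c t * vec t r := fun r => by
    have := LinearMap.congr_fun hc (bv r)
    simpa [LinearMap.sum_apply, dotProductBilin_apply_apply, dot_bv] using this.symm
  refine ⟨c (Sum.inl 0), c (Sum.inl 1), c (Sum.inl 2), funext fun r => ?_⟩
  by_cases hr : r ∈ B
  · rw [hcoord r, Fintype.sum_sum_type, Fin.sum_univ_three, hvec]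
    rw [Finset.sum_eq_zero (f := fun x : {x // x ∉ B} => c (Sum.inr x) * _) fun x _ => ?_]
    · simp
    · rw [Sum.elim_inr, bv_apply, if_neg fun e : r = (x : ι) => x.2 (e ▸ hr), mul_zero]
  · have hri : r ≠ i := fun e => hr (e ▸ hi)
    simp [hy r hr, hv r hr, hw r hr, hri, bv_apply]

/-- two vectors with disjoint supports of the coordinate hyperplane span it -/
theorem span_of_two {v w x₁ x₂ : ι → F} {i j₁ j₂ : ι} (h₁ : ∃ a b c : F, x₁ = a • v + b • w + c • bv i)
    (h₂ : ∃ a b c : F, x₂ = a • v + b • w + c • bv i) (hi₁ : x₁ i = 0) (hi₂ : x₂ i = 0)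
    (hj₁ : x₁ j₁ ≠ 0) (hj₁' : x₂ j₁ = 0) (hj₂ : x₂ j₂ ≠ 0) :
    ∀ a b c : F, ∃ p q r : F, a • v + b • w + c • bv i = p • x₁ + q • x₂ + r • bv i := by
  obtain ⟨a₁, b₁, c₁, e₁⟩ := h₁
  obtain ⟨a₂, b₂, c₂, e₂⟩ := h₂
  have hdet : a₁ * b₂ - a₂ * b₁ ≠ 0 := by
    intro hd
    have k1 : b₂ • x₁ - b₁ • x₂ = (b₂ * c₁ - b₁ * c₂) • bv i := by
      rw [e₁, e₂]
      funext r
      simp only [Pi.sub_apply, Pi.add_apply, Pi.smul_apply, smul_eq_mul]
      linear_combination (v r) * hd
    have k2 : a₂ • x₁ - a₁ • x₂ = (a₂ * c₁ - a₁ * c₂) • bv i := by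
      rw [e₁, e₂]
      funext r
      simp only [Pi.sub_apply, Pi.add_apply, Pi.smul_apply, smul_eq_mul]
      linear_combination -(w r) * hd
    have z1 := congrFun k1 i
    have z2 := congrFun k2 i
    simp only [Pi.sub_apply, Pi.smul_apply, smul_eq_mul, hi₁, hi₂, bv_apply, ↓reduceIte, mul_zero, sub_zero, mul_one]
      at z1 z2
    rw [← z1, zero_smul] at k1
    rw [← z2, zero_smul] at k2
    have hb := congrFun k1 j₁
    have ha := congrFun k2 j₁
    simp only [Pi.sub_apply, Pi.smul_apply, smul_eq_mul, hj₁', mul_zero, sub_zero, Pi.zero_apply, mul_eq_zero,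
      hj₁, or_false] at ha hb
    apply hj₂
    rw [e₂, ha, hb] at hi₂ ⊢
    simp only [zero_smul, zero_add, Pi.smul_apply, smul_eq_mul, bv_apply, ↓reduceIte, mul_one] at hi₂ ⊢
    rw [hi₂, zero_mul]
  intro a b c
  refine ⟨(a * b₂ - b * a₂) / (a₁ * b₂ - a₂ * b₁), (a₁ * b - b₁ * a) / (a₁ * b₂ - a₂ * b₁),
    c - ((a * b₂ - b * a₂) / (a₁ * b₂ - a₂ * b₁) * c₁ + (a₁ * b - b₁ * a) / (a₁ * b₂ - a₂ * b₁) * c₂), ?_⟩
  rw [e₁, e₂]
  obtain ⟨D, hD⟩ : ∃ D, D = a₁ * b₂ - a₂ * b₁ := ⟨_, rfl⟩
  rw [← hD] at hdet ⊢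
  match_scalars <;> field_simp <;> subst hD <;> ring

variable [Fintype F] {H : Subgroup (GL ι F)} {B : Finset ι} {u : GL ι F} {v w : ι → F}

/-- the possible shapes of the minus space at the coordinate `i` -/
theorem Invol.outcome (hu : Invol H B u v w) (hB : MinB H B) {i : ι} (hi : i ∈ B) {k : ι} (hk : k ≠ i → k ∉ B)
    {ε : F} (hε : ε = 1 ∨ ε = -1) {s : GL ι F} (hs : s ∈ H) (hsB : s ∈ fixOff (insert k B)) (hs2 : s * s = 1)
    (hsi : act s (bv i) = ε • bv i) (hsB' : ∀ j ∈ B, j ≠ i → act s (bv j) = (-ε) • bv j)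
    (hsk : k ≠ i → act s (bv k) = (-1 : F) • bv k) (hneg : ∃ y, y ≠ 0 ∧ act (s * u) y = -y) :
    Mono u ∨ Alpha B v w i ∨ Beta B v w i ∨ Gamma B v w i ∨ Delta B v w i := by
  classical
  have h2 := hB.two
  have hεε : ε * ε = 1 := by rcases hε with rfl | rfl <;> norm_num
  have hsiso := hB.frame.le_iso hs
  have huiso := hB.frame.le_iso hu.mem
  by_cases hzero : v i = 0 ∧ w i = 0
  · exact Or.inl (hu.mono_of_zero hB hi hzero.1 hzero.2)
  obtain ⟨f, hf⟩ : ∃ f, f = ort v w i := ⟨_, rfl⟩
  obtain ⟨h, hh⟩ : ∃ h, h = prj v w i := ⟨_, rfl⟩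
  have hf0 : f ≠ 0 := hf ▸ hu.ort_ne_zero hzero
  have hfi : f i = 0 := hf ▸ Invol.ort_apply i
  have hfB : SuppV B f := hf ▸ hu.suppV_of_inU (Invol.inU_ort i)
  have huf : act u f = -f := hf ▸ hu.act_inU (Invol.inU_ort i)
  have hk' : ∀ r, r ∈ insert k B → r ∉ B → r = k ∧ k ≠ i := by
    intro r hr hrB
    have e : r = k := (Finset.mem_insert.1 hr).resolve_right hrB
    exact ⟨e, fun e' => hrB (by rw [e, e']; exact hi)⟩
  have hsc : ∀ y, SuppV B y → y i = 0 → act s y = (-ε) • y := fun y hy hyi => funext fun r => by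
    rw [Pi.smul_apply, smul_eq_mul]
    by_cases hrB : r ∈ B
    · rcases eq_or_ne r i with rfl | hri
      · rw [coord_of_bv h2 hsiso hs2 hsi, hyi, mul_zero, mul_zero]
      · rw [coord_of_bv h2 hsiso hs2 (hsB' r hrB hri)]
    · rw [hy r hrB, mul_zero]
      by_cases hr : r ∈ insert k B
      · obtain ⟨rfl, hki⟩ := hk' r hr hrB
        rw [coord_of_bv h2 hsiso hs2 (hsk hki), hy r hrB, mul_zero]
      · rw [coord_of_bv h2 hsiso hs2 (d := 1) (l := r) (by rw [hsB r hr, one_smul]), hy r hrB, mul_zero]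
  obtain ⟨q, hq⟩ : ∃ q, q = s * u := ⟨_, rfl⟩
  obtain ⟨m, hm⟩ : ∃ m, orderOf q = 2 * m := by
    obtain ⟨y, hy0, hy⟩ := hneg
    rw [← hq] at hy
    have h1 := act_pow_eig (g := q) (c := (-1 : F)) (x := y) (by rw [hy, neg_one_smul]) (orderOf q)
    rw [pow_orderOf_eq_one, act_one] at h1
    rcases Nat.even_or_odd (orderOf q) with he | ho
    · obtain ⟨m, hm⟩ := he
      exact ⟨m, by omega⟩
    · rw [ho.neg_one_pow, neg_one_smul] at h1
      refine absurd (funext fun r => ?_) hy0
      have := congrFun h1 r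
      rw [Pi.neg_apply] at this
      exact (mul_eq_zero.1 (show (2 : F) * y r = 0 by linear_combination this)).resolve_left h2
  obtain ⟨z, hz⟩ : ∃ z, z = q ^ m := ⟨_, rfl⟩
  have hz1 : z ≠ 1 := by
    rw [hz]
    refine pow_ne_one_of_lt_orderOf ?_ ?_
    · have := (isOfFinOrder_of_finite q).orderOf_pos; omega
    · have := (isOfFinOrder_of_finite q).orderOf_pos; omega
  have hz2 : z * z = 1 := by rw [hz, ← pow_add, ← two_mul, ← hm, pow_orderOf_eq_one]
  have hqs : s * q * s⁻¹ = q⁻¹ := by
    rw [hq, _root_.mul_inv_rev, inv_eq_of_mul_eq_one_right hs2, inv_eq_of_mul_eq_one_right hu.sq, ← mul_assoc s s,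
      hs2, one_mul]
  have hqu : u * q * u⁻¹ = q⁻¹ := by
    rw [hq, _root_.mul_inv_rev, inv_eq_of_mul_eq_one_right hs2, inv_eq_of_mul_eq_one_right hu.sq, mul_assoc,
      mul_assoc s u u, hu.sq, mul_one]
  have hzinv : z⁻¹ = z := inv_eq_of_mul_eq_one_right hz2
  have hsz : s * z = z * s := by
    have : s * z * s⁻¹ = z := by rw [hz, ← conj_pow, hqs, inv_pow, ← hz, hzinv]
    rw [← mul_inv_eq_iff_eq_mul, this]
  have huz : u * z = z * u := by
    have : u * z * u⁻¹ = z := by rw [hz, ← conj_pow, hqu, inv_pow, ← hz, hzinv]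
    rw [← mul_inv_eq_iff_eq_mul, this]
  have hqB : q ∈ fixOff (insert k B) := hq ▸ mul_mem hsB (fixOff_mono (Finset.subset_insert k B) hu.fix)
  have hzH : z ∈ H := hz ▸ pow_mem (hq ▸ mul_mem hs hu.mem) m
  have hzB : z ∈ fixOff (insert k B) := hz ▸ pow_mem hqB m
  have hziso := hB.frame.le_iso hzH
  have hqk : k ≠ i → act q (bv k) = (-1 : F) • bv k := fun hki => by
    rw [hq, act_mul, hu.fix k (hk hki), hsk hki]
  have hzk : k ≠ i → act z (bv k) = ((-1 : F) ^ m) • bv k := fun hki => hz ▸ act_pow_eig (hqk hki) m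
  obtain ⟨c, hc⟩ : ∃ c : F, act z (bv i) = c • bv i := by
    refine ⟨act z (bv i) i, funext fun r => ?_⟩
    rw [Pi.smul_apply, smul_eq_mul, bv_apply]
    rcases eq_or_ne r i with rfl | hri
    · rw [if_pos rfl, mul_one]
    rw [if_neg hri, mul_zero]
    by_cases hr : r ∈ insert k B
    · by_cases hrB : r ∈ B
      · have h1 := coord_of_bv h2 hsiso hs2 (hsB' r hrB hri) (act z (bv i))
        rw [← act_mul, hsz, act_mul, hsi, act_smul, Pi.smul_apply, smul_eq_mul] at h1
        have h3 : (2 * ε) * act z (bv i) r = 0 := by linear_combination h1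
        exact (mul_eq_zero.1 h3).resolve_left (mul_ne_zero h2 fun e => by simp [e] at hεε)
      · obtain ⟨rfl, hki⟩ := hk' r hr hrB
        rw [coord_of_bv h2 hziso hz2 (hzk hki), bv_apply, if_neg hki, mul_zero]
    · exact act_suppV h2 hziso hzB (bv_suppV (Finset.mem_insert_of_mem hi)) r hr
  have hzmono : Mono z := by
    by_cases hki : k = i
    · exact hB.mono_of_fixed hzH hzB hi hc (hki ▸ hc)
    · exact hB.mono_of_fixed hzH hzB hi hc (hzk hki)
  have hcc := coeff_sq h2 hziso hc
  have hzout : ∀ r, r ∉ B.erase i → ∃ c' : F, act z (bv r) = c' • bv r := fun r hr => by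
    rcases eq_or_ne r i with rfl | hri
    · exact ⟨c, hc⟩
    have hrB : r ∉ B := fun h' => hr (Finset.mem_erase.2 ⟨hri, h'⟩)
    by_cases hr' : r ∈ insert k B
    · obtain ⟨rfl, hki⟩ := hk' r hr' hrB
      exact ⟨_, hzk hki⟩
    · exact ⟨1, by rw [hzB r hr', one_smul]⟩
  have horb : ∀ j ∈ B.erase i, ∃ l ∈ B.erase i, ∃ d : F, act z (bv j) = d • bv l := fun j hj => by
    obtain ⟨l, d, hd⟩ := hzmono j
    refine ⟨l, ?_, d, hd⟩
    by_contra hl
    obtain ⟨c', hc'⟩ := hzout l hl
    have h1 : act z (act z (bv j)) = bv j := by rw [← act_mul, hz2, act_one]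
    rw [hd, act_smul, hc', smul_smul] at h1
    exact hl ((smul_bv_inj (one_ne_zero (α := F)) ((one_smul F (bv j : ι → F)).trans h1.symm)).1 ▸ hj)
  choose! σ hσ dd hd using horb
  have hdd : ∀ j ∈ B.erase i, dd j * dd j = 1 := fun j hj => by
    rcases coeff_sq h2 hziso (hd j hj) with h1 | h1 <;> rw [h1] <;> norm_num
  have hσσ : ∀ j ∈ B.erase i, σ (σ j) = j := fun j hj => by
    have h1 : act z (act z (bv j)) = bv j := by rw [← act_mul, hz2, act_one]
    rw [hd j hj, act_smul, hd _ (hσ j hj), smul_smul] at h1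
    exact ((smul_bv_inj (one_ne_zero (α := F)) ((one_smul F (bv j : ι → F)).trans h1.symm)).1).symm
  -- eigenvectors of `z`
  have hcoord : ∀ (θ : F) (y : ι → F), act z y = θ • y → ∀ j ∈ B.erase i, dd j * y (σ j) = θ * y j := by
    intro θ y hy j hj
    rw [← coord_of_bv h2 hziso hz2 (hd j hj), hy, Pi.smul_apply, smul_eq_mul]
  have hsquare : ∀ (θ : F), θ * θ = 1 → ∀ (y : ι → F), act z y = θ • y → ∀ j ∈ B.erase i, y (σ j) ^ 2 = y j ^ 2 := by
    intro θ hθ y hy j hj
    have h1 := hcoord θ y hy j hj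
    calc y (σ j) ^ 2 = (dd j * y (σ j)) ^ 2 := by rw [mul_pow, pow_two (dd j), hdd j hj, one_mul]
      _ = y j ^ 2 := by rw [h1, mul_pow, pow_two θ, hθ, one_mul]
  obtain ⟨xv, hxv⟩ : ∃ xv : F → ι → (ι → F), xv = fun θ j => bv j + θ • act z (bv j) := ⟨_, rfl⟩
  have hxz : ∀ (θ : F), θ * θ = 1 → ∀ j, act z (xv θ j) = θ • xv θ j := by
    intro θ hθ j
    rw [hxv]
    dsimp only
    rw [act_add, act_smul, ← act_mul, hz2, act_one, smul_add, smul_smul, hθ, one_smul, add_comm]
  have hxsupp : ∀ θ, ∀ j ∈ B.erase i, SuppV {j, σ j} (xv θ j) := by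
    intro θ j hj r hr
    simp only [Finset.mem_insert, Finset.mem_singleton, not_or] at hr
    rw [hxv]
    dsimp only
    rw [hd j hj, Pi.add_apply, Pi.smul_apply, Pi.smul_apply, bv_apply, bv_apply, if_neg hr.1, if_neg hr.2]
    simp
  have hxi : ∀ θ, ∀ j ∈ B.erase i, xv θ j i = 0 := fun θ j hj => hxsupp θ j hj i (by
    simp only [Finset.mem_insert, Finset.mem_singleton, not_or]
    exact ⟨Ne.symm (Finset.mem_erase.1 hj).1, Ne.symm (Finset.mem_erase.1 (hσ j hj)).1⟩)
  have hxB : ∀ θ, ∀ j ∈ B.erase i, SuppV B (xv θ j) := fun θ j hj => (hxsupp θ j hj).mono (by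
    intro r hr
    rcases Finset.mem_insert.1 hr with rfl | hr
    · exact (Finset.mem_erase.1 hj).2
    · rw [Finset.mem_singleton.1 hr]; exact (Finset.mem_erase.1 (hσ j hj)).2)
  have hxne : ∀ (θ : F), θ * θ = 1 → ∀ j ∈ B.erase i, xv θ j ≠ 0 → xv θ j j ≠ 0 := by
    intro θ hθ j hj hne h0
    refine hne (funext fun r => ?_)
    by_cases hr : r ∈ ({j, σ j} : Finset ι)
    · rcases Finset.mem_insert.1 hr with rfl | hr
      · exact h0
      · rw [Finset.mem_singleton.1 hr, Pi.zero_apply]
        have := hsquare θ hθ _ (hxz θ hθ j) j hj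
        rw [h0, zero_pow two_ne_zero] at this
        exact pow_eq_zero_iff two_ne_zero |>.1 this
    · exact hxsupp θ j hj r hr
  have hxnorm : ∀ (θ : F), θ * θ = 1 → ∀ j ∈ B.erase i, xv θ j ≠ 0 → xv θ j ⬝ᵥ xv θ j ≠ 0 := by
    intro θ hθ j hj hne h0
    have hjj := hxne θ hθ j hj hne
    have hsub : ∀ r ∈ (Finset.univ : Finset ι), r ∉ ({j, σ j} : Finset ι) → xv θ j r * xv θ j r = 0 :=
      fun r _ hr => by rw [hxsupp θ j hj r hr, mul_zero]
    rw [dotProduct, ← Finset.sum_subset (Finset.subset_univ _) hsub] at h0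
    rcases eq_or_ne j (σ j) with e | e
    · rw [← e, Finset.insert_eq_of_mem (Finset.mem_singleton_self j), Finset.sum_singleton, mul_self_eq_zero] at h0
      exact hjj h0
    · rw [Finset.sum_pair e] at h0
      have := hsquare θ hθ _ (hxz θ hθ j) j hj
      exact hjj (mul_self_eq_zero.1 ((mul_eq_zero.1 (show (2 : F) * (xv θ j j * xv θ j j) = 0 by
        linear_combination h0 - this)).resolve_left h2))
  have hxzero : ∀ (θ : F), θ * θ = 1 → ∀ j ∈ B.erase i, xv θ j = 0 →
      σ j = j ∧ dd j = -θ ∧ ∀ y, act z y = θ • y → y j = 0 := by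
    intro θ hθ j hj h0
    have hjj := congrFun h0 j
    rw [hxv] at hjj
    dsimp only at hjj
    rw [hd j hj, Pi.add_apply, Pi.smul_apply, Pi.smul_apply, bv_apply, bv_apply, if_pos rfl] at hjj
    by_cases e : j = σ j
    · rw [if_pos e] at hjj
      simp only [smul_eq_mul, mul_one, Pi.zero_apply] at hjj
      have hdj : dd j = -θ := by linear_combination θ * hjj - dd j * hθ
      refine ⟨e.symm, hdj, fun y hy => ?_⟩
      have h1 := hcoord θ y hy j hj
      rw [← e, hdj] at h1
      exact (mul_eq_zero.1 (show (2 * θ) * y j = 0 by linear_combination -h1)).resolve_left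
        (mul_ne_zero h2 fun e' => by simp [e'] at hθ)
    · rw [if_neg e] at hjj
      simp at hjj
  have hW : ∀ (θ : F), θ * θ = 1 → θ * (-ε) ^ m = -1 → ∀ y, SuppV B y → act z y = θ • y →
      ∃ a b c : F, y = a • v + b • w + c • bv i := by
    intro θ hθ hne y hyB hy
    refine mem_three hi hu.v_supp hu.w_supp hyB fun x hxB hxv' hxw hxi' => ?_
    have hqx : act q x = (-ε) • x := by rw [hq, act_mul, hu.act_perp hxv' hxw, hsc x hxB hxi']
    have h1 := iso_dot h2 hziso y x
    rw [hy, hz, act_pow_eig hqx m, smul_dotProduct, dotProduct_smul, smul_smul, hne, neg_one_smul] at h1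
    exact (mul_eq_zero.1 (show (2 : F) * (y ⬝ᵥ x) = 0 by linear_combination -h1)).resolve_left h2
  have hzf : act z f = (ε ^ m) • f := by
    refine hz ▸ act_pow_eig ?_ m
    rw [hq, act_mul, huf, act_neg, hsc f hfB hfi, neg_smul, neg_neg]
  have hperp : ∀ (θ : F) (y y' : ι → F), θ * θ = 1 → act z y = θ • y → act z y' = (-θ) • y' → y ⬝ᵥ y' = 0 := by
    intro θ y y' hθ hy hy'
    have h1 := iso_dot h2 hziso y y'
    rw [hy, hy', smul_dotProduct, dotProduct_smul, smul_smul, mul_neg, hθ, neg_one_smul] at h1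
    exact (mul_eq_zero.1 (show (2 : F) * (y ⬝ᵥ y') = 0 by linear_combination -h1)).resolve_left h2
  have hfix_i : ∀ {t : F}, act u (bv i) = t • bv i → Mono u := fun ht => hB.mono_of_eig hu.mem hu.fix hi ht
  -- two orbits span
  have htwo : ∀ (θ : F), θ * θ = 1 → θ * (-ε) ^ m = -1 → ∀ j₁ ∈ B.erase i, ∀ j₂ ∈ B.erase i,
      j₂ ∉ ({j₁, σ j₁} : Finset ι) → xv θ j₁ ≠ 0 → xv θ j₂ ≠ 0 → ∀ y, (∃ a b c : F, y = a • v + b • w + c • bv i) →
      ∃ p p' r : F, y = p • xv θ j₁ + p' • xv θ j₂ + r • bv i ∧
        y ⬝ᵥ xv θ j₁ = p * (xv θ j₁ ⬝ᵥ xv θ j₁) ∧ y ⬝ᵥ xv θ j₂ = p' * (xv θ j₂ ⬝ᵥ xv θ j₂) := by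
    intro θ hθ hne j₁ hj₁ j₂ hj₂ hdis hn₁ hn₂ y hy
    simp only [Finset.mem_insert, Finset.mem_singleton, not_or] at hdis
    have hn₁₂ : xv θ j₂ j₁ = 0 := hxsupp θ j₂ hj₂ j₁ (by
      simp only [Finset.mem_insert, Finset.mem_singleton, not_or]
      exact ⟨Ne.symm hdis.1, fun e => hdis.2 (by rw [e, hσσ j₂ hj₂])⟩)
    have hdot : xv θ j₁ ⬝ᵥ xv θ j₂ = 0 := Finset.sum_eq_zero fun r _ => by
      by_cases hr : r ∈ ({j₁, σ j₁} : Finset ι)
      · rw [hxsupp θ j₂ hj₂ r ?_, mul_zero]
        simp only [Finset.mem_insert, Finset.mem_singleton, not_or]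
        rcases Finset.mem_insert.1 hr with rfl | hr
        · exact ⟨Ne.symm hdis.1, fun e => hdis.2 (by rw [e, hσσ j₂ hj₂])⟩
        · rw [Finset.mem_singleton.1 hr]
          refine ⟨Ne.symm hdis.2, fun e => hdis.1 ?_⟩
          rw [← hσσ j₁ hj₁, e, hσσ j₂ hj₂]
      · rw [hxsupp θ j₁ hj₁ r hr, zero_mul]
    obtain ⟨a, b, c', hy⟩ := hy
    obtain ⟨p, p', r, e⟩ := span_of_two (hW θ hθ hne _ (hxB θ j₁ hj₁) (hxz θ hθ j₁))
      (hW θ hθ hne _ (hxB θ j₂ hj₂) (hxz θ hθ j₂)) (hxi θ j₁ hj₁) (hxi θ j₂ hj₂) (hxne θ hθ j₁ hj₁ hn₁)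
      hn₁₂ (hxne θ hθ j₂ hj₂ hn₂) a b c'
    refine ⟨p, p', r, hy.trans e, ?_, ?_⟩
    · rw [hy, e, add_dotProduct, add_dotProduct, smul_dotProduct, smul_dotProduct, smul_dotProduct,
        dotProduct_comm (xv θ j₂), hdot, bv_dot, hxi θ j₁ hj₁]
      simp
    · rw [hy, e, add_dotProduct, add_dotProduct, smul_dotProduct, smul_dotProduct, smul_dotProduct,
        hdot, bv_dot, hxi θ j₂ hj₂]
      simp
  have huiW : ∃ a b c' : F, act u (bv i) = a • v + b • w + c' • bv i :=
    ⟨-(2 * v i), -(2 * w i), 1, by rw [hu.act_bv, prj, smul_add, smul_smul, smul_smul]; module⟩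
  have huiz : act z (act u (bv i)) = c • act u (bv i) := by rw [← act_mul, ← huz, act_mul, hc, act_smul]
  have hf_supp : ∀ (θ : F), θ * θ = 1 → ∀ (y : ι → F), SuppV B y → act z y = θ • y → ∀ r, r ≠ i →
      (∀ j ∈ B.erase i, xv θ j ≠ 0 → r ∉ ({j, σ j} : Finset ι)) → y r = 0 := by
    intro θ hθ y hyB hy r hri hr
    by_cases hrB : r ∈ B
    · have hr' : r ∈ B.erase i := Finset.mem_erase.2 ⟨hri, hrB⟩
      by_cases h0 : xv θ r = 0
      · exact (hxzero θ hθ r hr' h0).2.2 y hy
      · exact absurd (Finset.mem_insert_self _ _) (hr r hr' h0)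
    · exact hyB r hrB
  rcases Nat.even_or_odd m with hme | hmo
  · -- `z` is trivial on `f`
    have hεm : ε ^ m = 1 := by rcases hε with rfl | rfl <;> simp [hme.neg_one_pow]
    have hne : (-1 : F) * (-ε) ^ m = -1 := by rw [hme.neg_pow, hεm, mul_one]
    have hm1 : (-1 : F) * -1 = 1 := by norm_num
    rw [hεm] at hzf
    have hxf : ∀ j, xv (-1) j ⬝ᵥ f = 0 := fun j =>
      hperp (-1) _ f hm1 (hxz _ hm1 j) (by rw [hzf, neg_neg])
    by_cases hpair : ∃ j₁ ∈ B.erase i, ∃ j₂ ∈ B.erase i, j₂ ∉ ({j₁, σ j₁} : Finset ι) ∧ xv (-1) j₁ ≠ 0 ∧ xv (-1) j₂ ≠ 0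
    · obtain ⟨j₁, hj₁, j₂, hj₂, hdis, hn₁, hn₂⟩ := hpair
      obtain ⟨p, p', r, e, e₁, e₂⟩ := htwo (-1) hm1 hne j₁ hj₁ j₂ hj₂ hdis hn₁ hn₂ f
        ⟨w i, -v i, 0, by rw [hf, ort, zero_smul, add_zero, neg_smul, sub_eq_add_neg]⟩
      rw [dotProduct_comm, hxf] at e₁ e₂
      have hp := (mul_eq_zero.1 e₁.symm).resolve_right (hxnorm _ hm1 j₁ hj₁ hn₁)
      have hp' := (mul_eq_zero.1 e₂.symm).resolve_right (hxnorm _ hm1 j₂ hj₂ hn₂)
      rw [hp, hp', zero_smul, zero_smul, zero_add, zero_add] at e
      have := congrFun e i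
      rw [hfi, Pi.smul_apply, smul_eq_mul, bv_apply, if_pos rfl, mul_one] at this
      exact absurd (by rw [e, ← this, zero_smul]) hf0
    push Not at hpair
    by_cases hS : ∃ j ∈ B.erase i, xv (-1) j ≠ 0
    · obtain ⟨j, hj, hjn⟩ := hS
      obtain ⟨x, hx⟩ : ∃ x, x = xv (-1) j := ⟨_, rfl⟩
      have hsupp : ∀ y, SuppV B y → act z y = (-1 : F) • y → ∀ r, r ∉ ({i, j, σ j} : Finset ι) → y r = 0 := by
        intro y hyB hy r hr
        simp only [Finset.mem_insert, Finset.mem_singleton, not_or] at hr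
        refine hf_supp (-1) hm1 y hyB hy r hr.1 fun j' hj' hj'n => ?_
        have hj'' : j' ∈ ({j, σ j} : Finset ι) := by
          by_contra hcon
          exact hj'n (hpair j hj j' hj' hcon hjn)
        simp only [Finset.mem_insert, Finset.mem_singleton, not_or]
        rcases Finset.mem_insert.1 hj'' with rfl | hj''
        · exact ⟨hr.2.1, hr.2.2⟩
        · rw [Finset.mem_singleton.1 hj'', hσσ j hj]
          exact ⟨hr.2.2, hr.2.1⟩
      have hxj : x j ≠ 0 := hx ▸ hxne _ hm1 j hj hjn
      have hxl : dd j * x (σ j) = (-1) * x j := hx ▸ hcoord _ _ (hxz _ hm1 j) j hj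
      have hxi0 : x i = 0 := hx ▸ hxi _ j hj
      by_cases hci : c = -1
      · -- the minus space of `z` contains `eᵢ`
        subst hci
        have hhz : act z h = (-1 : F) • h := by
          have h1 : (2 : F) • h = bv i - act u (bv i) := by rw [hu.act_bv, hh, sub_sub_cancel]
          have h3 : act z ((2 : F) • h) = (-1 : F) • ((2 : F) • h) := by
            rw [h1, act_sub, hc, huiz, smul_sub]
          rw [act_smul, smul_comm] at h3
          exact smul_right_injective _ h2 h3
        have hhB : SuppV B h := hh ▸ hu.suppV_of_inU (hu.inU_prj i)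
        have hhsupp := hsupp h hhB hhz
        by_cases hhj : h j = 0
        · left
          have hhl : h (σ j) = 0 := by
            have := hcoord _ h hhz j hj
            rw [hhj, mul_zero] at this
            exact (mul_eq_zero.1 this).resolve_left fun e => by simpa [e] using hdd j hj
          refine hfix_i (t := 1 - 2 * h i) (funext fun r => ?_)
          rw [hu.act_bv, ← hh, Pi.sub_apply, Pi.smul_apply, Pi.smul_apply, bv_apply]
          rcases eq_or_ne r i with rfl | hri
          · simp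
          · have : h r = 0 := by
              by_cases hr : r ∈ ({i, j, σ j} : Finset ι)
              · simp only [Finset.mem_insert, Finset.mem_singleton] at hr
                rcases hr with rfl | rfl | rfl
                · exact absurd rfl hri
                · exact hhj
                · exact hhl
              · exact hhsupp r hr
            simp [this, hri]
        obtain ⟨hji, hjB⟩ := Finset.mem_erase.1 hj
        obtain ⟨hli, hlB⟩ := Finset.mem_erase.1 (hσ j hj)
        by_cases hjl : σ j = j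
        · refine Or.inr (Or.inr (Or.inr (Or.inr ⟨j, hjB, hji, hh ▸ hhj, fun r hr => ?_⟩)))
          rw [← hh]
          refine hhsupp r ?_
          rw [hjl]
          simpa using hr
        -- two coordinates: compute the square of `q`
        obtain ⟨N, hN⟩ : ∃ N, N = h i := ⟨_, rfl⟩
        obtain ⟨β, hβ⟩ : ∃ β, β = h j := ⟨_, rfl⟩
        have hsq := hsquare _ hm1 h hhz j hj
        have hnorm : N ^ 2 + 2 * β ^ 2 = N := by
          have h1 := hu.prj_self i
          rw [← hh] at h1
          rw [dotProduct, ← Finset.sum_subset (Finset.subset_univ ({i, j, σ j} : Finset ι))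
            (fun r _ hr => by rw [hhsupp r hr, mul_zero]), Finset.sum_insert (by simp [Ne.symm hji, Ne.symm hli]),
            Finset.sum_pair (Ne.symm hjl)] at h1
          rw [hN, hβ]
          linear_combination h1 - hsq
        have hN0 : N ≠ 0 := fun e => by
          rw [e] at hnorm
          refine hhj ?_
          rw [← hβ]
          exact (pow_eq_zero_iff two_ne_zero).1
            ((mul_eq_zero.1 (show (2 : F) * β ^ 2 = 0 by linear_combination hnorm)).resolve_left h2)
        have hqq : q * q ∈ fixOff ({i, j, σ j} : Finset ι) := by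
          intro r hr
          by_cases hrB : r ∈ B
          · have hri : r ≠ i := fun e => hr (by simp [e])
            have hid : N • prj v w r = f r • f + h r • h := by
              funext a
              rw [hN, hh, hf]
              simp only [prj, ort, Pi.smul_apply, Pi.add_apply, Pi.sub_apply, smul_eq_mul]
              ring
            rw [hhsupp r hr, zero_smul, add_zero] at hid
            have hp : prj v w r = (f r / N) • f := by
              rw [← smul_right_injective _ hN0 |>.eq_iff, hid, smul_smul, mul_div_cancel₀ _ hN0]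
            have hqr : act q (bv r) = (-ε) • bv r - (2 * (f r / N) * -ε) • f := by
              rw [hq, act_mul, hu.act_bv, hp, act_sub, act_smul, act_smul, hsB' r hrB hri, hsc f hfB hfi,
                smul_smul, smul_smul]
            have hqf : act q f = ε • f := by rw [hq, act_mul, huf, act_neg, hsc f hfB hfi, neg_smul, neg_neg]
            rw [act_mul, hqr, act_sub, act_smul, act_smul, hqr, hqf]
            match_scalars <;> first
              | ring1
              | linear_combination hεε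
              | linear_combination -hεε
              | linear_combination (2 * (f r / N)) * hεε
              | linear_combination -(2 * (f r / N)) * hεε
          · rw [act_mul]
            by_cases hr' : r ∈ insert k B
            · obtain ⟨rfl, hki⟩ := hk' r hr' hrB
              rw [hqk hki, act_smul, hqk hki, smul_smul]
              norm_num
            · rw [hqB r hr', hqB r hr']
        have hqqm : Mono (q * q) := hB.small _ (lt_of_le_of_lt Finset.card_le_three (by have := hB.five; omega)) _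
          (mul_mem (hq ▸ mul_mem hs hu.mem) (hq ▸ mul_mem hs hu.mem)) hqq
        have hhv : h = N • bv i + β • bv j + h (σ j) • bv (σ j) := by
          funext r
          simp only [Pi.add_apply, Pi.smul_apply, smul_eq_mul, bv_apply]
          by_cases hr : r ∈ ({i, j, σ j} : Finset ι)
          · simp only [Finset.mem_insert, Finset.mem_singleton] at hr
            rcases hr with rfl | rfl | rfl
            · simp [hN, Ne.symm hji, Ne.symm hli]
            · simp [hβ, hji, Ne.symm hjl]
            · simp [hli, hjl]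
          · rw [hhsupp r hr]
            simp only [Finset.mem_insert, Finset.mem_singleton, not_or] at hr
            simp [hr.1, hr.2.1, hr.2.2]
        obtain ⟨g, hg⟩ : ∃ g, g = h - N • bv i := ⟨_, rfl⟩
        have hgi : g i = 0 := by rw [hg, Pi.sub_apply, Pi.smul_apply, bv_apply, if_pos rfl, hN]; simp
        have hgB : SuppV B g := fun r hr => by
          have hri : r ≠ i := fun e => hr (e ▸ hi)
          rw [hg, Pi.sub_apply, Pi.smul_apply, bv_apply, hhB r hr, if_neg hri]
          simp
        have hqi : act q (bv i) = (ε * (1 - 2 * N)) • bv i + (2 * ε) • g := by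
          rw [hq, act_mul, hu.act_bv, ← hh, show h = g + N • bv i by rw [hg, sub_add_cancel], act_sub, act_smul,
            act_add, act_smul, hsi, hsc g hgB hgi]
          module
        have hqg : act q g = (-(2 * ε * (N - N ^ 2))) • bv i + (ε * (1 - 2 * N)) • g := by
          have h1 : act u g = -h - N • act u (bv i) := by
            rw [hg, act_sub, act_smul, hu.act_inU (hh ▸ hu.inU_prj i)]
          rw [hq, act_mul, h1, hu.act_bv, ← hh, show h = g + N • bv i by rw [hg, sub_add_cancel]]
          simp only [act_sub, act_neg, act_add, act_smul, hsi, hsc g hgB hgi]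
          module
        have hq2i : ∀ r, r ≠ i → act (q * q) (bv i) r = 4 * (1 - 2 * N) * g r := fun r hr => by
          rw [act_mul, hqi, act_add, act_smul, act_smul, hqi, hqg]
          simp only [Pi.add_apply, Pi.smul_apply, smul_eq_mul, bv_apply, if_neg hr]
          linear_combination (4 * (1 - 2 * N) * g r) * hεε
        obtain ⟨r₀, c₀, hc₀⟩ := hqqm i
        have hgj : g j = β := by
          rw [hg, Pi.sub_apply, Pi.smul_apply, bv_apply, if_neg hji, hβ]
          simp
        have hgl : g (σ j) = h (σ j) := by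
          rw [hg, Pi.sub_apply, Pi.smul_apply, bv_apply, if_neg hli]
          simp
        have hhl : h (σ j) ≠ 0 := fun e => hhj (by rwa [e, zero_pow two_ne_zero, eq_comm, sq_eq_zero_iff] at hsq)
        have hX : 1 - 2 * N = 0 := by
          by_contra hX
          have k1 := hq2i j hji
          have k2 := hq2i (σ j) hli
          rw [hc₀, Pi.smul_apply, bv_apply, hgj] at k1
          rw [hc₀, Pi.smul_apply, bv_apply, hgl] at k2
          have h4 : (4 : F) ≠ 0 := by
            rw [show (4 : F) = 2 * 2 by norm_num]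
            exact mul_ne_zero h2 h2
          by_cases e : j = r₀
          · rw [if_neg fun e' : σ j = r₀ => hjl (e'.trans e.symm), smul_zero] at k2
            exact mul_ne_zero (mul_ne_zero h4 hX) hhl k2.symm
          · rw [if_neg e, smul_zero] at k1
            exact mul_ne_zero (mul_ne_zero h4 hX) (hβ ▸ hhj) k1.symm
        refine Or.inr (Or.inr (Or.inr (Or.inl ⟨h, hh ▸ hu.inU_prj i, j, hjB, σ j, hlB, hji, hli, Ne.symm hjl, ?_,
          hsq.symm, hhj, fun r hr => hhsupp r hr⟩)))
        rw [← hN, ← hβ]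
        linear_combination -hnorm - N * hX
      · -- otherwise the minus space of `z` is one line, which is impossible
        exfalso
        have hc1 : c = 1 := hcc.resolve_right hci
        obtain ⟨y, hy⟩ : ∃ y, y = act u x := ⟨_, rfl⟩
        have hxz' : act z x = (-1 : F) • x := hx ▸ hxz _ hm1 j
        have hyz : act z y = (-1 : F) • y := by rw [hy, ← act_mul, ← huz, act_mul, hxz', act_smul]
        have hyB : SuppV B y := hy ▸ act_suppV h2 huiso hu.fix (hx ▸ hxB _ j hj)
        have hyi : y i = 0 := by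
          have h1 := coord_of_bv h2 hziso hz2 hc y
          rw [hyz, hc1, Pi.smul_apply, smul_eq_mul] at h1
          exact (mul_eq_zero.1 (show (2 : F) * y i = 0 by linear_combination -h1)).resolve_left h2
        obtain ⟨t, ht⟩ : ∃ t, t = y j / x j := ⟨_, rfl⟩
        have hyt : y = t • x := funext fun r => by
          rw [Pi.smul_apply, smul_eq_mul]
          by_cases hr : r ∈ ({i, j, σ j} : Finset ι)
          · simp only [Finset.mem_insert, Finset.mem_singleton] at hr
            rcases hr with rfl | rfl | rfl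
            · rw [hyi, hxi0, mul_zero]
            · rw [ht, div_mul_cancel₀ _ hxj]
            · have h1 := hcoord _ y hyz j hj
              have hd0 : dd j ≠ 0 := fun e => by simpa [e] using hdd j hj
              refine mul_left_cancel₀ hd0 ?_
              rw [h1, mul_left_comm, hxl, ht]
              field_simp
          · rw [hsupp y hyB hyz r hr, hx, hxsupp _ j hj r, mul_zero]
            simp only [Finset.mem_insert, Finset.mem_singleton, not_or] at hr ⊢
            exact hr.2
        have ht2 : t * t = 1 := by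
          have h1 : act u y = x := by rw [hy, ← act_mul, hu.sq, act_one]
          rw [hyt, act_smul, ← hy, hyt, smul_smul] at h1
          have h3 := congrFun h1 j
          rw [Pi.smul_apply, smul_eq_mul] at h3
          exact mul_right_cancel₀ hxj (h3.trans (one_mul _).symm)
        have hn : x ⬝ᵥ x ≠ 0 := hx ▸ hxnorm _ hm1 j hj hjn
        rw [hy, hu.formula] at hyt
        rcases mul_self_eq_one_iff.1 ht2 with rfl | rfl
        · obtain ⟨a, b, c', hxW⟩ := hW _ hm1 hne x (hx ▸ hxB _ j hj) hxz'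
          have h1 := congrArg (· ⬝ᵥ v) hyt
          have h3 := congrArg (· ⬝ᵥ w) hyt
          simp only [one_smul, sub_dotProduct, smul_dotProduct, hu.v_self, hu.w_self, hu.v_w, dotProduct_comm w v,
            smul_eq_mul] at h1 h3
          have hxv0 : x ⬝ᵥ v = 0 := (mul_eq_zero.1 (show (2 : F) * (x ⬝ᵥ v) = 0 by linear_combination -h1)).resolve_left h2
          have hxw0 : x ⬝ᵥ w = 0 := (mul_eq_zero.1 (show (2 : F) * (x ⬝ᵥ w) = 0 by linear_combination -h3)).resolve_left h2
          refine hn ?_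
          conv_lhs => arg 1; rw [hxW]
          rw [add_dotProduct, add_dotProduct, smul_dotProduct, smul_dotProduct, smul_dotProduct, dotProduct_comm v x,
            dotProduct_comm w x, hxv0, hxw0, bv_dot, hxi0]
          simp
        · obtain ⟨a, ha⟩ : ∃ a, a = x ⬝ᵥ v := ⟨_, rfl⟩
          obtain ⟨b, hb⟩ : ∃ b, b = x ⬝ᵥ w := ⟨_, rfl⟩
          have hxU : x = a • v + b • w := by
            refine smul_right_injective _ h2 ?_
            show (2 : F) • x = (2 : F) • (a • v + b • w)
            rw [← ha, ← hb] at hyt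
            linear_combination (norm := module) hyt
          have hxx : x ⬝ᵥ x = a * a + b * b := by
            conv_lhs => arg 1; rw [hxU]
            rw [add_dotProduct, smul_dotProduct, smul_dotProduct, dotProduct_comm v x, dotProduct_comm w x, ← ha, ← hb]
            simp
          have h1 : a * w i - b * v i = 0 := by
            have := hxf j
            rw [← hx, hf, ort, dotProduct_sub, dotProduct_smul, dotProduct_smul, ← ha, ← hb, smul_eq_mul,
              smul_eq_mul] at this
            linear_combination this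
          have h3 : a * v i + b * w i = 0 := by
            have := congrFun hxU i
            rw [hxi0] at this
            simpa using this.symm
          refine hzero ⟨?_, ?_⟩
          · exact (mul_eq_zero.1 (show (a * a + b * b) * v i = 0 by linear_combination a * h3 - b * h1)).resolve_left
              (hxx ▸ hn)
          · exact (mul_eq_zero.1 (show (a * a + b * b) * w i = 0 by linear_combination b * h3 + a * h1)).resolve_left
              (hxx ▸ hn)
    · push Not at hS
      by_cases hci : c = -1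
      · subst hci
        left
        refine hfix_i (t := act u (bv i) i) (funext fun r => ?_)
        rw [Pi.smul_apply, bv_apply]
        rcases eq_or_ne r i with rfl | hri
        · simp
        · rw [if_neg hri, smul_zero]
          exact hf_supp (-1) hm1 _ (act_suppV h2 huiso hu.fix (bv_suppV hi)) huiz r hri
            fun j hj hjn => absurd (hS j hj) hjn
      · exfalso
        refine hz1 (gl_ext_bv fun r => ?_)
        rw [act_one]
        rcases eq_or_ne r i with rfl | hri
        · rw [hc, hcc.resolve_right hci, one_smul]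
        by_cases hrB : r ∈ B
        · have hr := Finset.mem_erase.2 ⟨hri, hrB⟩
          obtain ⟨e1, e2, -⟩ := hxzero (-1) hm1 r hr (hS r hr)
          rw [hd r hr, e1, e2, neg_neg, one_smul]
        · by_cases hr' : r ∈ insert k B
          · obtain ⟨rfl, hki⟩ := hk' r hr' hrB
            rw [hzk hki, hme.neg_one_pow, one_smul]
          · exact hzB r hr'
  · -- `z` is `ε` on `f`
    have hεm : ε ^ m = ε := by rcases hε with rfl | rfl <;> simp [hmo.neg_one_pow]
    have hne : ε * (-ε) ^ m = -1 := by rw [hmo.neg_pow, hεm, mul_neg, hεε]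
    rw [hεm] at hzf
    by_cases hpair : ∃ j₁ ∈ B.erase i, ∃ j₂ ∈ B.erase i, j₂ ∉ ({j₁, σ j₁} : Finset ι) ∧ xv ε j₁ ≠ 0 ∧ xv ε j₂ ≠ 0
    · obtain ⟨j₁, hj₁, j₂, hj₂, hdis, hn₁, hn₂⟩ := hpair
      by_cases hci : c = ε
      · refine Or.inr (Or.inr (Or.inl ⟨{j₁, σ j₁}, {j₂, σ j₂}, Finset.card_le_two, Finset.card_le_two,
          ?_, ?_, ?_, ?_, ?_, ?_⟩))
        · simp [Finset.insert_subset_iff, (Finset.mem_erase.1 hj₁).2, (Finset.mem_erase.1 (hσ j₁ hj₁)).2]
        · simp [Finset.insert_subset_iff, (Finset.mem_erase.1 hj₂).2, (Finset.mem_erase.1 (hσ j₂ hj₂)).2]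
        · simp [Ne.symm (Finset.mem_erase.1 hj₁).1, Ne.symm (Finset.mem_erase.1 (hσ j₁ hj₁)).1]
        · simp [Ne.symm (Finset.mem_erase.1 hj₂).1, Ne.symm (Finset.mem_erase.1 (hσ j₂ hj₂)).1]
        · simp only [Finset.mem_insert, Finset.mem_singleton, not_or] at hdis
          simp only [Finset.disjoint_insert_left, Finset.disjoint_singleton_left, Finset.mem_insert,
            Finset.mem_singleton, not_or]
          refine ⟨⟨Ne.symm hdis.1, fun e => hdis.2 (by rw [e, hσσ j₂ hj₂])⟩, Ne.symm hdis.2, fun e => hdis.1 ?_⟩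
          rw [← hσσ j₁ hj₁, e, hσσ j₂ hj₂]
        intro y hy
        obtain ⟨a, b, hy'⟩ := hy
        obtain ⟨p, p', r, e, -, -⟩ := htwo ε hεε hne j₁ hj₁ j₂ hj₂ hdis hn₁ hn₂ y
          ⟨a, b, 0, by rw [hy', zero_smul, add_zero]⟩
        have hyz : act z y = ε • y := by
          rw [e]
          simp only [act_add, act_smul, hxz ε hεε, hc, hci, smul_add, smul_smul, mul_comm ε]
        have hpr : ∀ j ∈ B.erase i, ∀ a' ∈ ({j, σ j} : Finset ι), ∀ b' ∈ ({j, σ j} : Finset ι),
            y a' ^ 2 = y b' ^ 2 := by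
          intro j hj a' ha' b' hb'
          have := hsquare ε hεε y hyz j hj
          simp only [Finset.mem_insert, Finset.mem_singleton] at ha' hb'
          rcases ha' with rfl | rfl <;> rcases hb' with rfl | rfl <;> first | rfl | exact this | exact this.symm
        refine ⟨fun t ht => ?_, hpr j₁ hj₁, hpr j₂ hj₂⟩
        simp only [Finset.mem_insert, Finset.mem_union, not_or] at ht
        rw [e]
        simp only [Pi.add_apply, Pi.smul_apply, smul_eq_mul, bv_apply, if_neg ht.1]
        rw [hxsupp ε j₁ hj₁ t (by simp [ht.2.1]), hxsupp ε j₂ hj₂ t (by simp [ht.2.2])]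
        simp
      · left
        have hc' : c = -ε := by rcases hcc with e | e <;> rcases hε with e' | e' <;> simp_all
        obtain ⟨p, p', r, e, e₁, e₂⟩ := htwo ε hεε hne j₁ hj₁ j₂ hj₂ hdis hn₁ hn₂ _ huiW
        rw [dotProduct_comm, hperp ε _ _ hεε (hxz ε hεε j₁) (hc' ▸ huiz)] at e₁
        rw [dotProduct_comm, hperp ε _ _ hεε (hxz ε hεε j₂) (hc' ▸ huiz)] at e₂
        refine hfix_i (t := r) ?_
        rw [e, (mul_eq_zero.1 e₁.symm).resolve_right (hxnorm _ hεε j₁ hj₁ hn₁),
          (mul_eq_zero.1 e₂.symm).resolve_right (hxnorm _ hεε j₂ hj₂ hn₂)]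
        simp
    · push Not at hpair
      obtain ⟨j, hj, hjn⟩ : ∃ j ∈ B.erase i, xv ε j ≠ 0 := by
        by_contra hS
        push Not at hS
        refine hf0 (funext fun r => ?_)
        rcases eq_or_ne r i with rfl | hri
        · exact hfi
        · exact hf_supp ε hεε f hfB hzf r hri fun j hj hjn => absurd (hS j hj) hjn
      have hsupp : SuppV {j, σ j} f := fun r hr => by
        rcases eq_or_ne r i with rfl | hri
        · exact hfi
        refine hf_supp ε hεε f hfB hzf r hri fun j' hj' hj'n => ?_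
        have hj'' : j' ∈ ({j, σ j} : Finset ι) := by
          by_contra hcon
          exact hj'n (hpair j hj j' hj' hcon hjn)
        simp only [Finset.mem_insert, Finset.mem_singleton, not_or] at hr ⊢
        rcases Finset.mem_insert.1 hj'' with rfl | hj''
        · exact hr
        · rw [Finset.mem_singleton.1 hj'', hσσ j hj]
          exact ⟨hr.2, hr.1⟩
      have hfj : f j ≠ 0 := fun e => hf0 (funext fun r => by
        by_cases hr : r ∈ ({j, σ j} : Finset ι)
        · rcases Finset.mem_insert.1 hr with rfl | hr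
          · exact e
          · rw [Finset.mem_singleton.1 hr, Pi.zero_apply]
            have := hsquare ε hεε f hzf j hj
            rwa [e, zero_pow two_ne_zero, sq_eq_zero_iff] at this
        · exact hsupp r hr)
      by_cases hjl : σ j = j
      · left
        refine hB.mono_of_eig hu.mem hu.fix (Finset.mem_erase.1 hj).2 (c := -1) ?_
        have hfe : f = f j • bv j := funext fun r => by
          rcases eq_or_ne r j with rfl | hrj
          · simp
          · rw [hsupp r (by simp [hjl, hrj]), Pi.smul_apply, bv_apply, if_neg hrj, smul_zero]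
        have h1 := huf
        rw [hfe, act_smul, ← smul_neg] at h1
        rw [smul_right_injective _ hfj h1, neg_one_smul]
      · exact Or.inr (Or.inl ⟨f, hf ▸ Invol.inU_ort i, j, (Finset.mem_erase.1 hj).2, σ j,
          (Finset.mem_erase.1 (hσ j hj)).2, (Finset.mem_erase.1 hj).1, (Finset.mem_erase.1 (hσ j hj)).1, Ne.symm hjl, hfj, (hsquare ε hεε f hzf j hj).symm, hsupp⟩)

end CfsgLib.Perm.Trans.OrthFrame
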