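import Mathlib
import Cfsg.Agent.Lib.Perm.Trans.OrthFrame.Outcome

/-!
# Combining the shapes of the minus space at the different coordinates
-/

set_option autoImplicit false
set_option linter.all false

namespace CfsgLib.Perm.Trans.OrthFrame

open scoped Matrix
open Matrix Cfsg.Geo CfsgLib.Perm.Trans

variable {ι : Type} [Fintype ι] [DecidableEq ι] {F : Type*} [Field F] [Fintype F]
variable {H : Subgroup (GL ι F)} {B : Finset ι} {u : GL ι F} {v w : ι → F}

omit [Fintype ι] [DecidableEq ι] [Fintype F] in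
theorem inU_comb {y y' : ι → F} (a b : F) (hy : InU v w y) (hy' : InU v w y') : InU v w (a • y - b • y') := by
  obtain ⟨p, q, rfl⟩ := hy
  obtain ⟨p', q', rfl⟩ := hy'
  exact ⟨a * p - b * p', a * q - b * q', by module⟩

namespace Invol

variable (hu : Invol H B u v w) (hB : MinB H B)
include hu hB

/-- two independent vectors of the minus space on few coordinates -/
theorem mono_span {y y' : ι → F} (hy : InU v w y) (hy' : InU v w y') {r : ι} (hr : y r ≠ 0) (hr' : y' r = 0)
    (hne : y' ≠ 0) {T : Finset ι} (hT : T.card < B.card) (h : SuppV T y) (h' : SuppV T y') : Mono u := by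
  obtain ⟨a, b, rfl⟩ := hy
  obtain ⟨c, d, rfl⟩ := hy'
  have hdet : a * d - b * c ≠ 0 := by
    intro hd
    have k1 : d • (a • v + b • w) - b • (c • v + d • w) = 0 := by
      funext x
      simp only [Pi.sub_apply, Pi.add_apply, Pi.smul_apply, smul_eq_mul, Pi.zero_apply]
      linear_combination (v x) * hd
    have k2 : c • (a • v + b • w) - a • (c • v + d • w) = 0 := by
      funext x
      simp only [Pi.sub_apply, Pi.add_apply, Pi.smul_apply, smul_eq_mul, Pi.zero_apply]
      linear_combination -(w x) * hd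
    have e1 := congrFun k1 r
    have e2 := congrFun k2 r
    rw [Pi.sub_apply, Pi.smul_apply, Pi.smul_apply, hr', smul_zero, sub_zero, smul_eq_mul, Pi.zero_apply,
      mul_eq_zero] at e1 e2
    exact hne (by rw [e1.resolve_right hr, e2.resolve_right hr, zero_smul, zero_smul, add_zero])
  refine hu.mono_of_supp hB hT fun z hz k hk => ?_
  obtain ⟨p, q, rfl⟩ := hz
  have e1 := h k hk
  have e2 := h' k hk
  simp only [Pi.add_apply, Pi.smul_apply, smul_eq_mul] at e1 e2 ⊢
  have hv : v k = 0 := (mul_eq_zero.1 (show (a * d - b * c) * v k = 0 by linear_combination d * e1 - b * e2)).resolve_left hdet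
  have hw : w k = 0 := (mul_eq_zero.1 (show (a * d - b * c) * w k = 0 by linear_combination a * e2 - c * e1)).resolve_left hdet
  rw [hv, hw, mul_zero, mul_zero, add_zero]

omit hB in
theorem prj_quad (i l : ι) (hli : l ≠ i) (hs : SuppV {i, l} (prj v w i)) :
    prj v w i i ^ 2 + prj v w i l ^ 2 = prj v w i i := by
  conv_rhs => rw [← hu.prj_self i]
  rw [dotProduct, ← Finset.sum_subset (Finset.subset_univ ({i, l} : Finset ι))
    (fun r _ hr => by rw [hs r hr, mul_zero]), Finset.sum_pair (Ne.symm hli)]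
  ring

omit hB in
theorem prj_ne_zero {i l : ι} (hli : l ≠ i) (hl : prj v w i l ≠ 0) (hs : SuppV {i, l} (prj v w i)) :
    prj v w i i ≠ 0 := fun h => by
  have := hu.prj_quad i l hli hs
  rw [h] at this
  exact hl (pow_eq_zero_iff two_ne_zero |>.1 (by linear_combination this))

theorem delta_eq {i l : ι} (hi : i ∈ B) (hl : l ∈ B) (hli : l ≠ i) (h0 : prj v w i l ≠ 0)
    (hs : SuppV {i, l} (prj v w i)) (he : prj v w i i ^ 2 = prj v w i l ^ 2) : Mono u := by
  classical
  obtain ⟨N, hN⟩ : ∃ N, N = prj v w i i := ⟨_, rfl⟩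
  have hq := hu.prj_quad i l hli hs
  rw [← hN] at hq he
  have hN0 : N ≠ 0 := hN ▸ hu.prj_ne_zero hli h0 hs
  have hhalf : 1 - 2 * N = 0 :=
    (mul_eq_zero.1 (show N * (1 - 2 * N) = 0 by linear_combination -hq - he)).resolve_left hN0
  have hui : act u (bv i) = (-(2 * prj v w i l)) • bv l := by
    rw [hu.act_bv]
    funext r
    simp only [Pi.sub_apply, Pi.smul_apply, smul_eq_mul, bv_apply]
    rcases eq_or_ne r i with rfl | hri
    · rw [if_pos rfl, if_neg (Ne.symm hli), mul_zero, ← hN]
      linear_combination hhalf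
    rw [if_neg hri]
    rcases eq_or_ne r l with rfl | hrl
    · rw [if_pos rfl]; ring
    · rw [if_neg hrl, hs r (by simp [hri, hrl])]; ring
  have hul : act u (bv l) = (-(2 * prj v w i l))⁻¹ • bv i := by
    have h1 : act u (act u (bv i : ι → F)) = bv i := by rw [← act_mul, hu.sq, act_one]
    rw [hui, act_smul] at h1
    conv_rhs => rw [← h1]
    rw [smul_smul, inv_mul_cancel₀ (neg_ne_zero.2 (mul_ne_zero hB.two h0)), one_smul]
  obtain ⟨A, hA⟩ : ∃ A, A = B \ {i, l} := ⟨_, rfl⟩
  have hsub : ({i, l} : Finset ι) ⊆ B := by simp [Finset.insert_subset_iff, hi, hl]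
  have hBA : B \ A = {i, l} := by rw [hA, Finset.sdiff_sdiff_eq_self hsub]
  have hcard : A.card = B.card - 2 := by
    rw [hA, Finset.card_sdiff_of_subset hsub, Finset.card_pair (Ne.symm hli)]
  obtain ⟨k, hk, hkm, hku⟩ := exists_adjust hB.two hB.frame (A := A) (hA ▸ Finset.sdiff_subset)
    (by have := hB.five; omega) hu.mem hu.fix (fun j hj => by
      rw [hBA, Finset.mem_insert, Finset.mem_singleton] at hj
      rcases hj with rfl | rfl
      · exact ⟨l, by rw [hBA]; simp, _, hui⟩
      · exact ⟨i, by rw [hBA]; simp, _, hul⟩)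
  have := hkm.mul (hB.small A (by have := hB.five; omega) _ (mul_mem (inv_mem hk) hu.mem) hku)
  rwa [← mul_assoc, mul_inv_cancel, one_mul] at this

variable (hout : ∀ i ∈ B, Mono u ∨ Alpha B v w i ∨ Beta B v w i ∨ Gamma B v w i ∨ Delta B v w i)
include hout

theorem alpha_mono {i : ι} (ha : Alpha B v w i) : Mono u := by
  obtain ⟨y, hy, j, hj, l, hl, -, -, hjl, hyj, hsq, hs⟩ := ha
  have hyl : y l ≠ 0 := fun h => hyj (by rwa [h, zero_pow two_ne_zero, sq_eq_zero_iff] at hsq)
  have h5 := hB.five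
  rcases hout j hj with h | ⟨y', hy', a, _, b, _, haj, hbj, _, hya, _, hs'⟩ | ⟨O₁, O₂, c1, c2, -, -, j1, j2, _, hU⟩ |
    ⟨y', hy', a, _, b, _, haj, hbj, hab, _, hab2, hya, hs'⟩ | ⟨r, hr, hrj, hr0, hs'⟩
  · exact h
  · refine hu.mono_span hB hy hy' (r := j) hyj (hs' j (by simp [Ne.symm haj, Ne.symm hbj])) (fun h => hya (by simp [h]))
      (T := {j, l, a, b}) (lt_of_le_of_lt Finset.card_le_four (by omega)) (hs.mono (by simp [Finset.insert_subset_iff]))
      (hs'.mono (by simp [Finset.insert_subset_iff]))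
  · have hlmem : l ∈ O₁ ∪ O₂ := by
      by_contra hcon
      exact hyl ((hU y hy).1 l (by simp only [Finset.mem_insert, not_or]; exact ⟨Ne.symm hjl, hcon⟩))
    have small : ∀ O : Finset ι, (∀ a ∈ O, ∀ b ∈ O, y a ^ 2 = y b ^ 2) → j ∉ O → l ∈ O → O ⊆ {l} := by
      intro O hO hjO hlO r hr
      rw [Finset.mem_singleton]
      by_contra hne
      have hrj : r ≠ j := fun e => hjO (e ▸ hr)
      have := hO r hr l hlO
      rw [hs r (by simp [hrj, hne]), zero_pow two_ne_zero, eq_comm, sq_eq_zero_iff] at this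
      exact hyl this
    refine hu.mono_of_supp hB (T := insert j (O₁ ∪ O₂)) ?_ fun z hz => (hU z hz).1
    have hc := Finset.card_insert_le j (O₁ ∪ O₂)
    have hc' := Finset.card_union_le O₁ O₂
    rcases Finset.mem_union.1 hlmem with h | h
    · have := Finset.card_le_card (small O₁ (hU y hy).2.1 j1 h)
      rw [Finset.card_singleton] at this
      omega
    · have := Finset.card_le_card (small O₂ (hU y hy).2.2 j2 h)
      rw [Finset.card_singleton] at this
      omega
  · obtain ⟨x, hxab, hxl, hx0⟩ : ∃ x, (x = a ∨ x = b) ∧ x ≠ l ∧ y' x ≠ 0 := by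
      by_cases e : a = l
      · refine ⟨b, Or.inr rfl, fun e' => hab (e.trans e'.symm), fun h => hya ?_⟩
        rwa [h, zero_pow two_ne_zero, sq_eq_zero_iff] at hab2
      · exact ⟨a, Or.inl rfl, e, hya⟩
    refine hu.mono_span hB hy' hy (r := x) hx0 (hs x ?_) (fun h => hyj (by simp [h]))
      (T := {j, l, a, b}) (lt_of_le_of_lt Finset.card_le_four (by omega)) (hs'.mono (by simp [Finset.insert_subset_iff]))
      (hs.mono (by simp [Finset.insert_subset_iff]))
    rcases hxab with rfl | rfl
    · simp [haj, hxl]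
    · simp [hbj, hxl]
  · by_cases hrl : r = l
    · subst hrl
      obtain ⟨h', hh'⟩ : ∃ h', h' = y j • prj v w j - prj v w j j • y := ⟨_, rfl⟩
      by_cases h0 : h' = 0
      · refine hu.delta_eq hB hj hl (Ne.symm hjl) hr0 hs' ?_
        have e := congrFun h0 r
        rw [hh', Pi.sub_apply, Pi.smul_apply, Pi.smul_apply, smul_eq_mul, smul_eq_mul, Pi.zero_apply, sub_eq_zero] at e
        have e2 := congrArg (· ^ 2) e
        simp only [mul_pow, ← hsq] at e2
        exact (mul_left_cancel₀ (pow_ne_zero 2 hyj) (e2.trans (mul_comm _ _))).symm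
      · exact hu.mono_span hB hy (hh' ▸ inU_comb (y j) (prj v w j j) (hu.inU_prj j) hy) (r := j) hyj
          (by rw [hh', Pi.sub_apply, Pi.smul_apply, Pi.smul_apply, smul_eq_mul, smul_eq_mul]; ring) h0
          (T := {j, r}) (lt_of_le_of_lt Finset.card_le_two (by omega)) hs
          (fun k hk => by rw [hh', Pi.sub_apply, Pi.smul_apply, Pi.smul_apply, hs k hk, hs' k hk]; simp)
    · exact hu.mono_span hB (hu.inU_prj j) hy (r := r) hr0 (hs r (by simp [hrj, hrl])) (fun h => hyj (by simp [h]))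
        (T := {j, l, r}) (lt_of_le_of_lt Finset.card_le_three (by omega)) (hs'.mono (by simp [Finset.insert_subset_iff]))
        (hs.mono (by simp [Finset.insert_subset_iff]))

theorem delta_mono {i : ι} (hi : i ∈ B) (hd : Delta B v w i) : Mono u := by
  classical
  obtain ⟨l, hl, hli, hl0, hs⟩ := hd
  by_cases he : prj v w i i ^ 2 = prj v w i l ^ 2
  · exact hu.delta_eq hB hi hl hli hl0 hs he
  have h5 := hB.five
  obtain ⟨h, hh⟩ : ∃ h, h = prj v w i := ⟨_, rfl⟩
  have hi0 : h i ≠ 0 := hh ▸ hu.prj_ne_zero hli hl0 hs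
  rw [← hh] at hs he hl0
  have hhU : InU v w h := hh ▸ hu.inU_prj i
  have hh0 : h ≠ 0 := fun e => hi0 (by rw [e]; rfl)
  -- at a third coordinate the shape is `Gamma`
  have third : ∀ a ∈ B, a ≠ i → a ≠ l → ¬ Gamma B v w a → Mono u := by
    intro a ha hai hal hG
    rcases hout a ha with h' | hA | ⟨O₁, O₂, c1, c2, -, -, a1, a2, _, hU⟩ | hG' | ⟨r, hr, hra, hr0, hs'⟩
    · exact h'
    · exact hu.alpha_mono hB hout hA
    · have hmem : ∀ x, (x = i ∨ x = l) → x ∈ O₁ ∪ O₂ := by
        intro x hx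
        by_contra hcon
        have hne : x ≠ a := by rcases hx with rfl | rfl; exacts [Ne.symm hai, Ne.symm hal]
        have := (hU h hhU).1 x (by simp only [Finset.mem_insert, not_or]; exact ⟨hne, hcon⟩)
        rcases hx with rfl | rfl; exacts [hi0 this, hl0 this]
      have small : ∀ O : Finset ι, (∀ p ∈ O, ∀ q ∈ O, h p ^ 2 = h q ^ 2) → ∀ x, (x = i ∨ x = l) → x ∈ O → O ⊆ {x} := by
        intro O hO x hx hxO r hr
        rw [Finset.mem_singleton]
        have h1 := hO r hr x hxO
        by_cases hr' : r ∈ ({i, l} : Finset ι)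
        · rw [Finset.mem_insert, Finset.mem_singleton] at hr'
          rcases hr' with rfl | rfl <;> rcases hx with rfl | rfl <;> first | rfl | exact absurd h1 he |
            exact absurd h1.symm he
        · rw [hs r hr', zero_pow two_ne_zero, eq_comm, sq_eq_zero_iff] at h1
          rcases hx with rfl | rfl; exacts [absurd h1 hi0, absurd h1 hl0]
      refine hu.mono_of_supp hB (T := {a, i, l}) (lt_of_le_of_lt Finset.card_le_three (by omega))
        fun z hz => (hU z hz).1.mono (Finset.insert_subset_iff.2 ⟨by simp, ?_⟩)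
      intro r hr
      obtain ⟨hu1, hu2⟩ := (hU h hhU).2
      have key : ∀ x, (x = i ∨ x = l) → r ∈ O₁ → x ∈ O₁ → r = x := fun x hx hr hxO =>
        Finset.mem_singleton.1 (small O₁ hu1 x hx hxO hr)
      have key' : ∀ x, (x = i ∨ x = l) → r ∈ O₂ → x ∈ O₂ → r = x := fun x hx hr hxO =>
        Finset.mem_singleton.1 (small O₂ hu2 x hx hxO hr)
      simp only [Finset.mem_insert, Finset.mem_singleton]
      have di : i ≠ l := Ne.symm hli
      rcases Finset.mem_union.1 (hmem i (Or.inl rfl)) with h1 | h1 <;>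
        rcases Finset.mem_union.1 (hmem l (Or.inr rfl)) with h2 | h2
      · exact absurd (Finset.mem_singleton.1 (small O₁ hu1 i (Or.inl rfl) h1 h2)) hli
      · rcases Finset.mem_union.1 hr with h3 | h3
        · exact Or.inr (Or.inl (key i (Or.inl rfl) h3 h1))
        · exact Or.inr (Or.inr (key' l (Or.inr rfl) h3 h2))
      · rcases Finset.mem_union.1 hr with h3 | h3
        · exact Or.inr (Or.inr (key l (Or.inr rfl) h3 h2))
        · exact Or.inr (Or.inl (key' i (Or.inl rfl) h3 h1))
      · exact absurd (Finset.mem_singleton.1 (small O₂ hu2 i (Or.inl rfl) h1 h2)) hli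
    · exact absurd hG' hG
    · exact hu.mono_span hB (hu.inU_prj a) hhU (r := a) (hu.prj_ne_zero hra hr0 hs')
        (hs a (by simp [hai, hal])) hh0 (T := {a, r, i, l}) (lt_of_le_of_lt Finset.card_le_four (by omega))
        (hs'.mono (by simp [Finset.insert_subset_iff])) (hs.mono (by simp [Finset.insert_subset_iff]))
  obtain ⟨a, hfa⟩ := Function.ne_iff.1 (hu.ort_ne_zero (i := i) fun e => hi0 (by rw [hh, prj, e.1, e.2]; simp))
  have hfl : ort v w i l = 0 := by
    have h1 := hu.ort_prj i
    rw [← hh, dotProduct, ← Finset.sum_subset (Finset.subset_univ ({i, l} : Finset ι))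
      (fun r _ hr => by rw [hs r hr, mul_zero]), Finset.sum_pair (Ne.symm hli), Invol.ort_apply, zero_mul, zero_add,
      mul_eq_zero] at h1
    exact h1.resolve_right hl0
  have hai : a ≠ i := fun e => hfa (by rw [e, Invol.ort_apply]; rfl)
  have hal : a ≠ l := fun e => hfa (by rw [e, hfl]; rfl)
  have haB : a ∈ B := by by_contra h'; exact hfa (hu.suppV_of_inU (Invol.inU_ort i) a h')
  by_cases hG : Gamma B v w a
  swap
  · exact third a haB hai hal hG
  obtain ⟨y, hy, k, hk, r, hr, hka, hra, hkr, hya, hykr, hyk, hys⟩ := hG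
  have hya0 : y a ≠ 0 := fun e => by
    rw [e, zero_pow two_ne_zero, eq_comm, mul_eq_zero, sq_eq_zero_iff] at hya
    exact hyk (hya.resolve_left hB.two)
  by_cases hover : k ∈ ({i, l} : Finset ι) ∨ r ∈ ({i, l} : Finset ι)
  · rcases hover with hov | hov
    · refine hu.mono_span hB hy hhU (r := a) hya0 (hs a (by simp [hai, hal])) hh0 (T := {a, r, i, l})
        (lt_of_le_of_lt Finset.card_le_four (by omega)) (hys.mono ?_) (hs.mono (by simp [Finset.insert_subset_iff]))
      simp only [Finset.mem_insert, Finset.mem_singleton] at hov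
      rcases hov with rfl | rfl <;> simp [Finset.insert_subset_iff]
    · refine hu.mono_span hB hy hhU (r := a) hya0 (hs a (by simp [hai, hal])) hh0 (T := {a, k, i, l})
        (lt_of_le_of_lt Finset.card_le_four (by omega)) (hys.mono ?_) (hs.mono (by simp [Finset.insert_subset_iff]))
      simp only [Finset.mem_insert, Finset.mem_singleton] at hov
      rcases hov with rfl | rfl <;> simp [Finset.insert_subset_iff]
  simp only [Finset.mem_insert, Finset.mem_singleton, not_or] at hover
  obtain ⟨⟨hki, hkl⟩, hri, hrl⟩ := hover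
  by_cases hb6 : 6 ≤ B.card
  · refine hu.mono_span hB hy hhU (r := a) hya0 (hs a (by simp [hai, hal])) hh0 (T := {a, k, r, i, l})
      ((Finset.card_insert_le _ _).trans_lt (Nat.lt_of_le_of_lt (Nat.add_le_add_right Finset.card_le_four 1) hb6))
      (hys.mono (by simp [Finset.insert_subset_iff])) (hs.mono (by simp [Finset.insert_subset_iff]))
  by_cases hG : Gamma B v w k
  swap
  · exact third k hk hki hkl hG
  obtain ⟨y', hy', m₁, hm₁, m₂, hm₂, hm₁k, hm₂k, hmm, hy'k, hy'mm, hy'm, hys'⟩ := hG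
  have hy'k0 : y' k ≠ 0 := fun e => by
    rw [e, zero_pow two_ne_zero, eq_comm, mul_eq_zero, sq_eq_zero_iff] at hy'k
    exact hy'm (hy'k.resolve_left hB.two)
  by_cases hover : m₁ ∈ ({i, l} : Finset ι) ∨ m₂ ∈ ({i, l} : Finset ι)
  · rcases hover with hov | hov
    · refine hu.mono_span hB hy' hhU (r := k) hy'k0 (hs k (by simp [hki, hkl])) hh0 (T := {k, m₂, i, l})
        (lt_of_le_of_lt Finset.card_le_four (by omega)) (hys'.mono ?_) (hs.mono (by simp [Finset.insert_subset_iff]))
      simp only [Finset.mem_insert, Finset.mem_singleton] at hov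
      rcases hov with rfl | rfl <;> simp [Finset.insert_subset_iff]
    · refine hu.mono_span hB hy' hhU (r := k) hy'k0 (hs k (by simp [hki, hkl])) hh0 (T := {k, m₁, i, l})
        (lt_of_le_of_lt Finset.card_le_four (by omega)) (hys'.mono ?_) (hs.mono (by simp [Finset.insert_subset_iff]))
      simp only [Finset.mem_insert, Finset.mem_singleton] at hov
      rcases hov with rfl | rfl <;> simp [Finset.insert_subset_iff]
  simp only [Finset.mem_insert, Finset.mem_singleton, not_or] at hover
  obtain ⟨⟨hm₁i, hm₁l⟩, hm₂i, hm₂l⟩ := hover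
  -- the five coordinates
  have hB5 : B = {a, k, r, i, l} := by
    symm
    refine Finset.eq_of_subset_of_card_le (by simp [Finset.insert_subset_iff, haB, hk, hr, hi, hl]) ?_
    rw [Finset.card_insert_of_notMem (by simp [Ne.symm hka, Ne.symm hra, hai, hal]),
      Finset.card_insert_of_notMem (by simp [hkr, hki, hkl]),
      Finset.card_insert_of_notMem (by simp [hri, hrl]), Finset.card_pair (Ne.symm hli)]
    omega
  have hin : ∀ m ∈ B, m ≠ k → m ≠ i → m ≠ l → m = a ∨ m = r := by
    intro m hm h1 h2 h3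
    rw [hB5] at hm
    simp only [Finset.mem_insert, Finset.mem_singleton] at hm
    tauto
  have ha' := hin m₁ hm₁ hm₁k hm₁i hm₁l
  have hb' := hin m₂ hm₂ hm₂k hm₂i hm₂l
  have hys'' : SuppV {a, k, r} y' := hys'.mono (by
    rcases ha' with rfl | rfl <;> rcases hb' with rfl | rfl <;> simp [Finset.insert_subset_iff])
  have hy'r : y' r ^ 2 = y' m₁ ^ 2 := by
    rcases ha' with rfl | rfl
    · rcases hb' with rfl | rfl
      · exact absurd rfl hmm
      · exact hy'mm.symm
    · rfl
  obtain ⟨y'', hy''⟩ : ∃ y'', y'' = y k • y' - y' k • y := ⟨_, rfl⟩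
  by_cases h0 : y'' = 0
  · exfalso
    have e := congrFun h0 r
    rw [hy'', Pi.sub_apply, Pi.smul_apply, Pi.smul_apply, smul_eq_mul, smul_eq_mul, Pi.zero_apply, sub_eq_zero] at e
    have e2 := congrArg (· ^ 2) e
    simp only [mul_pow, hy'r, ← hykr, hy'k] at e2
    exact mul_ne_zero (pow_ne_zero 2 hyk) (pow_ne_zero 2 hy'm) (by linear_combination -e2)
  · exact hu.mono_span hB hy (hy'' ▸ inU_comb (y k) (y' k) hy' hy) (r := k) hyk
      (by rw [hy'', Pi.sub_apply, Pi.smul_apply, Pi.smul_apply, smul_eq_mul, smul_eq_mul]; ring) h0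
      (T := {a, k, r}) (lt_of_le_of_lt Finset.card_le_three (by omega)) hys
      (fun x hx => by rw [hy'', Pi.sub_apply, Pi.smul_apply, Pi.smul_apply, hys x hx, hys'' x hx]; simp)

theorem beta_mono {i : ι} (hb : Beta B v w i) : Mono u := by
  classical
  obtain ⟨O₁, O₂, c1, c2, hO₁, hO₂, i1, i2, hdis, hU⟩ := hb
  have h5 := hB.five
  by_cases hT : (insert i (O₁ ∪ O₂)).card < B.card
  · exact hu.mono_of_supp hB hT fun z hz => (hU z hz).1
  have hc := Finset.card_insert_le i (O₁ ∪ O₂)
  have hc' := Finset.card_union_le O₁ O₂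
  obtain ⟨r, r', hrr, hO₁eq⟩ := Finset.card_eq_two.1 (show O₁.card = 2 by omega)
  obtain ⟨m, m', hmm, hO₂eq⟩ := Finset.card_eq_two.1 (show O₂.card = 2 by omega)
  subst hO₁eq hO₂eq
  simp only [Finset.insert_subset_iff, Finset.singleton_subset_iff] at hO₁ hO₂
  simp only [Finset.mem_insert, Finset.mem_singleton, not_or] at i1 i2
  simp only [Finset.disjoint_insert_left, Finset.disjoint_singleton_left, Finset.mem_insert, Finset.mem_singleton,
    not_or] at hdis
  have hsq : ∀ y, InU v w y → y r ^ 2 = y r' ^ 2 ∧ y m ^ 2 = y m' ^ 2 := fun y hy =>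
    ⟨(hU y hy).2.1 r (by simp) r' (by simp), (hU y hy).2.2 m (by simp) m' (by simp)⟩
  have hsuppU : ∀ y, InU v w y → ∀ x, x ≠ i → x ≠ r → x ≠ r' → x ≠ m → x ≠ m' → y x = 0 := fun y hy x a b c d e =>
    (hU y hy).1 x (by simp [a, b, c, d, e])
  rcases hout r hO₁.1 with h | hA | ⟨P₁, P₂, d1, d2, hP₁, hP₂, r1, r2, hdisP, hUP⟩ |
    ⟨y, hy, k, hk, l, hl, hkr, hlr, hkl, hyr, hykl, hyk, hys⟩ | hD
  · exact h
  · exact hu.alpha_mono hB hout hA
  · by_cases hT' : (insert r (P₁ ∪ P₂)).card < B.card
    · exact hu.mono_of_supp hB hT' fun z hz => (hUP z hz).1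
    by_cases hz : v r = 0 ∧ w r = 0
    · exact hu.mono_of_zero hB hO₁.1 hz.1 hz.2
    have hP : insert r (P₁ ∪ P₂) = B := Finset.eq_of_subset_of_card_le
      (Finset.insert_subset_iff.2 ⟨hO₁.1, Finset.union_subset hP₁ hP₂⟩) (by omega)
    obtain ⟨x, hx⟩ : ∃ x, x = ort v w r := ⟨_, rfl⟩
    have hxU : InU v w x := hx ▸ Invol.inU_ort r
    have hxr : x r = 0 := hx ▸ Invol.ort_apply r
    have hx0 : x ≠ 0 := hx ▸ hu.ort_ne_zero hz
    have hxr' : x r' = 0 := by
      have := (hsq x hxU).1
      rwa [hxr, zero_pow two_ne_zero, eq_comm, sq_eq_zero_iff] at this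
    have hc'' := Finset.card_insert_le r (P₁ ∪ P₂)
    have hc3 := Finset.card_union_le P₁ P₂
    have hout' : ∀ x', x' ∈ B → x' ≠ r → x' ∈ P₁ ∪ P₂ := fun x' hx' hne => by
      rw [← hP] at hx'
      exact (Finset.mem_insert.1 hx').resolve_left hne
    -- the part containing `r'`
    obtain ⟨P, Q, hPr, hPQ, hPB, hrP, hPc, hQc, hPs, hQs⟩ : ∃ P Q : Finset ι, r' ∈ P ∧
        (∀ t ∈ P₁ ∪ P₂, t ∈ P ∨ t ∈ Q) ∧ P ⊆ B ∧ r ∉ P ∧ P.card = 2 ∧ Q.card = 2 ∧ (∀ p ∈ P, ∀ q ∈ P, x p ^ 2 = x q ^ 2) ∧ (∀ p ∈ Q, ∀ q ∈ Q, x p ^ 2 = x q ^ 2) := by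
      rcases Finset.mem_union.1 (hout' r' hO₁.2 (Ne.symm hrr)) with h | h
      · exact ⟨P₁, P₂, h, fun t ht => Finset.mem_union.1 ht, hP₁, r1, by omega, by omega, (hUP x hxU).2.1, (hUP x hxU).2.2⟩
      · exact ⟨P₂, P₁, h, fun t ht => (Finset.mem_union.1 ht).symm, hP₂, r2, by omega, by omega, (hUP x hxU).2.2,
          (hUP x hxU).2.1⟩
    have hPzero : ∀ p ∈ P, x p = 0 := fun p hp => by
      have := hPs p hp r' hPr
      rwa [hxr', zero_pow two_ne_zero, sq_eq_zero_iff] at this
    obtain ⟨s', hs'P, hs'r⟩ := Finset.exists_mem_ne (by omega : 1 < P.card) r'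
    by_cases hxm : x m = 0
    · exfalso
      have hxm' : x m' = 0 := by
        have := (hsq x hxU).2
        rwa [hxm, zero_pow two_ne_zero, eq_comm, sq_eq_zero_iff] at this
      have hxi : x i = 0 := by
        by_contra hxi
        have hiQ : i ∈ Q := by
          have hiB : i ∈ B := by
            by_contra hiB
            exact hxi (hu.suppV_of_inU hxU i hiB)
          exact (hPQ i (hout' i hiB i1.1)).resolve_left fun h => hxi (hPzero i h)
        obtain ⟨t, htQ, hti⟩ := Finset.exists_mem_ne (by omega : 1 < Q.card) i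
        have := hQs t htQ i hiQ
        rw [show x t = 0 by
          by_cases h1 : t = r
          · rw [h1, hxr]
          by_cases h2 : t = r'
          · rw [h2, hxr']
          by_cases h3 : t = m
          · rw [h3, hxm]
          by_cases h4 : t = m'
          · rw [h4, hxm']
          exact hsuppU x hxU t hti h1 h2 h3 h4, zero_pow two_ne_zero, eq_comm, sq_eq_zero_iff] at this
        exact hxi this
      refine hx0 (funext fun t => ?_)
      by_cases h0 : t = i
      · rw [h0, hxi]; rfl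
      by_cases h1 : t = r
      · rw [h1, hxr]; rfl
      by_cases h2 : t = r'
      · rw [h2, hxr']; rfl
      by_cases h3 : t = m
      · rw [h3, hxm]; rfl
      by_cases h4 : t = m'
      · rw [h4, hxm']; rfl
      exact hsuppU x hxU t h0 h1 h2 h3 h4
    · have hxi : x i = 0 := by
        have h1 : x s' = 0 := hPzero s' hs'P
        have hBeq : insert i (({r, r'} : Finset ι) ∪ {m, m'}) = B ∨ x i = 0 := by
          by_cases hiB : i ∈ B
          · exact Or.inl (Finset.eq_of_subset_of_card_le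
              (Finset.insert_subset_iff.2 ⟨hiB, Finset.union_subset (by simp [Finset.insert_subset_iff, hO₁.1, hO₁.2])
                (by simp [Finset.insert_subset_iff, hO₂.1, hO₂.2])⟩) (by omega))
          · exact Or.inr (hu.suppV_of_inU hxU i hiB)
        rcases hBeq with hBeq | h0
        · have hs'B := hPB hs'P
          rw [← hBeq] at hs'B
          simp only [Finset.mem_insert, Finset.mem_union, Finset.mem_singleton] at hs'B
          rcases hs'B with rfl | (rfl | rfl) | (rfl | rfl)
          · exact h1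
          · exact absurd hs'P hrP
          · exact absurd rfl hs'r
          · exact absurd h1 hxm
          · have := (hsq x hxU).2
            rw [h1, zero_pow two_ne_zero, sq_eq_zero_iff] at this
            exact absurd this hxm
        · exact h0
      refine hu.alpha_mono hB hout (i := r) ⟨x, hxU, m, hO₂.1, m', hO₂.2, Ne.symm hdis.1.1, Ne.symm hdis.1.2, hmm, hxm,
        (hsq x hxU).2, fun t ht => ?_⟩
      simp only [Finset.mem_insert, Finset.mem_singleton, not_or] at ht
      by_cases h0 : t = i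
      · rw [h0, hxi]
      by_cases h1 : t = r
      · rw [h1, hxr]
      by_cases h2 : t = r'
      · rw [h2, hxr']
      exact hsuppU x hxU t h0 h1 h2 ht.1 ht.2
  · exfalso
    have hyr0 : y r ≠ 0 := fun e => by
      rw [e, zero_pow two_ne_zero, eq_comm, mul_eq_zero, sq_eq_zero_iff] at hyr
      exact hyk (hyr.resolve_left hB.two)
    have h1 := (hsq y hy).1
    have h2 : y r' ^ 2 = y k ^ 2 := by
      by_cases e1 : r' = k
      · rw [e1]
      by_cases e2 : r' = l
      · rw [e2, hykl]
      · rw [hys r' (by simp [Ne.symm hrr, e1, e2]), zero_pow two_ne_zero, sq_eq_zero_iff] at h1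
        exact absurd h1 hyr0
    exact pow_ne_zero 2 hyk (by linear_combination h1 + h2 - hyr)
  · exact hu.delta_mono hB hout hO₁.1 hD

theorem mono : Mono u := by
  classical
  have h5 := hB.five
  have hg : ∀ i ∈ B, ¬ Gamma B v w i → Mono u := fun i hi hG => by
    rcases hout i hi with h | h | h | h | h
    · exact h
    · exact hu.alpha_mono hB hout h
    · exact hu.beta_mono hB hout h
    · exact absurd h hG
    · exact hu.delta_mono hB hout hi h
  obtain ⟨i, hi⟩ : B.Nonempty := Finset.card_pos.1 (by omega)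
  by_cases hG : Gamma B v w i
  swap
  · exact hg i hi hG
  obtain ⟨h, hh, k, hk, l, hl, hki, hli, hkl, hhi, hhkl, hhk, hhs⟩ := hG
  by_cases hG : Gamma B v w k
  swap
  · exact hg k hk hG
  obtain ⟨h', hh', m, hm, m', hm', hmk, hm'k, hmm, hh'k, hh'mm, hh'm, hhs'⟩ := hG
  obtain ⟨z, hz⟩ : ∃ z, z = h' k • h - h k • h' := ⟨_, rfl⟩
  by_cases hz0 : z = 0
  · exfalso
    have e := congrFun hz0 l
    rw [hz, Pi.sub_apply, Pi.smul_apply, Pi.smul_apply, smul_eq_mul, smul_eq_mul, Pi.zero_apply, sub_eq_zero] at e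
    have e2 := congrArg (· ^ 2) e
    simp only [mul_pow, ← hhkl] at e2
    have h3 : h' k ^ 2 = h' l ^ 2 := mul_left_cancel₀ (pow_ne_zero 2 hhk) (by linear_combination e2)
    have h4 : h' l ^ 2 = h' m ^ 2 := by
      by_cases e1 : l = m
      · rw [e1]
      by_cases e3 : l = m'
      · rw [e3, hh'mm]
      · rw [hhs' l (by simp [Ne.symm hkl, e1, e3]), zero_pow two_ne_zero, hh'k, mul_eq_zero, sq_eq_zero_iff] at h3
        exact absurd (h3.resolve_left hB.two) hh'm
    exact pow_ne_zero 2 hh'm (by linear_combination h3 + h4 - hh'k)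
  have hzk : z k = 0 := by rw [hz, Pi.sub_apply, Pi.smul_apply, Pi.smul_apply, smul_eq_mul, smul_eq_mul]; ring
  by_cases hT : ({i, k, l, m, m'} : Finset ι).card < B.card
  · exact hu.mono_span hB hh (hz ▸ inU_comb _ _ hh hh') hhk hzk hz0 hT (hhs.mono (by simp [Finset.insert_subset_iff]))
      (fun x hx => by
        simp only [Finset.mem_insert, Finset.mem_singleton, not_or] at hx
        rw [hz, Pi.sub_apply, Pi.smul_apply, Pi.smul_apply, hhs x (by simp [hx]), hhs' x (by simp [hx])]
        simp)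
  have hdist : m ≠ i ∧ m ≠ l ∧ m' ≠ i ∧ m' ≠ l := by
    by_contra hcon
    apply hT
    have : ({i, k, l, m, m'} : Finset ι) ⊆ {i, k, l, m} ∨ ({i, k, l, m, m'} : Finset ι) ⊆ {i, k, l, m'} := by
      simp only [not_and_or, not_not] at hcon
      rcases hcon with rfl | rfl | rfl | rfl
      · exact Or.inr (by simp [Finset.insert_subset_iff])
      · exact Or.inr (by simp [Finset.insert_subset_iff])
      · exact Or.inl (by simp [Finset.insert_subset_iff])
      · exact Or.inl (by simp [Finset.insert_subset_iff])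
    rcases this with h1 | h1
    · exact lt_of_le_of_lt ((Finset.card_le_card h1).trans Finset.card_le_four) (by omega)
    · exact lt_of_le_of_lt ((Finset.card_le_card h1).trans Finset.card_le_four) (by omega)
  obtain ⟨hmi, hml, hm'i, hm'l⟩ := hdist
  have hB5 : B = {i, k, l, m, m'} := (Finset.eq_of_subset_of_card_le
    (by simp [Finset.insert_subset_iff, hi, hk, hl, hm, hm']) (by omega)).symm
  by_cases hG : Gamma B v w m
  swap
  · exact hg m hm hG
  obtain ⟨g, hgU, s, hs, t, ht, hsm, htm, hst, hgm, hgst, hgs0, hgs⟩ := hG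
  have hh'k0 : h' k ≠ 0 := fun e => by
    rw [e, zero_pow two_ne_zero, eq_comm, mul_eq_zero, sq_eq_zero_iff] at hh'k
    exact hh'm (hh'k.resolve_left hB.two)
  have hh'm' : h' m' ≠ 0 := fun e => hh'm (by rwa [e, zero_pow two_ne_zero, sq_eq_zero_iff] at hh'mm)
  have hgm0 : g m ≠ 0 := fun e => by
    rw [e, zero_pow two_ne_zero, eq_comm, mul_eq_zero, sq_eq_zero_iff] at hgm
    exact hgs0 (hgm.resolve_left hB.two)
  obtain ⟨z', hz'⟩ : ∃ z', z' = h' m • g - g m • h' := ⟨_, rfl⟩
  have hz'U : InU v w z' := hz' ▸ inU_comb _ _ hgU hh'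
  have hz'm : z' m = 0 := by rw [hz', Pi.sub_apply, Pi.smul_apply, Pi.smul_apply, smul_eq_mul, smul_eq_mul]; ring
  have hz'm' : z' m' ≠ 0 ∨ (g m' ^ 2 = g m ^ 2) := by
    by_cases e : z' m' = 0
    · right
      rw [hz', Pi.sub_apply, Pi.smul_apply, Pi.smul_apply, smul_eq_mul, smul_eq_mul, sub_eq_zero] at e
      have e2 := congrArg (· ^ 2) e
      simp only [mul_pow, ← hh'mm] at e2
      exact mul_left_cancel₀ (pow_ne_zero 2 hh'm) (by linear_combination e2)
    · exact Or.inl e
  rcases hz'm' with hne | hgg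
  swap
  · exfalso
    have h4 : g m' ^ 2 = g s ^ 2 := by
      by_cases e1 : m' = s
      · rw [e1]
      by_cases e3 : m' = t
      · rw [e3, hgst]
      · rw [hgs m' (by simp [Ne.symm hmm, e1, e3]), zero_pow two_ne_zero, eq_comm, sq_eq_zero_iff] at hgg
        exact absurd hgg hgm0
    exact pow_ne_zero 2 hgs0 (by linear_combination h4 - hgg - hgm)
  by_cases hov : s ∈ ({k, m'} : Finset ι) ∨ t ∈ ({k, m'} : Finset ι)
  · have hgsupp : ∃ x, SuppV {k, m, m', x} g := by
      simp only [Finset.mem_insert, Finset.mem_singleton] at hov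
      rcases hov with (rfl | rfl) | (rfl | rfl)
      · exact ⟨t, hgs.mono (by simp [Finset.insert_subset_iff])⟩
      · exact ⟨t, hgs.mono (by simp [Finset.insert_subset_iff])⟩
      · exact ⟨s, hgs.mono (by simp [Finset.insert_subset_iff])⟩
      · exact ⟨s, hgs.mono (by simp [Finset.insert_subset_iff])⟩
    obtain ⟨x, hgx⟩ := hgsupp
    refine hu.mono_span hB hh' hz'U hh'm hz'm (fun e => hne (by rw [e]; rfl)) (T := {k, m, m', x})
      (lt_of_le_of_lt Finset.card_le_four (by omega)) (hhs'.mono (by simp [Finset.insert_subset_iff])) (fun y hy => ?_)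
    rw [hz', Pi.sub_apply, Pi.smul_apply, Pi.smul_apply, hgx y hy,
      hhs' y fun hh => hy (by simp only [Finset.mem_insert, Finset.mem_singleton] at hh ⊢; tauto)]
    simp
  simp only [Finset.mem_insert, Finset.mem_singleton, not_or] at hov
  obtain ⟨⟨hsk, hsm'⟩, htk, htm'⟩ := hov
  obtain ⟨z'', hz''⟩ : ∃ z'', z'' = h i • z' - z' i • h := ⟨_, rfl⟩
  have hhi0 : h i ≠ 0 := fun e => by
    rw [e, zero_pow two_ne_zero, eq_comm, mul_eq_zero, sq_eq_zero_iff] at hhi
    exact hhk (hhi.resolve_left hB.two)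
  have hz''m' : z'' m' ≠ 0 := by
    rw [hz'', Pi.sub_apply, Pi.smul_apply, Pi.smul_apply, hhs m' (by simp [hm'i, hm'k, hm'l]), smul_eq_mul, smul_zero,
      sub_zero]
    exact mul_ne_zero hhi0 hne
  refine hu.mono_span hB hh' (hz'' ▸ inU_comb _ _ hz'U hh) hh'm (r := m) ?_ (fun e => hz''m' (by rw [e]; rfl))
    (T := {k, m, m', l}) (lt_of_le_of_lt Finset.card_le_four (by omega)) (hhs'.mono (by simp [Finset.insert_subset_iff]))
    (fun y hy => ?_)
  · rw [hz'', Pi.sub_apply, Pi.smul_apply, Pi.smul_apply, hz'm, hhs m (by simp [hmi, hmk, hml])]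
    simp
  · simp only [Finset.mem_insert, Finset.mem_singleton, not_or] at hy
    rw [hz'', Pi.sub_apply, Pi.smul_apply, Pi.smul_apply, smul_eq_mul, smul_eq_mul]
    rcases eq_or_ne y i with rfl | hyi
    · ring
    · have hyB : y ∉ B := by rw [hB5]; simp [hyi, hy]
      rw [hu.suppV_of_inU hz'U y hyB, hu.suppV_of_inU hh y hyB]
      ring

end Invol

end CfsgLib.Perm.Trans.OrthFrame
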