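import Mathlib
import Cfsg.Agent.Lib.Perm.Trans.OrthFrame.Combine

/-!
# Minimal non-monomial supports of odd size, or with a coordinate left over
-/

set_option autoImplicit false
set_option linter.all false

namespace CfsgLib.Perm.Trans.OrthFrame

open scoped Matrix
open Matrix Cfsg.Geo CfsgLib.Perm.Trans

variable {ι : Type} [Fintype ι] [DecidableEq ι] {F : Type*} [Field F] [Fintype F]
variable {H : Subgroup (GL ι F)} {B : Finset ι} {u : GL ι F} {v w : ι → F}

omit [Fintype F] in
theorem exists_perp_three {B : Finset ι} (hB : 4 ≤ B.card) (v w : ι → F) (i : ι) :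
    ∃ y, y ≠ 0 ∧ SuppV B y ∧ y ⬝ᵥ v = 0 ∧ y ⬝ᵥ w = 0 ∧ y i = 0 := by
  classical
  obtain ⟨L, hL⟩ : ∃ L : (ι → F) →ₗ[F] (Fin 3 ⊕ {x // x ∉ B} → F), L = LinearMap.pi (fun t =>
      dotProductBilin (m := ι) (A := F) F F (Sum.elim ![v, w, bv i] (fun x : {x // x ∉ B} => bv x.1) t)) := ⟨_, rfl⟩
  have hker : LinearMap.ker L ≠ ⊥ := by
    refine LinearMap.ker_ne_bot_of_finrank_lt ?_
    rw [Module.finrank_fintype_fun_eq_card, Module.finrank_fintype_fun_eq_card, Fintype.card_sum, Fintype.card_fin,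
      Fintype.card_subtype_compl, Fintype.card_coe]
    have := B.card_le_univ
    omega
  obtain ⟨y, hy, hy0⟩ := (Submodule.ne_bot_iff _).1 hker
  rw [LinearMap.mem_ker, hL] at hy
  refine ⟨y, hy0, fun r hr => ?_, ?_, ?_, ?_⟩
  · have := congrFun hy (Sum.inr ⟨r, hr⟩)
    simpa using this
  · have := congrFun hy (Sum.inl 0)
    simpa [dotProduct_comm] using this
  · have := congrFun hy (Sum.inl 1)
    simpa [dotProduct_comm] using this
  · have := congrFun hy (Sum.inl 2)
    simpa using this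

theorem Invol.mono_small (hu : Invol H B u v w) (hB : MinB H B) (hside : Odd B.card ∨ ∃ k, k ∉ B) : Mono u := by
  classical
  refine hu.mono hB fun i hi => ?_
  by_cases ho : Odd B.card
  · have he : Even (B.erase i).card := by
      rw [Finset.card_erase_of_mem hi]
      obtain ⟨j, hj⟩ := ho
      exact ⟨j, by omega⟩
    obtain ⟨y, hy0, hyB, hyv, hyw, hyi⟩ := exists_perp_three (B := B) (by have := hB.five; omega) v w i
    refine hu.outcome hB hi (k := i) (fun h => absurd rfl h) (ε := 1) (Or.inl rfl) (hB.frame.flp_even he)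
      (flp_fixOff ((Finset.erase_subset i B).trans (Finset.subset_insert i B))) (flp_sq _)
      (by rw [flp_bv, if_neg (by simp)]) (fun j hj hji => by rw [flp_bv, if_pos (Finset.mem_erase.2 ⟨hji, hj⟩)])
      (fun h => absurd rfl h) ⟨y, hy0, ?_⟩
    rw [act_mul, hu.act_perp hyv hyw, act_flp]
    funext r
    by_cases hr : r ∈ B.erase i
    · simp [hr]
    · rw [if_neg hr, Pi.neg_apply]
      by_cases hri : r = i
      · rw [hri, hyi, neg_zero]
      · rw [hyB r fun h => hr (Finset.mem_erase.2 ⟨hri, h⟩), neg_zero]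
  · obtain ⟨k, hk⟩ := hside.resolve_left ho
    have hki : i ≠ k := fun e => hk (e ▸ hi)
    refine hu.outcome hB hi (k := k) (fun _ => hk) (ε := -1) (Or.inr rfl) (hB.frame.flp_mem i k hki)
      (flp_fixOff (by simp [Finset.insert_subset_iff, hi])) (flp_sq _)
      (by rw [flp_bv, if_pos (by simp)]) (fun j hj hji => by
        have hjk : j ≠ k := fun e => hk (e ▸ hj)
        rw [flp_bv, if_neg (by simp [hji, hjk]), neg_neg]) (fun _ => by rw [flp_bv, if_pos (by simp)])
      ⟨bv k, bv_ne_zero k, ?_⟩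
    rw [act_mul, hu.fix k hk, flp_bv, if_pos (by simp), neg_one_smul]

end CfsgLib.Perm.Trans.OrthFrame
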