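import Mathlib

/-!
# Commuting involutions on a finite set

A group of commuting involutions of a set of size `n` has order at most `2 ^ (n / 2)`.
-/

set_option autoImplicit false
set_option linter.all false

namespace CfsgLib.Perm.Trans.OrthFrame

theorem sq_le_two_pow : ∀ m : ℕ, m ≠ 3 → m ^ 2 ≤ 2 ^ m
  | 0, _ | 1, _ | 2, _ | 4, _ => by norm_num
  | 3, h => absurd rfl h
  | m + 5, _ => by
    induction m with
    | zero => norm_num
    | succ m ih =>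
      have := ih (by omega)
      rw [show m + 1 + 5 = m + 5 + 1 from rfl, pow_succ 2 (m + 5)]
      nlinarith [Nat.zero_le m]

theorem card_sq_le {ι : Type} [Fintype ι] [DecidableEq ι] (S : Finset ι) :
    ∀ E : Subgroup (Equiv.Perm ι), (∀ x ∈ E, x * x = 1) → (∀ x ∈ E, ∀ y ∈ E, x * y = y * x) →
      (∀ x ∈ E, ∀ k ∉ S, x k = k) → Nat.card E ^ 2 ≤ 2 ^ S.card := by
  classical
  induction S using Finset.strongInduction with
  | _ S ih =>
  intro E hE2 hEc hfix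
  by_cases htriv : ∀ x ∈ E, x = 1
  · rw [show Nat.card E = 1 from Nat.card_eq_one_iff_unique.2
      ⟨⟨fun a b => Subtype.ext ((htriv a a.2).trans (htriv b b.2).symm)⟩, ⟨1⟩⟩, one_pow]
    exact Nat.one_le_two_pow
  push Not at htriv
  obtain ⟨e, he, hne⟩ := htriv
  obtain ⟨a, ha⟩ : ∃ a, e a ≠ a := not_forall.1 fun h => hne (Equiv.ext h)
  obtain ⟨O, hO⟩ : ∃ O : Finset ι, O = Finset.univ.filter fun y => ∃ f ∈ E, f a = y := ⟨_, rfl⟩
  have hmemO : ∀ y, y ∈ O ↔ ∃ f ∈ E, f a = y := fun y => by simp [hO]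
  have hOS : O ⊆ S := fun y hy => by
    obtain ⟨f, hf, rfl⟩ := (hmemO y).1 hy
    by_contra hS
    have h1 : f (f a) = f a := hfix f hf _ hS
    rw [f.injective h1] at hS
    exact ha (hfix e he a hS)
  have hO3 : O.card ≠ 3 := by
    intro h3
    obtain ⟨x, y, z, hxy, hxz, hyz, hxyz⟩ := Finset.card_eq_three.1 h3
    have haO : a ∈ O := (hmemO a).2 ⟨1, one_mem E, rfl⟩
    obtain ⟨b, c, hba, hca, hbc, hb, hc, hcov⟩ : ∃ b c, b ≠ a ∧ c ≠ a ∧ b ≠ c ∧ b ∈ O ∧ c ∈ O ∧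
        ∀ d ∈ O, d = a ∨ d = b ∨ d = c := by
      rw [hxyz] at haO ⊢
      simp only [Finset.mem_insert, Finset.mem_singleton] at haO ⊢
      rcases haO with rfl | rfl | rfl
      · exact ⟨y, z, hxy.symm, hxz.symm, hyz, by simp, by simp, fun d hd => hd⟩
      · exact ⟨x, z, hxy, hyz.symm, hxz, by simp, by simp, fun d hd => by tauto⟩
      · exact ⟨x, y, hxz, hyz, hxy, by simp, by simp, fun d hd => by tauto⟩
    obtain ⟨f, hf, rfl⟩ := (hmemO b).1 hb
    obtain ⟨g, hg, rfl⟩ := (hmemO c).1 hc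
    have hff : f (f a) = a := by rw [← Equiv.Perm.mul_apply, hE2 f hf, Equiv.Perm.one_apply]
    rcases hcov (f (g a)) ((hmemO _).2 ⟨f * g, mul_mem hf hg, rfl⟩) with h | h | h
    · exact hbc.symm (f.injective (h.trans hff.symm))
    · exact hca (f.injective h)
    · refine hba (g.injective ?_)
      rw [← Equiv.Perm.mul_apply, hEc g hg f hf, Equiv.Perm.mul_apply]
      exact h
  let R : Subgroup (Equiv.Perm ι) :=
    { carrier := {f | f ∈ E ∧ f a = a}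
      one_mem' := ⟨one_mem E, rfl⟩
      mul_mem' := fun {f g} hf hg => ⟨mul_mem hf.1 hg.1, by rw [Equiv.Perm.mul_apply, hg.2, hf.2]⟩
      inv_mem' := fun {f} hf => ⟨inv_mem hf.1, by rw [Equiv.Perm.inv_eq_iff_eq, hf.2]⟩ }
  have hRO : ∀ f ∈ R, ∀ k ∉ S \ O, f k = k := by
    intro f hf k hk
    by_cases hkS : k ∈ S
    · have hkO : k ∈ O := by by_contra h; exact hk (Finset.mem_sdiff.2 ⟨hkS, h⟩)
      obtain ⟨g, hg, rfl⟩ := (hmemO k).1 hkO
      rw [← Equiv.Perm.mul_apply, hEc f hf.1 g hg, Equiv.Perm.mul_apply, hf.2]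
    · exact hfix f hf.1 k hkS
  have hlt : S \ O ⊂ S := by
    refine (Finset.ssubset_iff_of_subset Finset.sdiff_subset).2
      ⟨a, hOS ((hmemO a).2 ⟨1, one_mem E, rfl⟩), fun h => (Finset.mem_sdiff.1 h).2 ((hmemO a).2 ⟨1, one_mem E, rfl⟩)⟩
  have hR := ih _ hlt R (fun x hx => hE2 x hx.1) (fun x hx y hy => hEc x hx.1 y hy.1) hRO
  have hcard : Nat.card E ≤ O.card * Nat.card R := by
    have hch : ∀ y : {y // y ∈ O}, ∃ f ∈ E, f a = (y : ι) := fun y => (hmemO y).1 y.2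
    choose f hf hfa using hch
    rw [← Nat.card_eq_finsetCard O, ← Nat.card_prod]
    refine Nat.card_le_card_of_surjective (fun p : {y // y ∈ O} × R => (⟨f p.1 * p.2.1, mul_mem (hf _) p.2.2.1⟩ : E)) ?_
    rintro ⟨g, hg⟩
    refine ⟨(⟨g a, (hmemO _).2 ⟨g, hg, rfl⟩⟩, ⟨(f ⟨g a, (hmemO _).2 ⟨g, hg, rfl⟩⟩)⁻¹ * g,
      mul_mem (inv_mem (hf _)) hg, ?_⟩), Subtype.ext (mul_inv_cancel_left _ _)⟩
    rw [Equiv.Perm.mul_apply, Equiv.Perm.inv_eq_iff_eq, hfa]
  calc Nat.card E ^ 2 ≤ (O.card * Nat.card R) ^ 2 := Nat.pow_le_pow_left hcard 2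
    _ = O.card ^ 2 * Nat.card R ^ 2 := mul_pow _ _ _
    _ ≤ 2 ^ O.card * 2 ^ (S \ O).card := Nat.mul_le_mul (sq_le_two_pow _ hO3) hR
    _ = 2 ^ S.card := by
      rw [← pow_add, Finset.card_sdiff_of_subset hOS, Nat.add_sub_cancel' (Finset.card_le_card hOS)]

end CfsgLib.Perm.Trans.OrthFrame
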