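import Mathlib
import Cfsg.Agent.Lib.Perm.Trans.OrthFrame.PairSmall
import Cfsg.Agent.Lib.Perm.Trans.OrthFrame.TwoGroups

/-!
# An even number of coordinates without a smaller non-monomial support

Monomial conjugates of pair sign changes are sign changes; this turns the four-coordinate test into
monomiality of every pair involution.
-/

set_option autoImplicit false
set_option linter.all false

namespace CfsgLib.Perm.Trans.OrthFrame

open scoped Matrix
open Matrix Cfsg.Geo CfsgLib.Perm.Trans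

variable {ι : Type} [Fintype ι] [DecidableEq ι] {F : Type*} [Field F]

omit [DecidableEq ι] in
theorem suppV_univ (x : ι → F) : SuppV Finset.univ x := fun k hk => absurd (Finset.mem_univ k) hk

theorem mem_fixOff_univ (g : GL ι F) : g ∈ fixOff Finset.univ := fun k hk => absurd (Finset.mem_univ k) hk

theorem flp_eig {D : Finset ι} (h2 : (2 : F) ≠ 0) {x : ι → F} : act (flp D) x = -x ↔ SuppV D x := by
  rw [act_flp]
  refine ⟨fun h k hk => ?_, fun h => funext fun k => ?_⟩
  · have := congrFun h k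
    rw [Pi.neg_apply] at this
    simp only [hk, if_false] at this
    exact (mul_eq_zero.1 (show (2 : F) * x k = 0 by linear_combination this)).resolve_left h2
  · by_cases hk : k ∈ D
    · simp [hk]
    · simp [hk, h k hk]

theorem maps_of_commute (h2 : (2 : F) ≠ 0) {D : Finset ι} {g : GL ι F} (hc : g * flp D = flp D * g) (x : ι → F)
    (hx : SuppV D x) : SuppV D (act g x) := by
  rw [← flp_eig h2, ← act_mul, ← hc, act_mul, (flp_eig h2).2 hx, act_neg]

/-- `y` agrees on `P` with a combination of `v` and `w` -/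
theorem mem_two {P : Finset ι} {v w y : ι → F}
    (h : ∀ x, SuppV P x → x ⬝ᵥ v = 0 → x ⬝ᵥ w = 0 → y ⬝ᵥ x = 0) :
    ∃ a b : F, ∀ r ∈ P, y r = a * v r + b * w r := by
  classical
  obtain ⟨vec, hvec⟩ : ∃ vec : Fin 2 ⊕ {x // x ∉ P} → (ι → F),
      vec = Sum.elim ![v, w] (fun x : {x // x ∉ P} => bv x.1) := ⟨_, rfl⟩
  have hmem : dotProductBilin (m := ι) (A := F) F F y ∈
      Submodule.span F (Set.range fun t => dotProductBilin (m := ι) (A := F) F F (vec t)) := by
    refine mem_span_of_iInf_ker_le_ker (fun x hx => ?_)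
    simp only [Submodule.mem_iInf, LinearMap.mem_ker, dotProductBilin_apply_apply] at hx
    rw [LinearMap.mem_ker, dotProductBilin_apply_apply]
    refine h x (fun r hr => ?_) ?_ ?_
    · have := hx (Sum.inr ⟨r, hr⟩)
      simpa [hvec] using this
    · have := hx (Sum.inl 0)
      simpa [hvec, dotProduct_comm] using this
    · have := hx (Sum.inl 1)
      simpa [hvec, dotProduct_comm] using this
  obtain ⟨c, hc⟩ := (Submodule.mem_span_range_iff_exists_fun F).1 hmem
  refine ⟨c (Sum.inl 0), c (Sum.inl 1), fun r hr => ?_⟩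
  have hcoord : y r = ∑ t, c t * vec t r := by
    have := LinearMap.congr_fun hc (bv r)
    simpa [LinearMap.sum_apply, dotProductBilin_apply_apply, dot_bv] using this.symm
  rw [hcoord, Fintype.sum_sum_type, Fin.sum_univ_two, hvec]
  rw [Finset.sum_eq_zero (f := fun x : {x // x ∉ P} => c (Sum.inr x) * _) fun x _ => ?_]
  · simp
  · rw [Sum.elim_inr, bv_apply, if_neg fun e : r = (x : ι) => x.2 (e ▸ hr), mul_zero]

variable [Fintype F] {H : Subgroup (GL ι F)} {u : GL ι F} {v w : ι → F}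

theorem MinB.mono_of_preserve (hB : MinB H Finset.univ) (hn : 10 ≤ Fintype.card ι) {C : Finset ι} (hC : C.Nonempty)
    (hC' : C ≠ Finset.univ) {g : GL ι F} (hg : g ∈ H) (hmap : ∀ x, SuppV C x → SuppV C (act g x)) : Mono g := by
  classical
  have hiso := hB.frame.le_iso hg
  -- arrange that `C` is the large part
  obtain ⟨L, hL5, hL', hLmap⟩ : ∃ L : Finset ι, 5 ≤ L.card ∧ L ≠ Finset.univ ∧
      ∀ x, SuppV L x → SuppV L (act g x) := by
    by_cases h5 : 5 ≤ C.card
    · exact ⟨C, h5, hC', hmap⟩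
    · refine ⟨Cᶜ, by rw [Finset.card_compl]; omega, fun h => by
        rw [Finset.compl_eq_univ_iff] at h; exact hC.ne_empty h, fun x hx r hr => ?_⟩
      rw [Finset.mem_compl, not_not] at hr
      rw [← dot_bv (act g x) r, ← act_inv' g (bv r), iso_dot hB.two hiso]
      refine Finset.sum_eq_zero fun k _ => ?_
      by_cases hk : k ∈ C
      · rw [hx k (by simp [hk]), zero_mul]
      · rw [suppV_iff_inv hB.two hiso hmap _ (bv_suppV hr) k hk, mul_zero]
  have hlt : L.card < Fintype.card ι := by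
    rw [← Finset.card_univ]
    exact Finset.card_lt_card (Finset.ssubset_iff_subset_ne.2 ⟨Finset.subset_univ L, hL'⟩)
  have hpart := mono_part hB.two hB.frame hL5
    (fun h hh hhL => hB.small L (by rwa [Finset.card_univ]) h hh hhL) hg hLmap
  by_cases h1 : 2 ≤ (Finset.univ \ L).card
  · obtain ⟨k, hk, hkm, hkg⟩ := exists_adjust hB.two hB.frame (B := Finset.univ) (A := Finset.univ \ L)
      Finset.sdiff_subset h1 hg (mem_fixOff_univ g) (by
        rw [Finset.sdiff_sdiff_eq_self (Finset.subset_univ L)]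
        exact hpart)
    have := hkm.mul (hB.small _ (by
      rw [Finset.card_sdiff_of_subset (Finset.subset_univ L), Finset.card_univ]
      omega) _ (mul_mem (inv_mem hk) hg) hkg)
    rwa [← mul_assoc, mul_inv_cancel, one_mul] at this
  · -- a single coordinate outside
    rw [Finset.card_sdiff_of_subset (Finset.subset_univ L), Finset.card_univ] at h1
    obtain ⟨j, hj⟩ : ∃ j, j ∉ L := by
      by_contra h
      push Not at h
      exact hL' (Finset.eq_univ_iff_forall.2 h)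
    obtain ⟨i, hi, c, hc⟩ := hpart _ (Finset.card_pos.1 (by omega : 0 < L.card)).choose_spec
    have hj' : ∀ r, r ∉ L → r = j := fun r hr => by
      by_contra hne
      have h3 : 2 ≤ Lᶜ.card := by
        rw [← Finset.card_pair hne]
        exact Finset.card_le_card (by simp [Finset.insert_subset_iff, hr, hj])
      rw [Finset.card_compl] at h3
      omega
    refine hB.mono_of_eig hg (mem_fixOff_univ g) (Finset.mem_univ j) (c := act g (bv j) j) (funext fun r => ?_)
    rw [Pi.smul_apply, bv_apply]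
    rcases eq_or_ne r j with rfl | hrj
    · simp
    rw [if_neg hrj, smul_zero]
    have hr : r ∈ L := by by_contra h; exact hrj (hj' r h)
    rw [← dot_bv (act g (bv j)) r, ← act_inv' g (bv r), iso_dot hB.two hiso, bv_dot]
    exact suppV_iff_inv hB.two hiso hLmap _ (bv_suppV hr) j hj

theorem MinB.mono_of_commute (hB : MinB H Finset.univ) (hn : 10 ≤ Fintype.card ι) {D : Finset ι} (hD : D.Nonempty)
    (hD' : D ≠ Finset.univ) {g : GL ι F} (hg : g ∈ H) (hc : g * flp D = flp D * g) : Mono g :=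
  hB.mono_of_preserve hn hD hD' hg (maps_of_commute hB.two hc)

/-- an element carrying a sign change to a sign change is monomial -/
theorem MinB.mono_of_flp (hB : MinB H Finset.univ) (hn : 10 ≤ Fintype.card ι) {A D : Finset ι} (hD : D.Nonempty)
    (hD' : D ≠ Finset.univ) {g : GL ι F} (hg : g ∈ H) (he : g * flp A * g⁻¹ = flp D) : Mono g := by
  classical
  have h2 := hB.two
  have hto : ∀ y, SuppV A y → SuppV D (act g y) := fun y hy => by
    rw [← flp_eig h2, ← he, act_mul, act_mul, act_inv, (flp_eig h2).2 hy, act_neg]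
  have hback : ∀ y, SuppV D y → SuppV A (act g⁻¹ y) := fun y hy => by
    have h1 : act (g * flp A * g⁻¹) y = -y := by rw [he]; exact (flp_eig h2).2 hy
    rw [act_mul, act_mul] at h1
    rw [← flp_eig h2, ← act_neg, ← h1, act_inv]
  have hcard : A.card = D.card := by
    let eA : ∀ S : Finset ι, {y : ι → F // SuppV S y} ≃ (↥S → F) := fun S =>
      { toFun := fun y r => y.1 r
        invFun := fun f => ⟨fun r => if h : r ∈ S then f ⟨r, h⟩ else 0, fun k hk => dif_neg hk⟩
        left_inv := fun y => Subtype.ext (funext fun r => by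
          by_cases h : r ∈ S
          · simp [h]
          · simp [h, y.2 r h])
        right_inv := fun f => funext fun r => by simp [r.2] }
    let eg : {y : ι → F // SuppV A y} ≃ {y : ι → F // SuppV D y} :=
      { toFun := fun y => ⟨act g y.1, hto _ y.2⟩
        invFun := fun y => ⟨act g⁻¹ y.1, hback _ y.2⟩
        left_inv := fun y => Subtype.ext (act_inv g y.1)
        right_inv := fun y => Subtype.ext (act_inv' g y.1) }
    have h1 := Fintype.card_congr (((eA A).symm.trans eg).trans (eA D))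
    rw [Fintype.card_fun, Fintype.card_fun, Fintype.card_coe, Fintype.card_coe] at h1
    exact Nat.pow_right_injective (Fintype.one_lt_card (α := F)) h1
  obtain ⟨σ₀, hσ₀⟩ : ∃ σ : Equiv.Perm ι, A.map σ.toEmbedding = D := by
    refine ⟨(Finset.equivOfCardEq hcard).extendSubtype, Finset.eq_of_subset_of_card_le (fun y hy => ?_)
      (by rw [Finset.card_map, hcard])⟩
    obtain ⟨x, hx, rfl⟩ := Finset.mem_map.1 hy
    rw [Equiv.coe_toEmbedding]
    exact Equiv.extendSubtype_mem _ x hx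
  obtain ⟨σ, hs, hσ⟩ : ∃ σ : Equiv.Perm ι, Equiv.Perm.sign σ = 1 ∧ A.map σ.toEmbedding = D := by
    rcases Int.units_eq_one_or (Equiv.Perm.sign σ₀) with h | h
    · exact ⟨σ₀, h, hσ₀⟩
    · obtain ⟨a, b, hab, hS⟩ : ∃ a b, a ≠ b ∧ (a ∈ A ↔ b ∈ A) := by
        by_cases h3 : 2 ≤ A.card
        · obtain ⟨a, ha, b, hb, hab⟩ := Finset.one_lt_card.1 h3
          exact ⟨a, b, hab, by simp [ha, hb]⟩
        · obtain ⟨a, ha, b, hb, hab⟩ := Finset.one_lt_card.1
            (show 1 < Aᶜ.card by rw [Finset.card_compl]; omega)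
          rw [Finset.mem_compl] at ha hb
          exact ⟨a, b, hab, by simp [ha, hb]⟩
      refine ⟨σ₀ * Equiv.swap a b, by rw [map_mul, h, Equiv.Perm.sign_swap hab]; rfl, ?_⟩
      have hswap : A.map (Equiv.swap a b).toEmbedding = A := by
        ext x
        rw [Finset.mem_map_equiv, Equiv.symm_swap]
        rcases eq_or_ne x a with rfl | hxa
        · rw [Equiv.swap_apply_left]; exact hS.symm
        rcases eq_or_ne x b with rfl | hxb
        · rw [Equiv.swap_apply_right]; exact hS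
        rw [Equiv.swap_apply_of_ne_of_ne hxa hxb]
      show A.map ((Equiv.swap a b).toEmbedding.trans σ₀.toEmbedding) = D
      rw [← Finset.map_map, hswap, hσ₀]
  have hk : pm σ ∈ H := hB.frame.pm_mem σ hs
  have h1 : Mono (g * (pm σ)⁻¹ : GL ι F) := by
    refine hB.mono_of_commute hn hD hD' (mul_mem hg (inv_mem hk)) ?_
    have h3 : pm σ * flp A * (pm σ)⁻¹ = (flp D : GL ι F) := by rw [← map_inv, pm_conj_flp, hσ]
    calc g * (pm σ)⁻¹ * flp D = g * flp A * (pm σ)⁻¹ := by rw [← h3]; group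
      _ = flp D * (g * (pm σ)⁻¹) := by rw [← he]; group
  have := h1.mul (mono_pm σ)
  rwa [inv_mul_cancel_right] at this

/-- a monomial conjugate of a pair sign change is a sign change -/
theorem MinB.conj_eq_flp (hB : MinB H Finset.univ) (hn : 10 ≤ Fintype.card ι) {g : GL ι F} (hg : g ∈ H) {a c : ι}
    (hac : a ≠ c) (hm : Mono (g * flp {a, c} * g⁻¹)) : ∃ D, g * flp {a, c} * g⁻¹ = flp D := by
  classical
  have h2 := hB.two
  have hu := Invol.conj h2 hB.frame hg (mem_fixOff_univ g) (Finset.mem_univ a) (Finset.mem_univ c) hac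
  obtain ⟨x, hx⟩ : ∃ x : monoG (ι := ι) (F := F), x.1 = g * flp {a, c} * g⁻¹ := ⟨⟨_, hm⟩, rfl⟩
  rw [← hx] at hu ⊢
  have hxiso := hB.frame.le_iso hu.mem
  by_cases hp : mperm x = 1
  · exact eq_flp_of_mperm h2 hxiso hp
  exfalso
  have hg' : ¬ Mono g := fun h => hp (by
    have hxe : x = ⟨g, h⟩ * ⟨flp {a, c}, mono_flp _⟩ * (⟨g, h⟩ : monoG (ι := ι) (F := F))⁻¹ := Subtype.ext hx
    rw [hxe, map_mul, map_mul, map_inv, mperm_flp, mul_one, mul_inv_cancel])
  obtain ⟨π, hπ⟩ : ∃ π, π = mperm x := ⟨_, rfl⟩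
  rw [← hπ] at hp
  have hππ : ∀ r, π (π r) = r := fun r => by
    rw [hπ, ← Equiv.Perm.mul_apply, ← map_mul, show x * x = 1 from Subtype.ext hu.sq, map_one, Equiv.Perm.one_apply]
  -- a moved coordinate gives a vector of the minus space
  have hvec : ∀ r, π r ≠ r → ∃ y, InU (act g (bv a)) (act g (bv c)) y ∧ y r = 1 ∧ SuppV {r, π r} y := by
    intro r hr
    obtain ⟨d, -, hd⟩ := mperm_apply x r
    rw [← hπ] at hd
    refine ⟨bv r - d • bv (π r), ?_, ?_, fun k hk => ?_⟩
    · rw [← hd, hu.formula]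
      exact ⟨2 * (bv r ⬝ᵥ act g (bv a)), 2 * (bv r ⬝ᵥ act g (bv c)), by module⟩
    · simp [bv_apply, Ne.symm hr]
    · simp only [Finset.mem_insert, Finset.mem_singleton, not_or] at hk
      simp [bv_apply, hk.1, hk.2]
  obtain ⟨r₁, hr₁⟩ : ∃ r, π r ≠ r := not_forall.1 fun h => hp (Equiv.ext h)
  obtain ⟨Lf, hL2, hLnot, hLcov⟩ : ∃ Lf : Finset ι, Lf.card ≤ 2 ∧ (∀ y ∈ Lf, π y ∉ Lf) ∧
      (∀ y, π y ≠ y → y ∈ Lf ∨ π y ∈ Lf) := by
    by_cases hr2 : ∀ r, π r ≠ r → r ∈ ({r₁, π r₁} : Finset ι)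
    · refine ⟨{r₁}, by simp, by simp [hr₁], fun y hy => ?_⟩
      rcases Finset.mem_insert.1 (hr2 y hy) with rfl | h
      · exact Or.inl (Finset.mem_singleton_self _)
      · rw [Finset.mem_singleton.1 h, hππ]
        exact Or.inr (Finset.mem_singleton_self _)
    push Not at hr2
    obtain ⟨r₂, hr₂, hr₂₁⟩ := hr2
    simp only [Finset.mem_insert, Finset.mem_singleton, not_or] at hr₂₁
    have hd1 : π r₂ ≠ r₁ := fun e => hr₂₁.2 (by rw [← e, hππ])
    have hd2 : π r₂ ≠ π r₁ := fun e => hr₂₁.1 (π.injective e)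
    refine ⟨{r₁, r₂}, Finset.card_le_two, ?_, fun y hy => ?_⟩
    · simp only [Finset.mem_insert, Finset.mem_singleton]
      rintro y (rfl | rfl)
      · exact not_or.2 ⟨hr₁, Ne.symm hr₂₁.2⟩
      · exact not_or.2 ⟨hd1, hr₂⟩
    by_contra hcon
    simp only [Finset.mem_insert, Finset.mem_singleton, not_or] at hcon
    obtain ⟨⟨hy1, hy2⟩, hy3, hy4⟩ := hcon
    obtain ⟨y₁, ⟨a₁, b₁, e₁⟩, h11, hs1⟩ := hvec r₁ hr₁
    obtain ⟨y₂, ⟨a₂, b₂, e₂⟩, h22, hs2⟩ := hvec r₂ hr₂
    obtain ⟨y₃, ⟨a₃, b₃, e₃⟩, h33, hs3⟩ := hvec y hy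
    have h12 : y₁ r₂ = 0 := hs1 r₂ (by simp [hr₂₁.1, hr₂₁.2])
    have h21 : y₂ r₁ = 0 := hs2 r₁ (by simp [Ne.symm hr₂₁.1, Ne.symm hd1])
    have h13 : y₁ y = 0 := hs1 y (by
      simp only [Finset.mem_insert, Finset.mem_singleton, not_or]
      exact ⟨hy1, fun e => hy3 (by rw [e, hππ])⟩)
    have h23 : y₂ y = 0 := hs2 y (by
      simp only [Finset.mem_insert, Finset.mem_singleton, not_or]
      exact ⟨hy2, fun e => hy4 (by rw [e, hππ])⟩)
    rw [e₁] at h11 h12 h13
    rw [e₂] at h22 h21 h23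
    rw [e₃] at h33
    simp only [Pi.add_apply, Pi.smul_apply, smul_eq_mul] at h11 h12 h13 h21 h22 h23 h33
    obtain ⟨Δ, hΔ⟩ : ∃ Δ, Δ = a₁ * b₂ - a₂ * b₁ := ⟨_, rfl⟩
    have hΔ0 : Δ ≠ 0 := fun e => by
      have ha2 : a₂ = 0 := by
        linear_combination (-a₂) * h11 + a₁ * h21 + (act g (bv c) r₁) * hΔ - (act g (bv c) r₁) * e
      have hb2 : b₂ = 0 := by
        linear_combination (-b₂) * h11 + b₁ * h21 - (act g (bv a) r₁) * hΔ + (act g (bv a) r₁) * e
      rw [ha2, hb2, zero_mul, zero_mul, add_zero] at h22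
      exact zero_ne_one h22
    have hA : act g (bv a) y = 0 := (mul_eq_zero.1 (show Δ * act g (bv a) y = 0 by
      linear_combination b₂ * h13 - b₁ * h23 + (act g (bv a) y) * hΔ)).resolve_left hΔ0
    have hC : act g (bv c) y = 0 := (mul_eq_zero.1 (show Δ * act g (bv c) y = 0 by
      linear_combination a₁ * h23 - a₂ * h13 + (act g (bv c) y) * hΔ)).resolve_left hΔ0
    rw [hA, hC, mul_zero, mul_zero, add_zero] at h33
    exact zero_ne_one h33
  obtain ⟨M, hM⟩ : ∃ M : Finset ι, M = Lf ∪ Lf.map π.toEmbedding := ⟨_, rfl⟩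
  have hM4 : M.card ≤ 4 := by
    rw [hM]
    refine (Finset.card_union_le _ _).trans ?_
    rw [Finset.card_map]
    omega
  have hfixM : ∀ y, y ∉ M → π y = y := fun y hy => by
    by_contra h
    apply hy
    rw [hM, Finset.mem_union, Finset.mem_map_equiv]
    rcases hLcov y h with h' | h'
    · exact Or.inl h'
    · right
      rwa [(Equiv.symm_apply_eq π).2 (hππ y).symm]
  obtain ⟨o, -, ho⟩ : ∃ o ∈ (Finset.univ : Finset ι), o ∉ M := Finset.exists_mem_notMem_of_card_lt_card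
    (by rw [Finset.card_univ]; omega)
  have hoπ := hfixM o ho
  -- the invariant even sets
  obtain ⟨good, hgood⟩ : ∃ good : Finset ι → Prop, good = fun D => Even D.card ∧ ∀ y, π y ∈ D ↔ y ∈ D := ⟨_, rfl⟩
  have hconjm : ∀ D, good D → Mono (g⁻¹ * flp D * g) ∧ g⁻¹ * flp D * g ∈ H := by
    intro D hD
    rw [hgood] at hD
    obtain ⟨hDe, hDi⟩ := hD
    have hmem : g⁻¹ * flp D * g ∈ H := mul_mem (mul_mem (inv_mem hg) (hB.frame.flp_even hDe)) hg
    refine ⟨hB.mono_of_commute hn (D := {a, c}) ⟨a, by simp⟩ (fun h => ?_) hmem ?_, hmem⟩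
    · have := congrArg Finset.card h
      rw [Finset.card_pair hac, Finset.card_univ] at this
      omega
    have hcomm : flp D * x.1 = x.1 * flp D := gl_ext_bv fun r => by
      obtain ⟨d, -, hd⟩ := mperm_apply x r
      rw [← hπ] at hd
      rw [act_mul, act_mul, hd, act_smul, flp_bv, flp_bv, act_smul, hd, smul_comm]
      simp only [hDi r]
    rw [hx] at hcomm
    calc g⁻¹ * flp D * g * flp {a, c} = g⁻¹ * (flp D * (g * flp {a, c} * g⁻¹)) * g := by group
      _ = flp {a, c} * (g⁻¹ * flp D * g) := by rw [hcomm]; group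
  have hgood_empty : good ∅ := by rw [hgood]; exact ⟨by simp, by simp⟩
  have hgood_diff : ∀ D D', good D → good D' → good (symmDiff D D') := by
    intro D D' h h'
    rw [hgood] at h h' ⊢
    refine ⟨?_, fun y => by simp [Finset.mem_symmDiff, h.2 y, h'.2 y]⟩
    have h1 : (symmDiff D D').card + 2 * (D ∩ D').card = D.card + D'.card := by
      rw [Finset.symmDiff_def, Finset.card_union_of_disjoint disjoint_sdiff_sdiff]
      have h3 := Finset.card_sdiff_add_card_inter D D'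
      have h4 := Finset.card_sdiff_add_card_inter D' D
      rw [Finset.inter_comm D' D] at h4
      omega
    obtain ⟨k, hk⟩ := h.1
    obtain ⟨k', hk'⟩ := h'.1
    exact ⟨k + k' - (D ∩ D').card, by omega⟩
  let φ : {D // good D} → Equiv.Perm ι := fun D => mperm ⟨g⁻¹ * flp D.1 * g, (hconjm D.1 D.2).1⟩
  have hφmul : ∀ D D' : {D // good D}, φ D * φ D' = φ ⟨symmDiff D.1 D'.1, hgood_diff _ _ D.2 D'.2⟩ := fun D D' => by
    show mperm _ * mperm _ = mperm _
    rw [← map_mul]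
    refine congrArg _ (Subtype.ext ?_)
    show g⁻¹ * flp D.1 * g * (g⁻¹ * flp D'.1 * g) = g⁻¹ * flp (symmDiff D.1 D'.1) * g
    rw [← flp_mul]
    group
  have hφone : φ ⟨∅, hgood_empty⟩ = 1 := by
    show mperm _ = 1
    rw [← map_one (mperm (ι := ι) (F := F))]
    exact congrArg _ (Subtype.ext (by
      show g⁻¹ * flp ∅ * g = (1 : GL ι F)
      rw [flp_empty, mul_one, inv_mul_cancel]))
  have hφsq : ∀ D, φ D * φ D = 1 := fun D => by
    rw [hφmul, ← hφone]
    exact congrArg φ (Subtype.ext (symmDiff_self D.1))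
  let E : Subgroup (Equiv.Perm ι) :=
    { carrier := Set.range φ
      one_mem' := ⟨_, hφone⟩
      mul_mem' := by rintro _ _ ⟨D, rfl⟩ ⟨D', rfl⟩; exact ⟨_, (hφmul D D').symm⟩
      inv_mem' := by rintro _ ⟨D, rfl⟩; exact ⟨D, (inv_eq_of_mul_eq_one_right (hφsq D)).symm⟩ }
  have hE := card_sq_le Finset.univ E (by rintro _ ⟨D, rfl⟩; exact hφsq D)
    (by
      rintro _ ⟨D, rfl⟩ _ ⟨D', rfl⟩
      rw [hφmul, hφmul]
      exact congrArg φ (Subtype.ext (symmDiff_comm _ _)))
    (fun _ _ k hk => absurd (Finset.mem_univ k) hk)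
  -- the fibres
  have hfib : ∀ D D' : {D // good D}, φ D = φ D' → D'.1 = D.1 ∨ D'.1 = D.1ᶜ := by
    intro D D' h
    have h1 : φ ⟨symmDiff D.1 D'.1, hgood_diff _ _ D.2 D'.2⟩ = 1 := by rw [← hφmul, h, hφsq]
    obtain ⟨A, hA⟩ := eq_flp_of_mperm h2 (hB.frame.le_iso (hconjm _ (hgood_diff _ _ D.2 D'.2)).2) h1
    have hA' : g * flp A * g⁻¹ = flp (symmDiff D.1 D'.1) := by rw [← hA]; group
    by_contra hcon
    push Not at hcon
    refine hg' (hB.mono_of_flp hn ?_ ?_ hg hA')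
    · refine Finset.nonempty_iff_ne_empty.2 fun e => hcon.1 ?_
      rw [← Finset.bot_eq_empty, symmDiff_eq_bot] at e
      exact e.symm
    · intro e
      refine hcon.2 (Finset.ext fun y => ?_)
      have := Finset.ext_iff.1 e y
      simp only [Finset.mem_univ, iff_true, Finset.mem_symmDiff] at this
      rw [Finset.mem_compl]
      tauto
  -- many invariant sets
  obtain ⟨S', hS'⟩ : ∃ S' : Finset ι, S' = (Finset.univ \ Lf).erase o := ⟨_, rfl⟩
  have hS'card : Fintype.card ι ≤ S'.card + 3 := by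
    rw [hS', Finset.card_erase_of_mem (Finset.mem_sdiff.2 ⟨Finset.mem_univ o, fun h => ho (by simp [hM, h])⟩),
      Finset.card_sdiff_of_subset (Finset.subset_univ Lf), Finset.card_univ]
    omega
  obtain ⟨cl, hcl⟩ : ∃ cl : Finset ι → Finset ι, cl = fun T =>
      Finset.univ.filter fun y => y ∈ T ∨ π y ∈ T := ⟨_, rfl⟩
  obtain ⟨Φ, hΦ⟩ : ∃ Φ : Finset ι → Finset ι, Φ = fun T => if Even (cl T).card then cl T else insert o (cl T) :=
    ⟨_, rfl⟩
  have hcl_mem : ∀ T y, y ∈ cl T ↔ (y ∈ T ∨ π y ∈ T) := fun T y => by simp [hcl]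
  have hclo : ∀ T, T ⊆ S' → o ∉ cl T := fun T hT h => by
    rw [hcl_mem, hoπ, or_self] at h
    have := hT h
    rw [hS'] at this
    simp at this
  have hΦgood : ∀ T, T ⊆ S' → good (Φ T) := fun T hT => by
    rw [hgood, hΦ]
    dsimp only
    have hinv : ∀ y, π y ∈ cl T ↔ y ∈ cl T := fun y => by rw [hcl_mem, hcl_mem, hππ, or_comm]
    split
    · exact ⟨by assumption, hinv⟩
    · refine ⟨by rw [Finset.card_insert_of_notMem (hclo T hT)]; exact Nat.even_add_one.2 (by assumption),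
        fun y => ?_⟩
      rw [Finset.mem_insert, Finset.mem_insert, hinv]
      refine or_congr ⟨fun h => ?_, fun h => by rw [h, hoπ]⟩ Iff.rfl
      rw [← hππ y, h, hoπ]
  have hΦT : ∀ T, T ⊆ S' → Φ T ∩ S' = T := fun T hT => by
    have hcl' : cl T ∩ S' = T := by
      ext y
      rw [Finset.mem_inter, hcl_mem]
      refine ⟨fun ⟨h, hy⟩ => h.elim id fun hπy => ?_, fun h => ⟨Or.inl h, hT h⟩⟩
      by_contra hyT
      have hne : π y ≠ y := fun e => hyT (e ▸ hπy)
      have hπS := hT hπy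
      rw [hS'] at hy hπS
      simp only [Finset.mem_erase, Finset.mem_sdiff, Finset.mem_univ, true_and] at hy hπS
      exact (hLcov y hne).elim hy.2 hπS.2
    rw [hΦ]
    dsimp only
    split
    · exact hcl'
    · rw [Finset.insert_inter_of_notMem (by rw [hS']; simp), hcl']
  have hcount : 2 ^ S'.card ≤ 2 * Nat.card E := by
    classical
    let ψ : {T // T ⊆ S'} → E := fun T => ⟨φ ⟨Φ T.1, hΦgood _ T.2⟩, _, rfl⟩
    have h1 : (Finset.univ : Finset {T // T ⊆ S'}).card ≤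
        2 * ((Finset.univ : Finset {T // T ⊆ S'}).image ψ).card := by
      refine Finset.card_le_mul_card_image _ 2 fun b hb => ?_
      obtain ⟨T₀, -, hT₀⟩ := Finset.mem_image.1 hb
      refine le_trans (Finset.card_le_card_of_injOn (t := ({Φ T₀.1, (Φ T₀.1)ᶜ} : Finset (Finset ι)))
        (fun T => Φ T.1) (fun T hT => ?_) (fun T hT T' hT' he => ?_)) Finset.card_le_two
      · have hTb := (Finset.mem_filter.1 hT).2
        have he := congrArg Subtype.val (hT₀.trans hTb.symm)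
        rcases hfib ⟨Φ T₀.1, hΦgood _ T₀.2⟩ ⟨Φ T.1, hΦgood _ T.2⟩ he with h | h
        · simp [Finset.mem_coe, show Φ T.1 = Φ T₀.1 from h]
        · simp [Finset.mem_coe, show Φ T.1 = (Φ T₀.1)ᶜ from h]
      · refine Subtype.ext ?_
        rw [← hΦT T.1 T.2, ← hΦT T'.1 T'.2]
        exact congrArg (· ∩ S') he
    have h3 : Fintype.card {T // T ⊆ S'} = 2 ^ S'.card := by
      rw [Fintype.card_subtype, ← Finset.card_powerset]
      congr 1
      ext T
      simp
    rw [Finset.card_univ, h3] at h1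
    refine h1.trans (Nat.mul_le_mul_left 2 ?_)
    rw [Nat.card_eq_fintype_card, ← Finset.card_univ]
    exact Finset.card_le_card (Finset.subset_univ _)
  rw [Finset.card_univ] at hE
  have h4 : (2 : ℕ) ^ (S'.card * 2) ≤ 2 ^ (2 + Fintype.card ι) := by
    rw [pow_mul, pow_add]
    refine (Nat.pow_le_pow_left hcount 2).trans ?_
    rw [mul_pow]
    exact Nat.mul_le_mul_left _ hE
  rw [Nat.pow_le_pow_iff_right (by norm_num)] at h4
  omega

namespace Invol

variable (hu : Invol H Finset.univ u v w) (hB : MinB H Finset.univ)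
include hu hB

/-- the four-coordinate test -/
theorem four (hn : 10 ≤ Fintype.card ι) {g : GL ι F} (hg : g ∈ H) {a c : ι} (hac : a ≠ c)
    (hgu : u = g * flp {a, c} * g⁻¹) {A : Finset ι} (hA : A.card = 4) :
    Mono u ∨ ∃ h T, InU v w h ∧ T.card ≤ 4 ∧ SuppV T h ∧ ∃ r ∈ A, h r ≠ 0 := by
  classical
  have h2 := hB.two
  obtain ⟨s, hs⟩ : ∃ s, s = (flp A : GL ι F) := ⟨_, rfl⟩
  have hsH : s ∈ H := hs ▸ hB.frame.flp_even (by rw [hA]; decide)
  have hs2 : s * s = 1 := hs ▸ flp_sq A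
  have hsneg : ∀ {y : ι → F}, SuppV A y → act s y = -y := fun h => hs ▸ (flp_eig h2).2 h
  have hspos : ∀ {y : ι → F}, SuppV Aᶜ y → act s y = y := fun h => by
    rw [hs, act_flp]
    funext r
    split
    · rw [h r (by simpa using ‹r ∈ A›), neg_zero]
    · rfl
  obtain ⟨q, hq⟩ : ∃ q, q = s * u := ⟨_, rfl⟩
  have hqA : ∀ {y : ι → F}, SuppV A y → y ⬝ᵥ v = 0 → y ⬝ᵥ w = 0 → act q y = -y := fun h h1 h3 => by
    rw [hq, act_mul, hu.act_perp h1 h3, hsneg h]
  have hqA' : ∀ {y : ι → F}, SuppV Aᶜ y → y ⬝ᵥ v = 0 → y ⬝ᵥ w = 0 → act q y = y := fun h h1 h3 => by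
    rw [hq, act_mul, hu.act_perp h1 h3, hspos h]
  obtain ⟨m, hm⟩ : ∃ m, orderOf q = 2 * m := by
    obtain ⟨y, hy0, hyA, hyv, hyw, -⟩ := exists_perp_three (B := A) (by omega) v w a
    have h1 := act_pow_eig (g := q) (c := (-1 : F)) (x := y) (by rw [hqA hyA hyv hyw, neg_one_smul]) (orderOf q)
    rw [pow_orderOf_eq_one, act_one] at h1
    rcases Nat.even_or_odd (orderOf q) with he | ho
    · obtain ⟨m, hm⟩ := he
      exact ⟨m, by omega⟩
    · rw [ho.neg_one_pow, neg_one_smul] at h1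
      refine absurd (funext fun r => ?_) hy0
      have := congrFun h1 r
      rw [Pi.neg_apply] at this
      exact (mul_eq_zero.1 (show (2 : F) * y r = 0 by linear_combination this)).resolve_left h2
  obtain ⟨z, hz⟩ : ∃ z, z = q ^ m := ⟨_, rfl⟩
  have hz1 : z ≠ 1 := by
    rw [hz]
    refine pow_ne_one_of_lt_orderOf ?_ ?_
    · have := (isOfFinOrder_of_finite q).orderOf_pos; omega
    · have := (isOfFinOrder_of_finite q).orderOf_pos; omega
  have hz2 : z * z = 1 := by rw [hz, ← pow_add, ← two_mul, ← hm, pow_orderOf_eq_one]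
  have hzinv : z⁻¹ = z := inv_eq_of_mul_eq_one_right hz2
  have hqs : s * q * s⁻¹ = q⁻¹ := by
    rw [hq, _root_.mul_inv_rev, inv_eq_of_mul_eq_one_right hs2, inv_eq_of_mul_eq_one_right hu.sq, ← mul_assoc s s,
      hs2, one_mul]
  have hqu : u * q * u⁻¹ = q⁻¹ := by
    rw [hq, _root_.mul_inv_rev, inv_eq_of_mul_eq_one_right hs2, inv_eq_of_mul_eq_one_right hu.sq, mul_assoc,
      mul_assoc s u u, hu.sq, mul_one]
  have hsz : s * z = z * s := by
    have : s * z * s⁻¹ = z := by rw [hz, ← conj_pow, hqs, inv_pow, ← hz, hzinv]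
    rw [← mul_inv_eq_iff_eq_mul, this]
  have huz : u * z = z * u := by
    have : u * z * u⁻¹ = z := by rw [hz, ← conj_pow, hqu, inv_pow, ← hz, hzinv]
    rw [← mul_inv_eq_iff_eq_mul, this]
  have hqH : q ∈ H := hq ▸ mul_mem hsH hu.mem
  have hzH : z ∈ H := hz ▸ pow_mem hqH m
  have hziso := hB.frame.le_iso hzH
  have hAne : A.Nonempty := Finset.card_pos.1 (by omega)
  have hAuniv : A ≠ Finset.univ := fun h => by rw [h, Finset.card_univ] at hA; omega
  have hzmono : Mono z := hB.mono_of_commute hn hAne hAuniv hzH (by rw [← hs, hsz])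
  rcases Nat.even_or_odd m with hme | hmo
  swap
  · left
    obtain ⟨j, hj⟩ := hmo
    obtain ⟨k, hk⟩ : ∃ k, k = q⁻¹ ^ j := ⟨_, rfl⟩
    have hkey : s * z = k * u * k⁻¹ := by
      have h1 : ∀ i : ℕ, u * q ^ i = q⁻¹ ^ i * u := fun i => by
        rw [← mul_inv_eq_iff_eq_mul, ← conj_pow, hqu]
      rw [hk, inv_pow, inv_inv, ← inv_pow, mul_assoc, h1 j, hz, hj, pow_succ', hq, ← mul_assoc, ← mul_assoc s s, hs2,
        one_mul, ← hq, h1 (2 * j), ← mul_assoc, ← pow_add, ← two_mul]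
    have hkey' : s * z = (k * g) * flp {a, c} * (k * g)⁻¹ := by rw [hkey, hgu]; group
    have hmono : Mono ((k * g) * flp {a, c} * (k * g)⁻¹) := hkey' ▸ (hs ▸ (mono_flp A).mul hzmono)
    obtain ⟨D, hD⟩ := hB.conj_eq_flp hn (mul_mem (hk ▸ pow_mem (inv_mem hqH) j) hg) hac hmono
    rw [← hkey'] at hD
    obtain ⟨D', hD'⟩ : ∃ D', z = flp D' := ⟨symmDiff A D, by rw [← flp_mul, ← hs, ← hD, ← mul_assoc, hs2, one_mul]⟩
    refine hB.mono_of_commute hn (D := D') ?_ ?_ hu.mem (by rw [← hD', huz])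
    · exact Finset.nonempty_iff_ne_empty.2 fun e => hz1 (by rw [hD', e, flp_empty])
    · intro e
      obtain ⟨y, hy0, hyA, hyv, hyw, -⟩ := exists_perp_three (B := Aᶜ) (by rw [Finset.card_compl]; omega) v w a
      have h1 := act_pow_eig (g := q) (c := (1 : F)) (x := y) (by rw [hqA' hyA hyv hyw, one_smul]) m
      rw [one_pow, one_smul, ← hz, hD', (flp_eig h2).2 (fun k hk => absurd (e ▸ Finset.mem_univ k) hk)] at h1
      refine hy0 (funext fun r => ?_)
      have := congrFun h1 r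
      rw [Pi.neg_apply] at this
      exact (mul_eq_zero.1 (show (2 : F) * y r = 0 by linear_combination -this)).resolve_left h2
  -- `m` is even
  have hzperp : ∀ P : Finset ι, (P = A ∨ P = Aᶜ) → ∀ y, SuppV P y → y ⬝ᵥ v = 0 → y ⬝ᵥ w = 0 → act z y = y := by
    intro P hP y hy h1 h3
    rcases hP with rfl | rfl
    · rw [hz, act_pow_eig (c := (-1 : F)) (by rw [hqA hy h1 h3, neg_one_smul]), hme.neg_one_pow, one_smul]
    · rw [hz, act_pow_eig (c := (1 : F)) (by rw [hqA' hy h1 h3, one_smul]), one_pow, one_smul]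
  choose σ dd hd using hzmono
  have hσσ : ∀ j, σ (σ j) = j := fun j => by
    have h1 : act z (act z (bv j)) = bv j := by rw [← act_mul, hz2, act_one]
    rw [hd j, act_smul, hd _, smul_smul] at h1
    exact ((smul_bv_inj (one_ne_zero (α := F)) ((one_smul F (bv j : ι → F)).trans h1.symm)).1).symm
  have hdd : ∀ j, dd j * dd j = 1 := fun j => by
    rcases coeff_sq h2 hziso (hd j) with h1 | h1 <;> rw [h1] <;> norm_num
  have hd0 : ∀ j, dd j ≠ 0 := fun j e => by simpa [e] using hdd j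
  have hσA : ∀ j, σ j ∈ A ↔ j ∈ A := fun j => by
    have h1 : act s (act z (bv j : ι → F)) = act z (act s (bv j)) := by rw [← act_mul, hsz, act_mul]
    rw [hd j, act_smul, hs, flp_bv, flp_bv, act_smul, hd j, smul_smul, smul_smul] at h1
    have h3 := congrFun h1 (σ j)
    simp only [Pi.smul_apply, smul_eq_mul, bv_apply, if_true, mul_one] at h3
    constructor <;> intro hh <;> by_contra hne <;> simp only [hh, hne, if_true, if_false] at h3
    · exact mul_ne_zero h2 (hd0 j) (by linear_combination -h3)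
    · exact mul_ne_zero h2 (hd0 j) (by linear_combination h3)
  obtain ⟨x, hx⟩ : ∃ x : ι → (ι → F), x = fun j => bv j - act z (bv j) := ⟨_, rfl⟩
  have hxz : ∀ j, act z (x j) = -x j := fun j => by
    rw [hx]
    dsimp only
    rw [act_sub, ← act_mul, hz2, act_one, neg_sub]
  have hxsupp : ∀ j, SuppV {j, σ j} (x j) := fun j r hr => by
    simp only [Finset.mem_insert, Finset.mem_singleton, not_or] at hr
    rw [hx]
    dsimp only
    rw [hd j, Pi.sub_apply, Pi.smul_apply, bv_apply, bv_apply, if_neg hr.1, if_neg hr.2]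
    simp
  have hcoord : ∀ y, act z y = -y → ∀ j, dd j * y (σ j) = -y j := fun y hy j => by
    rw [← coord_of_bv h2 hziso hz2 (hd j), hy, Pi.neg_apply]
  have hxj : ∀ j, x j ≠ 0 → x j j ≠ 0 := fun j hne h0 => by
    refine hne (funext fun r => ?_)
    by_cases hr : r ∈ ({j, σ j} : Finset ι)
    · rcases Finset.mem_insert.1 hr with rfl | hr
      · exact h0
      · rw [Finset.mem_singleton.1 hr, Pi.zero_apply]
        have := hcoord _ (hxz j) j
        rw [h0, neg_zero, mul_eq_zero] at this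
        exact this.resolve_left (hd0 j)
    · exact hxsupp j r hr
  have hxzero : ∀ j, x j = 0 → ∀ y, act z y = -y → y j = 0 := fun j h0 y hy => by
    rw [hx] at h0
    dsimp only at h0
    rw [sub_eq_zero] at h0
    have h1 := iso_dot h2 hziso y (bv j)
    rw [hy, ← h0, neg_dotProduct, dot_bv] at h1
    exact (mul_eq_zero.1 (show (2 : F) * y j = 0 by linear_combination -h1)).resolve_left h2
  have hxP : ∀ P : Finset ι, (P = A ∨ P = Aᶜ) → ∀ j ∈ P, SuppV P (x j) := fun P hP j hj =>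
    (hxsupp j).mono (Finset.insert_subset_iff.2 ⟨hj, Finset.singleton_subset_iff.2 (by
      rcases hP with rfl | rfl
      · exact (hσA j).2 hj
      · rw [Finset.mem_compl] at hj ⊢; rwa [hσA j])⟩)
  have hperp : ∀ y y' : ι → F, act z y = -y → act z y' = y' → y ⬝ᵥ y' = 0 := fun y y' hy hy' => by
    have h1 := iso_dot h2 hziso y y'
    rw [hy, hy', neg_dotProduct] at h1
    exact (mul_eq_zero.1 (show (2 : F) * (y ⬝ᵥ y') = 0 by linear_combination -h1)).resolve_left h2
  have hnz : ∀ y, act z y = -y → act z y = y → y = 0 := fun y h1 h3 => funext fun r => by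
    have := congrFun (h1.symm.trans h3) r
    rw [Pi.neg_apply] at this
    exact (mul_eq_zero.1 (show (2 : F) * y r = 0 by linear_combination -this)).resolve_left h2
  have hdis : ∀ j₁ j₂, j₂ ∉ ({j₁, σ j₁} : Finset ι) → x j₁ j₂ = 0 ∧ x j₂ j₁ = 0 := fun j₁ j₂ h => by
    refine ⟨hxsupp j₁ j₂ h, hxsupp j₂ j₁ ?_⟩
    simp only [Finset.mem_insert, Finset.mem_singleton, not_or] at h ⊢
    exact ⟨Ne.symm h.1, fun e => h.2 (by rw [e, hσσ])⟩
  have hspan : ∀ P : Finset ι, (P = A ∨ P = Aᶜ) → ∀ j₁ ∈ P, ∀ j₂ ∈ P, j₂ ∉ ({j₁, σ j₁} : Finset ι) → x j₁ ≠ 0 →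
      x j₂ ≠ 0 → ∀ r ∈ P, r ∉ ({j₁, σ j₁, j₂, σ j₂} : Finset ι) → v r = 0 ∧ w r = 0 := by
    intro P hP j₁ hj₁ j₂ hj₂ hd12 hn₁ hn₂ r hr hr4
    obtain ⟨a₁, b₁, e₁⟩ := mem_two (v := v) (w := w) (y := x j₁)
      (fun y hy h1 h3 => hperp _ _ (hxz j₁) (hzperp P hP y hy h1 h3))
    obtain ⟨a₂, b₂, e₂⟩ := mem_two (v := v) (w := w) (y := x j₂)
      (fun y hy h1 h3 => hperp _ _ (hxz j₂) (hzperp P hP y hy h1 h3))
    have k1 := e₁ j₁ hj₁
    have k2 := e₂ j₁ hj₁
    rw [(hdis j₁ j₂ hd12).2] at k2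
    have hn₁' := hxj j₁ hn₁
    have hn₂' := hxj j₂ hn₂
    simp only [Finset.mem_insert, Finset.mem_singleton, not_or] at hr4
    have r1 := e₁ r hr
    have r2 := e₂ r hr
    rw [hxsupp j₁ r (by simp [hr4.1, hr4.2.1])] at r1
    rw [hxsupp j₂ r (by simp [hr4.2.2.1, hr4.2.2.2])] at r2
    have hdet : a₁ * b₂ - a₂ * b₁ ≠ 0 := fun e => by
      have ha2 : a₂ = 0 := (mul_eq_zero.1 (show a₂ * x j₁ j₁ = 0 by
        linear_combination a₂ * k1 - a₁ * k2 - w j₁ * e)).resolve_right hn₁'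
      have hb2 : b₂ = 0 := (mul_eq_zero.1 (show b₂ * x j₁ j₁ = 0 by
        linear_combination b₂ * k1 - b₁ * k2 + v j₁ * e)).resolve_right hn₁'
      exact hn₂' (by rw [e₂ j₂ hj₂, ha2, hb2]; ring)
    exact ⟨(mul_eq_zero.1 (show (a₁ * b₂ - a₂ * b₁) * v r = 0 by
        linear_combination -b₂ * r1 + b₁ * r2)).resolve_left hdet,
      (mul_eq_zero.1 (show (a₁ * b₂ - a₂ * b₁) * w r = 0 by
        linear_combination a₂ * r1 - a₁ * r2)).resolve_left hdet⟩
  by_cases hout2 : ∃ j₁ ∈ Aᶜ, ∃ j₂ ∈ Aᶜ, j₂ ∉ ({j₁, σ j₁} : Finset ι) ∧ x j₁ ≠ 0 ∧ x j₂ ≠ 0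
  · left
    obtain ⟨j₁, hj₁, j₂, hj₂, hd12, hn₁, hn₂⟩ := hout2
    refine hu.mono_of_supp hB (T := A ∪ {j₁, σ j₁, j₂, σ j₂}) ?_ ?_
    · rw [Finset.card_univ]
      refine lt_of_le_of_lt (Finset.card_union_le _ _) ?_
      have := @Finset.card_le_four ι _ j₁ (σ j₁) j₂ (σ j₂)
      omega
    rintro y ⟨p, p', rfl⟩ r hr
    rw [Finset.mem_union, not_or] at hr
    obtain ⟨e1, e2⟩ := hspan Aᶜ (Or.inr rfl) j₁ hj₁ j₂ hj₂ hd12 hn₁ hn₂ r (Finset.mem_compl.2 hr.1) hr.2
    simp [e1, e2]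
  push Not at hout2
  have hone : ∀ P : Finset ι, (∀ j₁ ∈ P, ∀ j₂ ∈ P, j₂ ∉ ({j₁, σ j₁} : Finset ι) → x j₁ ≠ 0 → x j₂ = 0) →
      ∃ T : Finset ι, T.card ≤ 2 ∧ ∀ r ∈ P, x r ≠ 0 → r ∈ T := by
    intro P hP
    by_cases h : ∃ j ∈ P, x j ≠ 0
    · obtain ⟨j, hj, hjn⟩ := h
      exact ⟨{j, σ j}, Finset.card_le_two, fun r hr hrn => by
        by_contra hc
        exact hrn (hP j hj r hr hc hjn)⟩
    · push Not at h
      exact ⟨∅, by simp, fun r hr hrn => absurd (h r hr) hrn⟩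
  obtain ⟨T', hT', hT'x⟩ := hone Aᶜ hout2
  have hδ : ∀ j, act z (x j - act u (x j)) = -(x j - act u (x j)) := fun j => by
    rw [act_sub, hxz, ← act_mul, ← huz, act_mul, hxz, act_neg]
    abel
  have hδU : ∀ y : ι → F, y - act u y = (2 * (y ⬝ᵥ v)) • v + (2 * (y ⬝ᵥ w)) • w := fun y => by
    rw [hu.formula]
    abel
  by_cases hin2 : ∃ j₁ ∈ A, ∃ j₂ ∈ A, j₂ ∉ ({j₁, σ j₁} : Finset ι) ∧ x j₁ ≠ 0 ∧ x j₂ ≠ 0
  · left
    obtain ⟨j₁, hj₁, j₂, hj₂, hd12, hn₁, hn₂⟩ := hin2
    obtain ⟨a₁, ha₁⟩ : ∃ t, t = x j₁ ⬝ᵥ v := ⟨_, rfl⟩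
    obtain ⟨b₁, hb₁⟩ : ∃ t, t = x j₁ ⬝ᵥ w := ⟨_, rfl⟩
    obtain ⟨a₂, ha₂⟩ : ∃ t, t = x j₂ ⬝ᵥ v := ⟨_, rfl⟩
    obtain ⟨b₂, hb₂⟩ : ∃ t, t = x j₂ ⬝ᵥ w := ⟨_, rfl⟩
    by_cases hdet : a₁ * b₂ - a₂ * b₁ = 0
    · exfalso
      have key : ∀ c₁ c₂ : F, c₁ * a₁ + c₂ * a₂ = 0 → c₁ * b₁ + c₂ * b₂ = 0 → c₁ = 0 := by
        intro c₁ c₂ h1 h3
        obtain ⟨p, hp⟩ : ∃ p, p = c₁ • x j₁ + c₂ • x j₂ := ⟨_, rfl⟩
        have hpA : SuppV A p := fun r hr => by
          rw [hp, Pi.add_apply, Pi.smul_apply, Pi.smul_apply, hxP A (Or.inl rfl) j₁ hj₁ r hr,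
            hxP A (Or.inl rfl) j₂ hj₂ r hr]
          simp
        have hpz : act z p = -p := by rw [hp, act_add, act_smul, act_smul, hxz, hxz]; module
        have hp0 := hnz p hpz (hzperp A (Or.inl rfl) p hpA
          (by rw [hp, add_dotProduct, smul_dotProduct, smul_dotProduct, ← ha₁, ← ha₂]; exact h1)
          (by rw [hp, add_dotProduct, smul_dotProduct, smul_dotProduct, ← hb₁, ← hb₂]; exact h3))
        have := congrFun hp0 j₁
        rw [hp, Pi.add_apply, Pi.smul_apply, Pi.smul_apply, (hdis j₁ j₂ hd12).2, smul_zero, add_zero, smul_eq_mul,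
          Pi.zero_apply, mul_eq_zero] at this
        exact this.resolve_right (hxj j₁ hn₁)
      have ha2 : a₂ = 0 := key a₂ (-a₁) (by ring) (by linear_combination -hdet)
      have hb2 : b₂ = 0 := key b₂ (-b₁) (by linear_combination hdet) (by ring)
      exact hn₂ (hnz _ (hxz j₂) (hzperp A (Or.inl rfl) _ (hxP A (Or.inl rfl) j₂ hj₂)
        (by rw [← ha₂, ha2]) (by rw [← hb₂, hb2])))
    · have hv : act z v = -v ∧ act z w = -w := by
        have h1 := hδ j₁
        have h3 := hδ j₂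
        rw [hδU, ← ha₁, ← hb₁] at h1
        rw [hδU, ← ha₂, ← hb₂] at h3
        simp only [act_add, act_smul] at h1 h3
        obtain ⟨V, hV⟩ : ∃ V, V = act z v + v := ⟨_, rfl⟩
        obtain ⟨W, hW⟩ : ∃ W, W = act z w + w := ⟨_, rfl⟩
        have k1 : (2 * a₁) • V + (2 * b₁) • W = 0 := by rw [hV, hW]; linear_combination (norm := module) h1
        have k3 : (2 * a₂) • V + (2 * b₂) • W = 0 := by rw [hV, hW]; linear_combination (norm := module) h3
        have hD : 2 * (a₁ * b₂ - a₂ * b₁) ≠ 0 := mul_ne_zero h2 hdet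
        have zV : V = 0 := by
          refine (smul_eq_zero.1 (show (2 * (a₁ * b₂ - a₂ * b₁)) • V = 0 from ?_)).resolve_left hD
          linear_combination (norm := module) b₂ • k1 - b₁ • k3
        have zW : W = 0 := by
          refine (smul_eq_zero.1 (show (2 * (a₁ * b₂ - a₂ * b₁)) • W = 0 from ?_)).resolve_left hD
          linear_combination (norm := module) a₁ • k3 - a₂ • k1
        rw [hV] at zV
        rw [hW] at zW
        exact ⟨eq_neg_of_add_eq_zero_left zV, eq_neg_of_add_eq_zero_left zW⟩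
      refine hu.mono_of_supp hB (T := A ∪ T') ?_ ?_
      · rw [Finset.card_univ]
        exact lt_of_le_of_lt (Finset.card_union_le _ _) (by omega)
      rintro y ⟨p, p', rfl⟩ r hr
      rw [Finset.mem_union, not_or] at hr
      have h0 : x r = 0 := by by_contra h; exact hr.2 (hT'x r (Finset.mem_compl.2 hr.1) h)
      simp [hxzero r h0 v hv.1, hxzero r h0 w hv.2]
  push Not at hin2
  obtain ⟨T, hT, hTx⟩ := hone A hin2
  obtain ⟨j, hj⟩ : ∃ j, x j ≠ 0 := by
    by_contra h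
    push Not at h
    refine hz1 (gl_ext_bv fun r => ?_)
    have := h r
    rw [hx] at this
    rw [act_one]
    exact (sub_eq_zero.1 this).symm
  obtain ⟨h, hh⟩ : ∃ h, h = x j - act u (x j) := ⟨_, rfl⟩
  have hhU : InU v w h := ⟨_, _, by rw [hh, hδU]⟩
  have hhz : act z h = -h := hh ▸ hδ j
  have hh0 : h ≠ 0 := by
    intro e
    have h1 := hδU (x j)
    rw [← hh, e] at h1
    have e1 := congrArg (· ⬝ᵥ v) h1
    have e2 := congrArg (· ⬝ᵥ w) h1
    simp only [zero_dotProduct, add_dotProduct, smul_dotProduct, hu.v_self, hu.w_self, hu.v_w, dotProduct_comm w v,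
      smul_eq_mul, mul_one, mul_zero, add_zero, zero_add] at e1 e2
    have hxv := (mul_eq_zero.1 e1.symm).resolve_left h2
    have hxw := (mul_eq_zero.1 e2.symm).resolve_left h2
    by_cases hjA : j ∈ A
    · exact hj (hnz _ (hxz j) (hzperp A (Or.inl rfl) _ (hxP A (Or.inl rfl) j hjA) hxv hxw))
    · exact hj (hnz _ (hxz j) (hzperp Aᶜ (Or.inr rfl) _
        (hxP Aᶜ (Or.inr rfl) j (Finset.mem_compl.2 hjA)) hxv hxw))
  refine Or.inr ⟨h, T ∪ T', hhU, (Finset.card_union_le _ _).trans (by omega), fun r hr => ?_, ?_⟩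
  · rw [Finset.mem_union, not_or] at hr
    refine hxzero r ?_ h hhz
    by_contra h0
    by_cases hrA : r ∈ A
    · exact hr.1 (hTx r hrA h0)
    · exact hr.2 (hT'x r (Finset.mem_compl.2 hrA) h0)
  · by_contra hcon
    push Not at hcon
    refine hh0 (hnz h hhz ?_)
    have hhA : SuppV Aᶜ h := fun r hr => hcon r (by simpa using hr)
    rw [hz, act_pow_eig (g := q) (c := (-1 : F)) (by rw [hq, act_mul, hu.act_inU hhU, act_neg, hspos hhA,
      neg_one_smul]), hme.neg_one_pow, one_smul]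

theorem mono_full (hn : 10 ≤ Fintype.card ι) {g : GL ι F} (hg : g ∈ H) {a c : ι} (hac : a ≠ c)
    (hgu : u = g * flp {a, c} * g⁻¹) : Mono u := by
  classical
  obtain ⟨A, -, hA⟩ := Finset.exists_subset_card_eq (s := (Finset.univ : Finset ι)) (n := 4)
    (by rw [Finset.card_univ]; omega)
  rcases hu.four hB hn hg hac hgu hA with h | ⟨h, T, hhU, hT, hhT, r, hr, hr0⟩
  · exact h
  obtain ⟨A', hA's, hA'⟩ := Finset.exists_subset_card_eq (s := Tᶜ) (n := 4) (by rw [Finset.card_compl]; omega)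
  rcases hu.four hB hn hg hac hgu hA' with h' | ⟨h', T', hhU', hT', hhT', r', hr', hr'0⟩
  · exact h'
  refine hu.mono_span hB hhU' hhU (r := r') hr'0 (hhT r' ?_) (fun e => hr0 (by rw [e]; rfl)) (T := T ∪ T') ?_
    (hhT'.mono Finset.subset_union_right) (hhT.mono Finset.subset_union_left)
  · exact Finset.mem_compl.1 (hA's hr')
  · rw [Finset.card_univ]
    exact lt_of_le_of_lt (Finset.card_union_le _ _) (by omega)

end Invol

end CfsgLib.Perm.Trans.OrthFrame
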