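import Mathlib
import Cfsg.Agent.Lib.Perm.Trans.OrthFrame.Full

/-!
# Frame groups in six dimensions: local facts

In a frame group on six coordinates whose proper supports only carry monomial elements, an element commuting with the
sign change of a pair, or moving a coordinate vector to a vector with two coordinates, is monomial.
-/

set_option autoImplicit false
set_option linter.all false

namespace CfsgLib.Perm.Trans.OrthFrame

open scoped Matrix
open Matrix Cfsg.Geo CfsgLib.Perm.Trans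

variable {ι : Type} [Fintype ι] [DecidableEq ι] {F : Type*} [Field F]

theorem flp_inj (h2 : (2 : F) ≠ 0) {D E : Finset ι} (h : (flp D : GL ι F) = flp E) : D = E := by
  have key : ∀ i, (if i ∈ D then (-1 : F) else 1) = if i ∈ E then -1 else 1 := fun i => by
    have h1 := congrArg (fun g : GL ι F => act g (bv i) i) h
    simp only [flp_bv, Pi.smul_apply, smul_eq_mul, bv_apply, if_pos, mul_one] at h1
    exact h1
  ext i
  by_cases hD : i ∈ D <;> by_cases hE : i ∈ E <;> simp only [hD, hE, iff_true, iff_false, not_true, not_false_iff]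
  · have := key i
    rw [if_pos hD, if_neg hE] at this
    exact h2 (by linear_combination -this)
  · have := key i
    rw [if_neg hD, if_pos hE] at this
    exact h2 (by linear_combination this)

theorem flp_univ_comm (g : GL ι F) : g * flp Finset.univ = flp Finset.univ * g := by
  have h : ∀ x : ι → F, act (flp Finset.univ) x = -x := fun x => by
    rw [act_flp]
    funext i
    simp
  exact gl_ext_bv fun i => by rw [act_mul, act_mul, h, h, act_neg]

theorem flp_compl (D : Finset ι) : (flp Dᶜ : GL ι F) = flp Finset.univ * flp D := by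
  rw [flp_mul]
  congr 1
  ext x
  simp [Finset.mem_symmDiff]

theorem commute_compl {g : GL ι F} {D : Finset ι} (h : g * flp D = flp D * g) : g * flp Dᶜ = flp Dᶜ * g := by
  rw [flp_compl, ← mul_assoc, flp_univ_comm, mul_assoc, h, mul_assoc]

theorem suppV_pair {a c : ι} (hac : a ≠ c) {x : ι → F} (h : SuppV {a, c} x) : x = x a • bv a + x c • bv c := by
  funext r
  simp only [Pi.add_apply, Pi.smul_apply, smul_eq_mul, bv_apply]
  rcases eq_or_ne r a with rfl | hra
  · simp [hac]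
  rcases eq_or_ne r c with rfl | hrc
  · simp [hra]
  · simp [hra, hrc, h r (by simp [hra, hrc])]

variable [Fintype F]

theorem exists_normal (h2 : (2 : F) ≠ 0) (g : monoG (ι := ι) (F := F))
    (hg : g.1 ∈ Cfsg.isometryGroup F (stdQ : (ι → F) → F)) : ∃ D, g.1 = pm (mperm g) * flp D := by
  obtain ⟨k, hk⟩ : ∃ k : monoG (ι := ι) (F := F), k = ⟨pm (mperm g)⁻¹, mono_pm _⟩ * g := ⟨_, rfl⟩
  obtain ⟨D, hD⟩ := eq_flp_of_mperm h2 (g := k) (by rw [hk]; exact mul_mem (pm_iso _) hg)
    (by rw [hk, map_mul, mperm_pm, inv_mul_cancel])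
  refine ⟨D, ?_⟩
  rw [← hD, hk, Subgroup.coe_mul, ← mul_assoc, ← map_mul, mul_inv_cancel, map_one, one_mul]

theorem conj_flp_of_mono (h2 : (2 : F) ≠ 0) (g : monoG (ι := ι) (F := F))
    (hg : g.1 ∈ Cfsg.isometryGroup F (stdQ : (ι → F) → F)) (D : Finset ι) :
    g.1 * flp D * g.1⁻¹ = flp (D.map (mperm g).toEmbedding) := by
  obtain ⟨E, hE⟩ := exists_normal h2 g hg
  rw [← pm_conj_flp, map_inv, hE, _root_.mul_inv_rev, flp_inv,
    show pm (mperm g) * flp E * flp D * (flp E * (pm (mperm g))⁻¹) =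
      pm (mperm g) * (flp E * flp D * flp E) * (pm (mperm g))⁻¹ by group,
    flp_comm E D, mul_assoc (flp D), flp_sq, mul_one]

/-- the minimal situation on six coordinates -/
structure SixMin (H : Subgroup (GL ι F)) : Prop where
  min : MinB H Finset.univ
  card : Fintype.card ι = 6
  det : ∀ g ∈ H, (g : Matrix ι ι F).det = 1

variable {H : Subgroup (GL ι F)}

theorem SixMin.two (hS : SixMin H) : (2 : F) ≠ 0 := hS.min.two

theorem SixMin.iso (hS : SixMin H) {g : GL ι F} (hg : g ∈ H) : g ∈ Cfsg.isometryGroup F (stdQ : (ι → F) → F) :=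
  hS.min.frame.le_iso hg

/-- an element carrying a coordinate line to a coordinate line is monomial -/
theorem SixMin.line (hS : SixMin H) {g : GL ι F} (hg : g ∈ H) {j r : ι} {c : F} (h : act g (bv j) = c • bv r) :
    Mono g := by
  rcases eq_or_ne r j with rfl | hrj
  · exact hS.min.mono_of_eig hg (mem_fixOff_univ g) (Finset.mem_univ r) h
  obtain ⟨k, hk, l, hl, hkl⟩ := Finset.one_lt_card.1 (show 1 < ({r, j} : Finset ι)ᶜ.card by
    rw [Finset.card_compl, hS.card, Finset.card_pair hrj]; norm_num)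
  simp only [Finset.mem_compl, Finset.mem_insert, Finset.mem_singleton, not_or] at hk hl
  obtain ⟨σ, hσ⟩ : ∃ σ, σ = Equiv.swap r j * Equiv.swap k l := ⟨_, rfl⟩
  have hσH : pm σ ∈ H := hS.min.frame.pm_mem σ (by
    rw [hσ, map_mul, Equiv.Perm.sign_swap hrj, Equiv.Perm.sign_swap hkl]; rfl)
  have hσr : σ r = j := by
    rw [hσ, Equiv.Perm.mul_apply, Equiv.swap_apply_of_ne_of_ne (Ne.symm hk.1) (Ne.symm hl.1), Equiv.swap_apply_left]
  have h1 : act (pm σ * g) (bv j) = c • bv j := by rw [act_mul, h, act_smul, pm_bv, hσr]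
  have h3 := (mono_pm σ).inv.mul (hS.min.mono_of_eig (mul_mem hσH hg) (mem_fixOff_univ _) (Finset.mem_univ j) h1)
  rwa [inv_mul_cancel_left] at h3

/-- the rotation case of `SixMin.commute_pair` -/
theorem SixMin.mono_of_rot (hS : SixMin H) {a c : ι} (hac : a ≠ c) {h : GL ι F} (hh : h ∈ H)
    (hcom : h * flp {a, c} = flp {a, c} * h) {x y : F} (ha : act h (bv a) = x • bv a + y • bv c)
    (hc : act h (bv c) = (-y) • bv a + x • bv c) : Mono h := by
  classical
  have h2 := hS.two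
  have hgood : ∀ t ∈ H, ∀ r, act t (bv a : ι → F) = bv r → act t (act h (bv a)) = act h (act t (bv a)) →
      Mono (h⁻¹ * t * h) := fun t ht r hr he =>
    hS.line (mul_mem (mul_mem (inv_mem hh) ht) hh) (j := a) (r := r) (c := 1)
      (by rw [act_mul, act_mul, he, act_inv, hr, one_smul])
  have hconj : ∀ t ∈ H, Mono (h⁻¹ * t * h) → ∀ D : Finset ι, ∃ E : Finset ι,
      t * (h * flp D * h⁻¹) * t⁻¹ = h * flp E * h⁻¹ := fun t ht hm D => by
    refine ⟨D.map (mperm (⟨h⁻¹ * t * h, hm⟩ : monoG (ι := ι) (F := F))).toEmbedding, ?_⟩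
    rw [← conj_flp_of_mono h2 ⟨h⁻¹ * t * h, hm⟩ (hS.iso (mul_mem (mul_mem (inv_mem hh) ht) hh)) D]
    group
  have hcomm : ∀ D E : Finset ι,
      h * flp D * h⁻¹ * (h * flp E * h⁻¹) = h * flp E * h⁻¹ * (h * flp D * h⁻¹) := fun D E => by
    rw [show h * flp D * h⁻¹ * (h * flp E * h⁻¹) = h * (flp D * flp E) * h⁻¹ by group, flp_comm]
    group
  have hmapC : ∀ v, SuppV ({a, c} : Finset ι)ᶜ v → SuppV ({a, c} : Finset ι)ᶜ (act h v) :=
    maps_of_commute h2 (commute_compl hcom)
  have hinvP : ∀ v, SuppV ({a, c} : Finset ι) v → SuppV ({a, c} : Finset ι) (act h⁻¹ v) :=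
    maps_of_commute h2 ((show Commute h (flp {a, c}) from hcom).inv_left.eq)
  have hCcard : ({a, c} : Finset ι)ᶜ.card = 4 := by rw [Finset.card_compl, hS.card, Finset.card_pair hac]
  have hd : ∀ k ∈ ({a, c} : Finset ι)ᶜ, ∀ l ∈ ({a, c} : Finset ι)ᶜ, k ≠ l → ∃ D, h * flp {k, l} * h⁻¹ = flp D := by
    intro k hk l hl hkl
    obtain ⟨u, hu⟩ : ∃ u, u = h * flp {k, l} * h⁻¹ := ⟨_, rfl⟩
    have huH : u ∈ H := hu ▸ mul_mem (mul_mem hh (hS.min.frame.flp_mem k l hkl)) (inv_mem hh)
    have hfixP : ∀ v, SuppV ({a, c} : Finset ι) v → act u v = v := fun v hv => by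
      rw [hu, act_mul, act_mul, act_fix_perp (flp_fixOff (subset_refl _)) (x := act h⁻¹ v) (fun r hr => ?_), act_inv']
      rcases Finset.mem_insert.1 hr with rfl | hr
      · exact hinvP v hv _ (Finset.mem_compl.1 hk)
      · rw [Finset.mem_singleton.1 hr]; exact hinvP v hv _ (Finset.mem_compl.1 hl)
    have hua : act u (bv a) = (1 : F) • bv a := by rw [hfixP _ (bv_suppV (by simp)), one_smul]
    have huc : act u (bv c) = (1 : F) • bv c := by rw [hfixP _ (bv_suppV (by simp)), one_smul]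
    obtain ⟨X, hX⟩ : ∃ X : monoG (ι := ι) (F := F), X.1 = u := ⟨⟨u, hS.line huH hua⟩, rfl⟩
    rw [← hu]
    by_cases hp : mperm X = 1
    · obtain ⟨D, hD⟩ := eq_flp_of_mperm h2 (g := X) (by rw [hX]; exact hS.iso huH) hp
      exact ⟨D, by rw [← hX, hD]⟩
    exfalso
    have hπa : mperm X a = a := mperm_eq (c := 1) (by rw [hX]; exact hua)
    have hπc : mperm X c = c := mperm_eq (c := 1) (by rw [hX]; exact huc)
    obtain ⟨a₁, ha₁⟩ : ∃ a₁, mperm X a₁ ≠ a₁ := not_forall.1 fun e => hp (Equiv.ext e)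
    obtain ⟨a₂, ha₂⟩ : ∃ a₂, a₂ = mperm X a₁ := ⟨_, rfl⟩
    have h12 : a₁ ≠ a₂ := fun e => ha₁ (by rw [← ha₂, ← e])
    have h1a : a₁ ≠ a := fun e => ha₁ (by rw [e, hπa])
    have h1c : a₁ ≠ c := fun e => ha₁ (by rw [e, hπc])
    have h2a : a₂ ≠ a := fun e => h1a ((mperm X).injective (by rw [← ha₂, e, hπa]))
    have h2c : a₂ ≠ c := fun e => h1c ((mperm X).injective (by rw [← ha₂, e, hπc]))
    have hu2 : u * u = 1 := by
      rw [hu, show h * flp {k, l} * h⁻¹ * (h * flp {k, l} * h⁻¹) = h * (flp {k, l} * flp {k, l}) * h⁻¹ by group,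
        flp_sq, mul_one, mul_inv_cancel]
    obtain ⟨α, hα0, hα⟩ := mperm_apply X a₁
    rw [← ha₂, hX] at hα
    have hαα : α * α = 1 := by rcases coeff_sq h2 (hS.iso huH) hα with rfl | rfl <;> norm_num
    have hα' : act u (bv a₂) = α • bv a₁ := by
      have e := congrArg (fun v => α • act u v) hα
      simp only [act_smul, smul_smul, hαα, one_smul] at e
      rw [← e, ← act_mul, hu2, act_one]
    obtain ⟨a₃, ha₃, a₄, ha₄, h34⟩ := Finset.one_lt_card.1 (show 1 < ({a, c, a₁, a₂} : Finset ι)ᶜ.card by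
      have := Finset.card_le_four (a := a) (b := c) (c := a₁) (d := a₂)
      rw [Finset.card_compl, hS.card]; omega)
    simp only [Finset.mem_compl, Finset.mem_insert, Finset.mem_singleton, not_or] at ha₃ ha₄
    -- a signed odd permutation and a three-cycle, both commuting with `h` on `a`
    obtain ⟨t, ht⟩ : ∃ t : GL ι F, t = pm (Equiv.swap a₁ a₂ * Equiv.swap a c) * flp {c, a₁} := ⟨_, rfl⟩
    have htH : t ∈ H := ht ▸ mul_mem (hS.min.frame.pm_mem _ (by
      rw [map_mul, Equiv.Perm.sign_swap h12, Equiv.Perm.sign_swap hac]; rfl))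
      (hS.min.frame.flp_mem c a₁ (Ne.symm h1c))
    have t_a : act t (bv a) = bv c := by
      rw [ht, act_mul, flp_bv, if_neg (by simp [hac, Ne.symm h1a]), one_smul, pm_bv, Equiv.Perm.mul_apply,
        Equiv.swap_apply_left, Equiv.swap_apply_of_ne_of_ne (Ne.symm h1c) (Ne.symm h2c)]
    have t_c : act t (bv c) = -bv a := by
      rw [ht, act_mul, flp_bv, if_pos (by simp), neg_one_smul, act_neg, pm_bv, Equiv.Perm.mul_apply,
        Equiv.swap_apply_right, Equiv.swap_apply_of_ne_of_ne (Ne.symm h1a) (Ne.symm h2a)]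
    have t_1 : act t (bv a₁) = -bv a₂ := by
      rw [ht, act_mul, flp_bv, if_pos (by simp), neg_one_smul, act_neg, pm_bv, Equiv.Perm.mul_apply,
        Equiv.swap_apply_of_ne_of_ne h1a h1c, Equiv.swap_apply_left]
    have t_2 : act t (bv a₂) = bv a₁ := by
      rw [ht, act_mul, flp_bv, if_neg (by simp [h2c, Ne.symm h12]), one_smul, pm_bv, Equiv.Perm.mul_apply,
        Equiv.swap_apply_of_ne_of_ne h2a h2c, Equiv.swap_apply_right]
    have t_o : ∀ r, r ≠ a → r ≠ c → r ≠ a₁ → r ≠ a₂ → act t (bv r) = bv r := fun r r1 r2 r3 r4 => by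
      rw [ht, act_mul, flp_bv, if_neg (by simp [r2, r3]), one_smul, pm_bv, Equiv.Perm.mul_apply,
        Equiv.swap_apply_of_ne_of_ne r1 r2, Equiv.swap_apply_of_ne_of_ne r3 r4]
    obtain ⟨σ, hσ⟩ : ∃ σ, σ = Equiv.swap a₂ a₃ * Equiv.swap a₃ a₄ := ⟨_, rfl⟩
    have hσH : pm σ ∈ H := hS.min.frame.pm_mem σ (by
      rw [hσ, map_mul, Equiv.Perm.sign_swap (Ne.symm ha₃.2.2.2), Equiv.Perm.sign_swap h34]; rfl)
    have σ_o : ∀ r, r ≠ a₂ → r ≠ a₃ → r ≠ a₄ → σ r = r := fun r r1 r2 r3 => by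
      rw [hσ, Equiv.Perm.mul_apply, Equiv.swap_apply_of_ne_of_ne r2 r3, Equiv.swap_apply_of_ne_of_ne r1 r2]
    have σ_a := σ_o a (Ne.symm h2a) (Ne.symm ha₃.1) (Ne.symm ha₄.1)
    have σ_c := σ_o c (Ne.symm h2c) (Ne.symm ha₃.2.1) (Ne.symm ha₄.2.1)
    have σ_1 := σ_o a₁ h12 (Ne.symm ha₃.2.2.1) (Ne.symm ha₄.2.2.1)
    have σ_2 : σ a₂ = a₃ := by
      rw [hσ, Equiv.Perm.mul_apply, Equiv.swap_apply_of_ne_of_ne (Ne.symm ha₃.2.2.2) (Ne.symm ha₄.2.2.2),
        Equiv.swap_apply_left]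
    have hmt : Mono (h⁻¹ * t * h) := hgood t htH c t_a (by
      rw [ha, t_a, hc, act_add, act_smul, act_smul, t_a, t_c]; module)
    have hms : Mono (h⁻¹ * pm σ * h) := hgood _ hσH a (by rw [pm_bv, σ_a]) (by
      rw [pm_bv, σ_a, ha, act_add, act_smul, act_smul, pm_bv, pm_bv, σ_a, σ_c])
    obtain ⟨Et, hEt⟩ := hconj t htH hmt {k, l}
    obtain ⟨Es, hEs⟩ := hconj _ hσH hms {k, l}
    rw [← hu] at hEt hEs
    obtain ⟨u', hu'⟩ : ∃ u', u' = t * u * t⁻¹ := ⟨_, rfl⟩
    obtain ⟨w, hw⟩ : ∃ w, w = pm σ * u * (pm σ)⁻¹ := ⟨_, rfl⟩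
    have c1 : u * w = w * u := by rw [hw, hEs, hu]; exact hcomm _ _
    have c2 : u' * w = w * u' := by rw [hu', hw, hEt, hEs]; exact hcomm _ _
    have hu't : ∀ v, act u' (act t v) = act t (act u v) := fun v => by
      rw [hu', act_mul, act_mul, act_inv]
    have hu'1 : act u' (bv a₁) = (-α) • bv a₂ := by
      rw [← t_2, hu't, hα', act_smul, t_1, smul_neg, neg_smul]
    have hu'3 : act u' (bv a₃) = act u (bv a₃) := by
      obtain ⟨d, -, hd⟩ := mperm_apply X a₃
      rw [hX] at hd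
      rw [← t_o a₃ ha₃.1 ha₃.2.1 ha₃.2.2.1 ha₃.2.2.2, hu't, t_o a₃ ha₃.1 ha₃.2.1 ha₃.2.2.1 ha₃.2.2.2, hd,
        act_smul]
      congr 1
      refine t_o _ (fun e => ha₃.1 ((mperm X).injective (e.trans hπa.symm)))
        (fun e => ha₃.2.1 ((mperm X).injective (e.trans hπc.symm))) (fun e => ?_)
        (fun e => ha₃.2.2.1 ((mperm X).injective (e.trans ha₂)))
      refine ha₃.2.2.2 ((mperm X).injective (e.trans ?_))
      exact (mperm_eq (c := α) (by rw [hX]; exact hα')).symm
    have hw1 : act w (bv a₁) = α • bv a₃ := by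
      conv_lhs => rw [← σ_1, ← pm_bv, hw, act_mul, act_mul, act_inv, hα, act_smul, pm_bv, σ_2]
    have e1 := congrArg (fun g : GL ι F => act g (bv a₁)) c1
    have e2 := congrArg (fun g : GL ι F => act g (bv a₁)) c2
    simp only [act_mul, hw1, hα, hu'1, act_smul, hu'3] at e1 e2
    rw [e2] at e1
    refine act_bv_ne_zero w a₂ ((smul_eq_zero.1 (show (2 * α) • act w (bv a₂) = 0 from ?_)).resolve_left
      (mul_ne_zero h2 hα0))
    rw [mul_smul, two_smul]
    nth_rw 1 [← e1]
    rw [neg_smul, neg_add_cancel]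
  obtain ⟨j, hj⟩ := Finset.card_pos.1 (show 0 < ({a, c} : Finset ι)ᶜ.card by omega)
  obtain ⟨i, -, d, hd'⟩ := mono_on_of_diag h2 (by omega) hmapC hd j hj
  exact hS.line hh hd'

/-- an element commuting with the sign change of a pair is monomial -/
theorem SixMin.commute_pair (hS : SixMin H) {g : GL ι F} (hg : g ∈ H) {a c : ι} (hac : a ≠ c)
    (hcom : g * flp {a, c} = flp {a, c} * g) : Mono g := by
  classical
  have h2 := hS.two
  have hmap := maps_of_commute h2 hcom
  obtain ⟨x, y, hA⟩ : ∃ x y : F, act g (bv a) = x • bv a + y • bv c :=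
    ⟨_, _, suppV_pair hac (hmap _ (bv_suppV (by simp)))⟩
  obtain ⟨x', y', hC⟩ : ∃ x' y' : F, act g (bv c) = x' • bv a + y' • bv c :=
    ⟨_, _, suppV_pair hac (hmap _ (bv_suppV (by simp)))⟩
  have e1 := iso_dot h2 (hS.iso hg) (bv a) (bv a)
  have e2 := iso_dot h2 (hS.iso hg) (bv c) (bv c)
  have e3 := iso_dot h2 (hS.iso hg) (bv a) (bv c)
  simp only [hA, hC, add_dotProduct, dotProduct_add, smul_dotProduct, dotProduct_smul, dot_bv, bv_dot, bv_apply,
    Pi.add_apply, Pi.smul_apply, smul_eq_mul, if_pos, hac, Ne.symm hac, if_false, mul_zero, mul_one, add_zero,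
    zero_add] at e1 e2 e3
  obtain ⟨ε, hε⟩ : ∃ ε, ε = x * y' - y * x' := ⟨_, rfl⟩
  have hx' : x' = -ε * y := by rw [hε]; linear_combination (-x') * e1 + x * e3
  have hy' : y' = ε * x := by rw [hε]; linear_combination (-y') * e1 + y * e3
  have hε2 : ε * ε = 1 := by rw [hx', hy'] at e2; linear_combination e2 - ε * ε * e1
  rcases mul_self_eq_one_iff.1 hε2 with rfl | rfl
  · exact hS.mono_of_rot hac hg hcom hA (by rw [hC, hx', hy', neg_mul, one_mul, one_mul])
  · obtain ⟨k, hk⟩ := Finset.card_pos.1 (show 0 < ({a, c} : Finset ι)ᶜ.card by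
      rw [Finset.card_compl, hS.card, Finset.card_pair hac]; norm_num)
    simp only [Finset.mem_compl, Finset.mem_insert, Finset.mem_singleton, not_or] at hk
    have h1 := hS.mono_of_rot hac (mul_mem hg (hS.min.frame.flp_mem c k (Ne.symm hk.2)))
      (by rw [mul_assoc, flp_comm, ← mul_assoc, hcom, mul_assoc])
      (x := x) (y := y) (by rw [act_mul, flp_bv, if_neg (by simp [hac, Ne.symm hk.1]), one_smul, hA])
      (by rw [act_mul, flp_bv, if_pos (by simp), neg_one_smul, act_neg, hC, hx', hy']; module)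
    have h3 := h1.mul (mono_flp {c, k})
    rwa [mul_assoc, flp_sq, mul_one] at h3

/-- pairs and complements of pairs -/
theorem SixMin.commute_good (hS : SixMin H) {g : GL ι F} (hg : g ∈ H) {D : Finset ι} (hD : D.card = 2 ∨ D.card = 4)
    (hcom : g * flp D = flp D * g) : Mono g := by
  rcases hD with hD | hD
  · obtain ⟨a, c, hac, rfl⟩ := Finset.card_eq_two.1 hD
    exact hS.commute_pair hg hac hcom
  · obtain ⟨a, c, hac, hDc⟩ := Finset.card_eq_two.1 (show Dᶜ.card = 2 by rw [Finset.card_compl, hS.card, hD])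
    exact hS.commute_pair hg hac (hDc ▸ commute_compl hcom)

theorem card_eq_of_conj (h2 : (2 : F) ≠ 0) {g : GL ι F} {A D : Finset ι} (he : g * flp A * g⁻¹ = flp D) :
    A.card = D.card := by
  classical
  have hto : ∀ y, SuppV A y → SuppV D (act g y) := fun y hy => by
    rw [← flp_eig h2, ← he, act_mul, act_mul, act_inv, (flp_eig h2).2 hy, act_neg]
  have hback : ∀ y, SuppV D y → SuppV A (act g⁻¹ y) := fun y hy => by
    have h1 : act (g * flp A * g⁻¹) y = -y := by rw [he]; exact (flp_eig h2).2 hy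
    rw [act_mul, act_mul] at h1
    rw [← flp_eig h2, ← act_neg, ← h1, act_inv]
  let eA : ∀ S : Finset ι, {y : ι → F // SuppV S y} ≃ (↥S → F) := fun S =>
    { toFun := fun y r => y.1 r
      invFun := fun f => ⟨fun r => if h : r ∈ S then f ⟨r, h⟩ else 0, fun k hk => dif_neg hk⟩
      left_inv := fun y => Subtype.ext (funext fun r => by
        by_cases h : r ∈ S
        · simp [h]
        · simp [h, y.2 r h])
      right_inv := fun f => funext fun r => by simp [r.2] }
  let eg : {y : ι → F // SuppV A y} ≃ {y : ι → F // SuppV D y} :=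
    { toFun := fun y => ⟨act g y.1, hto _ y.2⟩
      invFun := fun y => ⟨act g⁻¹ y.1, hback _ y.2⟩
      left_inv := fun y => Subtype.ext (act_inv g y.1)
      right_inv := fun y => Subtype.ext (act_inv' g y.1) }
  have h1 := Fintype.card_congr (((eA A).symm.trans eg).trans (eA D))
  rw [Fintype.card_fun, Fintype.card_fun, Fintype.card_coe, Fintype.card_coe] at h1
  exact Nat.pow_right_injective (Fintype.one_lt_card (α := F)) h1

/-- an element carrying the sign change of a pair to a sign change is monomial -/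
theorem SixMin.mono_of_flp_conj (hS : SixMin H) {g : GL ι F} (hg : g ∈ H) {A D : Finset ι}
    (hA : A.card = 2 ∨ A.card = 4) (he : g * flp A * g⁻¹ = flp D) : Mono g := by
  classical
  have hcard := card_eq_of_conj hS.two he
  obtain ⟨σ₀, hσ₀⟩ : ∃ σ : Equiv.Perm ι, A.map σ.toEmbedding = D := by
    refine ⟨(Finset.equivOfCardEq hcard).extendSubtype, Finset.eq_of_subset_of_card_le (fun y hy => ?_)
      (by rw [Finset.card_map, hcard])⟩
    obtain ⟨x, hx, rfl⟩ := Finset.mem_map.1 hy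
    rw [Equiv.coe_toEmbedding]
    exact Equiv.extendSubtype_mem _ x hx
  obtain ⟨σ, hs, hσ⟩ : ∃ σ : Equiv.Perm ι, Equiv.Perm.sign σ = 1 ∧ A.map σ.toEmbedding = D := by
    rcases Int.units_eq_one_or (Equiv.Perm.sign σ₀) with h | h
    · exact ⟨σ₀, h, hσ₀⟩
    · obtain ⟨a, ha, b, hb, hab⟩ := Finset.one_lt_card.1 (show 1 < A.card by omega)
      refine ⟨σ₀ * Equiv.swap a b, by rw [map_mul, h, Equiv.Perm.sign_swap hab]; rfl, ?_⟩
      have hswap : A.map (Equiv.swap a b).toEmbedding = A := by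
        ext x
        rw [Finset.mem_map_equiv, Equiv.symm_swap]
        rcases eq_or_ne x a with rfl | hxa
        · simp [Equiv.swap_apply_left, ha, hb]
        rcases eq_or_ne x b with rfl | hxb
        · simp [Equiv.swap_apply_right, ha, hb]
        rw [Equiv.swap_apply_of_ne_of_ne hxa hxb]
      show A.map ((Equiv.swap a b).toEmbedding.trans σ₀.toEmbedding) = D
      rw [← Finset.map_map, hswap, hσ₀]
  have h3 : pm σ * flp A * (pm σ)⁻¹ = (flp D : GL ι F) := by rw [← map_inv, pm_conj_flp, hσ]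
  have h1 : Mono (g * (pm σ)⁻¹ : GL ι F) := by
    refine hS.commute_good (mul_mem hg (inv_mem (hS.min.frame.pm_mem σ hs))) (D := D) (hcard ▸ hA) ?_
    calc g * (pm σ)⁻¹ * flp D = g * flp A * (pm σ)⁻¹ := by rw [← h3]; group
      _ = flp D * (g * (pm σ)⁻¹) := by rw [← he]; group
  have := h1.mul (mono_pm σ)
  rwa [inv_mul_cancel_right] at this

/-- a quaternion group of permutations of six points fixing one of them is trivial -/
theorem perm_sq_eq_one_of_quaternion (h6 : Fintype.card ι = 6) {p q : Equiv.Perm ι} (hpq : p * p = q * q)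
    (hrel : p * q * p = q) (h4 : p * p * (p * p) = 1) {a : ι} (hpa : p a = a) (hqa : q a = a) : p * p = 1 := by
  by_contra hne
  obtain ⟨x, hx⟩ : ∃ x, p (p x) ≠ x := not_forall.1 fun e => hne (Equiv.ext e)
  have e4 : p (p (p (p x))) = x := Equiv.congr_fun h4 x
  have esq : ∀ y, p (p y) = q (q y) := fun y => Equiv.congr_fun hpq y
  have erel : ∀ y, p (q (p y)) = q y := fun y => Equiv.congr_fun hrel y
  have hxa : x ≠ a := fun e => hx (by rw [e, hpa, hpa])
  have n1 : p x ≠ x := fun e => hx (by rw [e, e])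
  have n3 : p (p (p x)) ≠ x := fun e => n1 (by rw [← e, e4, e])
  have hy2 : p (p (q x)) ≠ q x := fun e => hx (by
    rw [esq] at e
    rw [esq]
    exact q.injective e)
  have hya : q x ≠ a := fun e => hxa (q.injective (by rw [e, hqa]))
  have hy1 : p (q x) ≠ q x := fun e => hy2 (by rw [e, e])
  have hmem : q x = x ∨ q x = p x ∨ q x = p (p x) ∨ q x = p (p (p x)) := by
    by_contra hcon
    simp only [not_or] at hcon
    obtain ⟨m0, m1, m2, m3⟩ := hcon
    have hnd : [x, p x, p (p x), p (p (p x)), q x, p (q x), a].Nodup := by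
      simp only [List.nodup_cons, List.mem_cons, List.not_mem_nil, or_false, not_or, List.nodup_nil, and_true,
        not_false_iff]
      refine ⟨⟨Ne.symm n1, Ne.symm hx, Ne.symm n3, Ne.symm m0, fun e => m3 (p.injective ?_), hxa⟩,
        ⟨fun e => n1 (p.injective e).symm, fun e => hx (p.injective e).symm, Ne.symm m1,
          fun e => m0 (p.injective e).symm, fun e => hxa (p.injective (e.trans hpa.symm))⟩,
        ⟨fun e => n1 (p.injective (p.injective e)).symm, Ne.symm m2, fun e => m1 (p.injective e).symm,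
          fun e => hxa (p.injective (p.injective (by rw [e, hpa, hpa])))⟩,
        ⟨Ne.symm m3, fun e => m2 (p.injective e).symm,
          fun e => hxa (p.injective (p.injective (p.injective (by rw [e, hpa, hpa, hpa]))))⟩,
        ⟨Ne.symm hy1, hya⟩, fun e => hya (p.injective (e.trans hpa.symm))⟩
      rw [e4]; exact e.symm
    have := hnd.length_le_card
    simp [h6] at this
  rcases hmem with e | e | e | e
  · exact hx (by rw [esq, e, e])
  · have h1 := erel x
    rw [e] at h1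
    have h3 : q (q x) = x := by rw [e]; exact p.injective h1
    exact hx (by rw [esq, h3])
  · rw [esq] at e
    have := q.injective e
    exact hx (by rw [esq, ← this, ← this])
  · have h1 := erel x
    rw [e] at h1
    have h3 : q (p x) = q (q x) := by rw [← esq]; exact p.injective h1
    exact hx (p.injective ((q.injective h3).trans e)).symm

/-- an element carrying a coordinate vector to a vector on two coordinates is monomial -/
theorem SixMin.two_supp (hS : SixMin H) {h : GL ι F} (hh : h ∈ H) {a : ι} {R : Finset ι} (hR : R.card = 2)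
    (hx : SuppV R (act h (bv a))) : Mono h := by
  classical
  have h2 := hS.two
  have hC : Rᶜ.card = 4 := by rw [Finset.card_compl, hS.card, hR]
  obtain ⟨k, hk⟩ : ∃ k : Fin 4 → ι, k = fun t => ((Rᶜ.equivFinOfCardEq hC).symm t : ι) := ⟨_, rfl⟩
  have hkmem : ∀ t, k t ∈ Rᶜ := fun t => hk ▸ ((Rᶜ.equivFinOfCardEq hC).symm t).2
  have hkinj : Function.Injective k := hk ▸ Subtype.val_injective.comp (Equiv.injective _)
  have hkne : ∀ s t, s ≠ t → k s ≠ k t := fun s t h h' => h (hkinj h')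
  have hksur : ∀ r ∈ Rᶜ, ∃ t, k t = r := fun r hr => ⟨Rᶜ.equivFinOfCardEq hC ⟨r, hr⟩, by rw [hk]; simp⟩
  obtain ⟨i, hi⟩ : ∃ i : GL ι F, i = pm (Equiv.swap (k 0) (k 1) * Equiv.swap (k 2) (k 3)) * flp {k 1, k 3} :=
    ⟨_, rfl⟩
  obtain ⟨j, hj⟩ : ∃ j : GL ι F, j = pm (Equiv.swap (k 0) (k 2) * Equiv.swap (k 1) (k 3)) * flp {k 1, k 2} :=
    ⟨_, rfl⟩
  have hiH : i ∈ H := hi ▸ mul_mem (hS.min.frame.pm_mem _ (by
    rw [map_mul, Equiv.Perm.sign_swap (hkne 0 1 (by decide)), Equiv.Perm.sign_swap (hkne 2 3 (by decide))]; rfl))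
    (hS.min.frame.flp_mem _ _ (hkne 1 3 (by decide)))
  have hjH : j ∈ H := hj ▸ mul_mem (hS.min.frame.pm_mem _ (by
    rw [map_mul, Equiv.Perm.sign_swap (hkne 0 2 (by decide)), Equiv.Perm.sign_swap (hkne 1 3 (by decide))]; rfl))
    (hS.min.frame.flp_mem _ _ (hkne 1 2 (by decide)))
  have vi : ∀ t, act i (bv (k t)) = ![bv (k 1), -bv (k 0), bv (k 3), -bv (k 2)] t := by
    intro t
    rw [hi, act_mul, flp_bv, act_smul, pm_bv]
    fin_cases t <;> simp [hkinj.eq_iff, Equiv.swap_apply_def]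
  have vj : ∀ t, act j (bv (k t)) = ![bv (k 2), -bv (k 3), -bv (k 0), bv (k 1)] t := by
    intro t
    rw [hj, act_mul, flp_bv, act_smul, pm_bv]
    fin_cases t <;> simp [hkinj.eq_iff, Equiv.swap_apply_def]
  have hfix : ∀ s ∈ ({i, j} : Set (GL ι F)), s ∈ fixOff Rᶜ := by
    intro s hs r hr
    have hr' : ∀ t, r ≠ k t := fun t e => hr (e ▸ hkmem t)
    rcases hs with rfl | rfl
    · rw [hi, act_mul, flp_bv, if_neg (by simp [hr']), one_smul, pm_bv, Equiv.Perm.mul_apply,
        Equiv.swap_apply_of_ne_of_ne (hr' 2) (hr' 3), Equiv.swap_apply_of_ne_of_ne (hr' 0) (hr' 1)]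
    · rw [hj, act_mul, flp_bv, if_neg (by simp [hr']), one_smul, pm_bv, Equiv.Perm.mul_apply,
        Equiv.swap_apply_of_ne_of_ne (hr' 1) (hr' 3), Equiv.swap_apply_of_ne_of_ne (hr' 0) (hr' 2)]
  have hif := hfix i (Or.inl rfl)
  have hjf := hfix j (Or.inr rfl)
  have hext : ∀ g g' : GL ι F, g ∈ fixOff Rᶜ → g' ∈ fixOff Rᶜ →
      (∀ t, act g (bv (k t)) = act g' (bv (k t))) → g = g' := by
    intro g g' hg hg' he
    refine gl_ext_bv fun r => ?_
    by_cases hr : r ∈ Rᶜ
    · obtain ⟨t, rfl⟩ := hksur r hr; exact he t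
    · rw [hg r hr, hg' r hr]
  have hii : i * i = flp Rᶜ := hext _ _ (mul_mem hif hif) (flp_fixOff (subset_refl _)) fun t => by
    rw [act_mul, flp_bv, if_pos (hkmem t), vi t]
    fin_cases t <;> simp [vi, act_neg]
  have hjj : j * j = flp Rᶜ := hext _ _ (mul_mem hjf hjf) (flp_fixOff (subset_refl _)) fun t => by
    rw [act_mul, flp_bv, if_pos (hkmem t), vj t]
    fin_cases t <;> simp [vj, act_neg]
  have hiji : i * j * i = j := hext _ _ (mul_mem (mul_mem hif hjf) hif) hjf fun t => by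
    rw [act_mul, act_mul, vi t, vj t]
    fin_cases t <;> simp [vi, vj, act_neg]
  have hfixx : ∀ s ∈ fixOff Rᶜ, act (h⁻¹ * s * h) (bv a : ι → F) = (1 : F) • bv a := fun s hs => by
    rw [act_mul, act_mul, act_fix_perp hs (fun r hr => hx r (Finset.mem_compl.1 hr)), act_inv, one_smul]
  have hiH' : h⁻¹ * i * h ∈ H := mul_mem (mul_mem (inv_mem hh) hiH) hh
  have hjH' : h⁻¹ * j * h ∈ H := mul_mem (mul_mem (inv_mem hh) hjH) hh
  obtain ⟨I, hI⟩ : ∃ I : monoG (ι := ι) (F := F), I.1 = h⁻¹ * i * h := ⟨⟨_, hS.line hiH' (hfixx i hif)⟩, rfl⟩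
  obtain ⟨J, hJ⟩ : ∃ J : monoG (ι := ι) (F := F), J.1 = h⁻¹ * j * h := ⟨⟨_, hS.line hjH' (hfixx j hjf)⟩, rfl⟩
  have hsq : mperm I * mperm I = 1 := by
    refine perm_sq_eq_one_of_quaternion hS.card (q := mperm J) ?_ ?_ ?_
      (mperm_eq (c := 1) (by rw [hI]; exact hfixx i hif)) (mperm_eq (c := 1) (by rw [hJ]; exact hfixx j hjf))
    · rw [← map_mul, ← map_mul]
      refine congrArg _ (Subtype.ext ?_)
      rw [Subgroup.coe_mul, Subgroup.coe_mul, hI, hJ,
        show h⁻¹ * i * h * (h⁻¹ * i * h) = h⁻¹ * (i * i) * h by group,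
        show h⁻¹ * j * h * (h⁻¹ * j * h) = h⁻¹ * (j * j) * h by group, hii, hjj]
    · rw [← map_mul, ← map_mul]
      refine congrArg _ (Subtype.ext ?_)
      rw [Subgroup.coe_mul, Subgroup.coe_mul, hI, hJ,
        show h⁻¹ * i * h * (h⁻¹ * j * h) * (h⁻¹ * i * h) = h⁻¹ * (i * j * i) * h by group, hiji]
    · rw [← map_mul, ← map_mul, show I * I * (I * I) = 1 from Subtype.ext ?_, map_one]
      simp only [Subgroup.coe_mul, hI, OneMemClass.coe_one]
      rw [show h⁻¹ * i * h * (h⁻¹ * i * h) * (h⁻¹ * i * h * (h⁻¹ * i * h)) = h⁻¹ * (i * i * (i * i)) * h by group,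
        hii, flp_sq, mul_one, inv_mul_cancel]
  obtain ⟨D, hD⟩ := eq_flp_of_mperm h2 (g := I * I)
    (by rw [Subgroup.coe_mul, hI]; exact hS.iso (mul_mem hiH' hiH')) (by rw [map_mul, hsq])
  rw [Subgroup.coe_mul, hI, show h⁻¹ * i * h * (h⁻¹ * i * h) = h⁻¹ * (i * i) * h by group, hii] at hD
  have h1 := (hS.mono_of_flp_conj (inv_mem hh) (A := Rᶜ) (Or.inr hC) (by rw [inv_inv]; exact hD)).inv
  rwa [inv_inv] at h1

end CfsgLib.Perm.Trans.OrthFrame
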