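import Mathlib
import Cfsg.Agent.Lib.Perm.Trans.OrthFrame.SixLocal
import Cfsg.Agent.Lib.Invol.ZStar
import Cfsg.Agent.Lib.Coprime.Core

/-!
# Frame groups in six dimensions with monomial proper supports are monomial

Monomial conjugates of pair sign changes force monomiality; the centralisers of monomial involutions are monomial by
Glauberman's Z*-theorem; a dihedral argument does the rest.
-/

set_option autoImplicit false
set_option linter.all false

namespace CfsgLib.Perm.Trans.OrthFrame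

open scoped Matrix
open Matrix Cfsg.Geo CfsgLib.Perm.Trans

variable {ι : Type} [Fintype ι] [DecidableEq ι] {F : Type*} [Field F] [Fintype F] {H : Subgroup (GL ι F)}

/-- an order three permutation commuting with a double transposition of six points is trivial -/
theorem perm_eq_one_of_three (h6 : Fintype.card ι = 6) {π ρ : Equiv.Perm ι} {r₁ s₁ r₂ s₂ : ι}
    (hnd : [r₁, s₁, r₂, s₂].Nodup) (h1 : π r₁ = s₁) (h2 : π s₁ = r₁) (h3 : π r₂ = s₂) (h4 : π s₂ = r₂)
    (hfix : ∀ t, t ∉ ({r₁, s₁, r₂, s₂} : Finset ι) → π t = t) (hρ : ρ * ρ * ρ = 1) (hc : π * ρ = ρ * π) :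
    ρ = 1 := by
  obtain ⟨four, hfour⟩ : ∃ four : Finset ι, four = {r₁, s₁, r₂, s₂} := ⟨_, rfl⟩
  rw [← hfour] at hfix
  simp only [List.nodup_cons, List.mem_cons, List.not_mem_nil, or_false, not_or, List.nodup_nil, and_true,
    not_false_iff] at hnd
  have hmov : ∀ t ∈ four, π t ≠ t := fun t ht => by
    simp only [hfour, Finset.mem_insert, Finset.mem_singleton] at ht
    rcases ht with rfl | rfl | rfl | rfl
    · rw [h1]; exact Ne.symm hnd.1.1
    · rw [h2]; exact hnd.1.1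
    · rw [h3]; exact Ne.symm hnd.2.2
    · rw [h4]; exact hnd.2.2
  have hcomm : ∀ y, π (ρ y) = ρ (π y) := fun y => Equiv.congr_fun hc y
  have hiff : ∀ y, ρ y ∈ four ↔ y ∈ four := fun y => by
    refine ⟨fun h => by_contra fun hy => hmov _ h (by rw [hcomm, hfix y hy]), fun h => by_contra fun hy => ?_⟩
    exact hmov y h (ρ.injective (by rw [← hcomm, hfix _ hy]))
  refine Equiv.ext fun x => by_contra fun hne => ?_
  rw [Equiv.Perm.one_apply] at hne
  have e3 : ρ (ρ (ρ x)) = x := Equiv.congr_fun hρ x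
  have n2 : ρ (ρ x) ≠ x := fun e => hne (by rw [e] at e3; exact e3)
  have n12 : ρ x ≠ ρ (ρ x) := fun e => hne (ρ.injective e).symm
  have hf4 : four.card = 4 := by
    rw [hfour, Finset.card_insert_of_notMem (by simp [hnd.1]), Finset.card_insert_of_notMem (by simp [hnd.2.1]),
      Finset.card_pair hnd.2.2]
  by_cases hx : x ∈ four
  · have hπx : π x ∈ four := by_contra fun h => hmov x hx (π.injective (hfix _ h))
    have hm1 : π x ≠ ρ x := fun e => by
      have h' : π (π x) = π (ρ x) := by rw [e]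
      have hππ : π (π x) = x := by
        simp only [hfour, Finset.mem_insert, Finset.mem_singleton] at hx
        rcases hx with rfl | rfl | rfl | rfl <;> simp [h1, h2, h3, h4]
      rw [hππ, hcomm, e] at h'
      exact n2 h'.symm
    have hm2 : π x ≠ ρ (ρ x) := fun e => by
      have h' : π (π x) = π (ρ (ρ x)) := by rw [e]
      have hππ : π (π x) = x := by
        simp only [hfour, Finset.mem_insert, Finset.mem_singleton] at hx
        rcases hx with rfl | rfl | rfl | rfl <;> simp [h1, h2, h3, h4]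
      rw [hππ, hcomm, hcomm, e, e3] at h'
      exact hne h'.symm
    have hsub : ({x, ρ x, ρ (ρ x), π x} : Finset ι) ⊆ four := by
      simp [Finset.insert_subset_iff, hx, (hiff x).2 hx, (hiff _).2 ((hiff x).2 hx), hπx]
    have hcard : ({x, ρ x, ρ (ρ x), π x} : Finset ι).card = 4 := by
      rw [Finset.card_insert_of_notMem (by simp [Ne.symm hne, Ne.symm n2, Ne.symm (hmov x hx)]),
        Finset.card_insert_of_notMem (by simp [n12, Ne.symm hm1]), Finset.card_pair (Ne.symm hm2)]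
    have h' : π (ρ x) ∈ ({x, ρ x, ρ (ρ x), π x} : Finset ι) := by
      rw [Finset.eq_of_subset_of_card_le hsub (by omega)]
      exact by_contra fun h => hmov _ ((hiff x).2 hx) (π.injective (hfix _ h))
    simp only [Finset.mem_insert, Finset.mem_singleton] at h'
    rcases h' with h' | h' | h' | h'
    · rw [hcomm] at h'
      exact hm2 (ρ.injective (h'.trans e3.symm))
    · exact hmov _ ((hiff x).2 hx) h'
    · rw [hcomm] at h'
      exact hm1 (ρ.injective h')
    · exact hne (π.injective h')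
  · have hsub : ({x, ρ x, ρ (ρ x)} : Finset ι) ⊆ fourᶜ := by
      simp [Finset.insert_subset_iff, hx, hiff]
    have hcard : ({x, ρ x, ρ (ρ x)} : Finset ι).card = 3 := by
      rw [Finset.card_insert_of_notMem (by simp [Ne.symm hne, Ne.symm n2]), Finset.card_pair n12]
    have := Finset.card_le_card hsub
    rw [hcard, Finset.card_compl, h6, hf4] at this
    omega

/-- a monomial conjugate of a pair sign change is a double transposition supported by the pair's image -/
structure Dbl (x : monoG (ι := ι) (F := F)) (v w : ι → F) (r₁ s₁ r₂ s₂ : ι) : Prop where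
  nodup : [r₁, s₁, r₂, s₂].Nodup
  p₁ : mperm x r₁ = s₁
  q₁ : mperm x s₁ = r₁
  p₂ : mperm x r₂ = s₂
  q₂ : mperm x s₂ = r₂
  fix : ∀ t, t ∉ ({r₁, s₁, r₂, s₂} : Finset ι) → mperm x t = t
  supp : SuppV {r₁, s₁, r₂, s₂} v
  supp' : SuppV {r₁, s₁, r₂, s₂} w
  eq₁ : v s₁ ^ 2 = v r₁ ^ 2
  eq₂ : v s₂ ^ 2 = v r₂ ^ 2

theorem SixMin.dbl_or_mono (hS : SixMin H) {g : GL ι F} (hg : g ∈ H) {a c : ι} (hac : a ≠ c)
    (x : monoG (ι := ι) (F := F)) (hx : x.1 = g * flp {a, c} * g⁻¹) :
    Mono g ∨ ∃ r₁ s₁ r₂ s₂, Dbl x (act g (bv a)) (act g (bv c)) r₁ s₁ r₂ s₂ := by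
  classical
  have h2 := hS.two
  have hu := Invol.conj h2 hS.min.frame hg (mem_fixOff_univ g) (Finset.mem_univ a) (Finset.mem_univ c) hac
  obtain ⟨v, hvdef⟩ : ∃ v, v = act g (bv a : ι → F) := ⟨_, rfl⟩
  obtain ⟨w, hwdef⟩ : ∃ w, w = act g (bv c : ι → F) := ⟨_, rfl⟩
  rw [← hvdef, ← hwdef, ← hx] at hu
  rw [← hvdef, ← hwdef]
  have hxiso := hS.iso hu.mem
  by_cases hp : mperm x = 1
  · obtain ⟨D, hD⟩ := eq_flp_of_mperm h2 hxiso hp
    exact Or.inl (hS.mono_of_flp_conj hg (Or.inl (Finset.card_pair hac)) (hx.symm.trans hD))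
  obtain ⟨π, hπ⟩ : ∃ π, π = mperm x := ⟨_, rfl⟩
  rw [← hπ] at hp
  have hππ : ∀ r, π (π r) = r := fun r => by
    rw [hπ, ← Equiv.Perm.mul_apply, ← map_mul, show x * x = 1 from Subtype.ext hu.sq, map_one, Equiv.Perm.one_apply]
  have hvU : InU v w v := ⟨1, 0, by simp⟩
  have hwU : InU v w w := ⟨0, 1, by simp⟩
  have hanti : ∀ y, InU v w y → ∀ r d, act x.1 (bv r) = d • bv (π r) → d * d = 1 ∧ y (π r) = -(d * y r) := by
    intro y hy r d hd
    have hdd : d * d = 1 := by rcases coeff_sq h2 hxiso hd with rfl | rfl <;> norm_num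
    refine ⟨hdd, ?_⟩
    have h1 := iso_dot h2 hxiso (bv r) y
    rw [hd, hu.act_inU hy, smul_dotProduct, dotProduct_neg, bv_dot, bv_dot, smul_eq_mul] at h1
    linear_combination (-d) * h1 - y (π r) * hdd
  have hsq : ∀ y, InU v w y → ∀ r, y (π r) ^ 2 = y r ^ 2 := fun y hy r => by
    obtain ⟨d, -, hd⟩ := mperm_apply x r
    rw [← hπ] at hd
    obtain ⟨h1, h3⟩ := hanti y hy r d hd
    rw [h3]
    linear_combination (y r ^ 2) * h1
  have hvec : ∀ r, π r ≠ r → ∃ y, InU v w y ∧ y r = 1 ∧ SuppV {r, π r} y := by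
    intro r hr
    obtain ⟨d, -, hd⟩ := mperm_apply x r
    rw [← hπ] at hd
    refine ⟨bv r - d • bv (π r), ?_, ?_, fun k hk => ?_⟩
    · rw [← hd, hu.formula]
      exact ⟨2 * (bv r ⬝ᵥ v), 2 * (bv r ⬝ᵥ w), by module⟩
    · simp [bv_apply, Ne.symm hr]
    · simp only [Finset.mem_insert, Finset.mem_singleton, not_or] at hk
      simp [bv_apply, hk.1, hk.2]
  obtain ⟨r₁, hr₁⟩ : ∃ r, π r ≠ r := not_forall.1 fun h => hp (Equiv.ext h)
  by_cases hA : ∀ t, t ∉ ({r₁, π r₁} : Finset ι) → π t = t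
  · -- one transposition
    left
    by_cases hneg : ∃ t, t ∉ ({r₁, π r₁} : Finset ι) ∧ act x.1 (bv t) = -bv t
    · obtain ⟨t, -, ht⟩ := hneg
      rw [hu.formula, bv_dot, bv_dot] at ht
      have e : (bv t : ι → F) = v t • v + w t • w :=
        smul_right_injective (ι → F) h2 (show (2 : F) • (bv t : ι → F) = (2 : F) • (v t • v + w t • w) by
          rw [smul_add, smul_smul, smul_smul, two_smul]
          linear_combination (norm := module) ht)
      have h1 := (hS.two_supp (inv_mem hg) (a := t) (R := {a, c}) (Finset.card_pair hac) (fun k hk => by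
        rw [e, act_add, act_smul, act_smul, hvdef, hwdef, act_inv, act_inv]
        simp only [Finset.mem_insert, Finset.mem_singleton, not_or] at hk
        simp [bv_apply, hk.1, hk.2])).inv
      rwa [inv_inv] at h1
    exfalso
    push Not at hneg
    have hsupp : ∀ y, InU v w y → SuppV {r₁, π r₁} y := fun y hy t ht => by
      obtain ⟨d, -, hd⟩ := mperm_apply x t
      rw [← hπ] at hd
      obtain ⟨-, h1⟩ := hanti y hy t d hd
      rw [hA t ht] at hd h1
      rcases coeff_sq h2 hxiso hd with rfl | rfl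
      · exact (mul_eq_zero.1 (show (2 : F) * y t = 0 by linear_combination h1)).resolve_left h2
      · exact absurd (by rw [hd, neg_one_smul]) (hneg t ht)
    obtain ⟨d, -, hd⟩ := mperm_apply x r₁
    rw [← hπ] at hd
    have hne : r₁ ≠ π r₁ := Ne.symm hr₁
    obtain ⟨hdd, av⟩ := hanti v hvU r₁ d hd
    obtain ⟨-, aw⟩ := hanti w hwU r₁ d hd
    have hsum : ∀ y z : ι → F, SuppV {r₁, π r₁} y → y ⬝ᵥ z = y r₁ * z r₁ + y (π r₁) * z (π r₁) := fun y z hy => by
      rw [dotProduct, ← Finset.sum_subset (Finset.subset_univ {r₁, π r₁})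
        (fun k _ hk => by rw [hy k hk, zero_mul]), Finset.sum_pair hne]
    have e1 := hu.v_self
    have e2 := hu.w_self
    have e3 := hu.v_w
    rw [hsum v v (hsupp v hvU), av] at e1
    rw [hsum w w (hsupp w hwU), aw] at e2
    rw [hsum v w (hsupp v hvU), av, aw] at e3
    have e4 : (2 * (v r₁ * w r₁)) * (2 * (v r₁ * w r₁)) = (1 : F) := by
      linear_combination (w r₁ * w r₁ * 2) * e1 + e2 - (2 * w r₁ ^ 2 * v r₁ ^ 2 + w r₁ ^ 2) * hdd
    have e5 : 2 * (v r₁ * w r₁) = (0 : F) := by linear_combination e3 - v r₁ * w r₁ * hdd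
    rw [e5, mul_zero] at e4
    exact zero_ne_one e4
  -- two transpositions
  right
  push Not at hA
  obtain ⟨r₂, hr₂₁, hr₂⟩ := hA
  simp only [Finset.mem_insert, Finset.mem_singleton, not_or] at hr₂₁
  have hs21 : π r₂ ≠ r₁ := fun e => hr₂₁.2 (by rw [← e, hππ])
  have hs22 : π r₂ ≠ π r₁ := fun e => hr₂₁.1 (π.injective e)
  obtain ⟨y₁, hy₁U, h11, hs1⟩ := hvec r₁ hr₁
  obtain ⟨y₂, hy₂U, h22, hs2⟩ := hvec r₂ hr₂
  have h12 : y₁ r₂ = 0 := hs1 r₂ (by simp [hr₂₁.1, hr₂₁.2])
  have h21 : y₂ r₁ = 0 := hs2 r₁ (by simp [Ne.symm hr₂₁.1, Ne.symm hs21])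
  obtain ⟨a₁, b₁, e₁⟩ := hy₁U
  obtain ⟨a₂, b₂, e₂⟩ := hy₂U
  have hdec : ∀ y, InU v w y → y = y r₁ • y₁ + y r₂ • y₂ := by
    rintro y ⟨α, β, rfl⟩
    obtain ⟨A, hAdef⟩ : ∃ A, A = α - (α • v + β • w) r₁ * a₁ - (α • v + β • w) r₂ * a₂ := ⟨_, rfl⟩
    obtain ⟨B, hBdef⟩ : ∃ B, B = β - (α • v + β • w) r₁ * b₁ - (α • v + β • w) r₂ * b₂ := ⟨_, rfl⟩
    have k11 : a₁ * v r₁ + b₁ * w r₁ = 1 := by rw [← h11, e₁]; simp
    have k12 : a₁ * v r₂ + b₁ * w r₂ = 0 := by rw [← h12, e₁]; simp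
    have k21 : a₂ * v r₁ + b₂ * w r₁ = 0 := by rw [← h21, e₂]; simp
    have k22 : a₂ * v r₂ + b₂ * w r₂ = 1 := by rw [← h22, e₂]; simp
    simp only [Pi.add_apply, Pi.smul_apply, smul_eq_mul] at hAdef hBdef
    have z1 : A * v r₁ + B * w r₁ = 0 := by
      rw [hAdef, hBdef]
      linear_combination -(α * v r₁ + β * w r₁) * k11 - (α * v r₂ + β * w r₂) * k21
    have z2 : A * v r₂ + B * w r₂ = 0 := by
      rw [hAdef, hBdef]
      linear_combination -(α * v r₁ + β * w r₁) * k12 - (α * v r₂ + β * w r₂) * k22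
    have hD : (a₁ * b₂ - a₂ * b₁) * (v r₁ * w r₂ - v r₂ * w r₁) = 1 := by
      linear_combination (a₂ * v r₂ + b₂ * w r₂) * k11 + k22 - (a₂ * v r₁ + b₂ * w r₁) * k12
    have hA0 : A = 0 := by
      linear_combination ((a₁ * b₂ - a₂ * b₁) * w r₂) * z1 - ((a₁ * b₂ - a₂ * b₁) * w r₁) * z2 - A * hD
    have hB0 : B = 0 := by
      linear_combination ((a₁ * b₂ - a₂ * b₁) * v r₁) * z2 - ((a₁ * b₂ - a₂ * b₁) * v r₂) * z1 - B * hD
    have hα : α = (α * v r₁ + β * w r₁) * a₁ + (α * v r₂ + β * w r₂) * a₂ := by linear_combination hA0 - hAdef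
    have hβ : β = (α * v r₁ + β * w r₁) * b₁ + (α * v r₂ + β * w r₂) * b₂ := by linear_combination hB0 - hBdef
    funext r
    simp only [e₁, e₂, Pi.add_apply, Pi.smul_apply, smul_eq_mul]
    linear_combination (v r) * hα + (w r) * hβ
  have hsuppU : ∀ y, InU v w y → SuppV {r₁, π r₁, r₂, π r₂} y := fun y hy k hk => by
    simp only [Finset.mem_insert, Finset.mem_singleton, not_or] at hk
    rw [hdec y hy]
    simp [hs1 k (by simp [hk.1, hk.2.1]), hs2 k (by simp [hk.2.2.1, hk.2.2.2])]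
  refine ⟨r₁, π r₁, r₂, π r₂, ⟨?_, by rw [hπ], by rw [← hπ]; exact hππ r₁, by rw [hπ], by rw [← hπ]; exact hππ r₂,
    fun t ht => ?_, hsuppU v hvU, hsuppU w hwU, hsq v hvU r₁, hsq v hvU r₂⟩⟩
  · simp [Ne.symm hr₁, Ne.symm hr₂₁.1, Ne.symm hs21, Ne.symm hr₂₁.2, Ne.symm hs22, Ne.symm hr₂]
  · rw [← hπ]
    by_contra hne
    obtain ⟨y₃, hy₃U, h33, -⟩ := hvec t hne
    rw [hsuppU y₃ hy₃U t ht] at h33
    exact zero_ne_one h33

/-- monomial conjugates of an element of order three and of a commuting pair sign change -/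
theorem SixMin.mono_of_tau (hS : SixMin H) {g : GL ι F} (hg : g ∈ H) {a c : ι} (hac : a ≠ c) {τ : GL ι F}
    (hτ : τ ∈ H) (hu : Mono (g * flp {a, c} * g⁻¹)) (ht : Mono (g * τ * g⁻¹)) (hc : τ * flp {a, c} = flp {a, c} * τ)
    (h3 : τ * τ * τ = 1) (hτ2 : τ * τ ≠ 1) : Mono g := by
  obtain ⟨x, hx⟩ : ∃ x : monoG (ι := ι) (F := F), x.1 = g * flp {a, c} * g⁻¹ := ⟨⟨_, hu⟩, rfl⟩
  rcases hS.dbl_or_mono hg hac x hx with h | ⟨r₁, s₁, r₂, s₂, hd⟩
  · exact h
  exfalso
  obtain ⟨T, hT⟩ : ∃ T : monoG (ι := ι) (F := F), T.1 = g * τ * g⁻¹ := ⟨⟨_, ht⟩, rfl⟩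
  have hρ : mperm T = 1 := by
    refine perm_eq_one_of_three hS.card hd.nodup hd.p₁ hd.q₁ hd.p₂ hd.q₂ hd.fix ?_ ?_
    · rw [← map_mul, ← map_mul, show T * T * T = 1 from Subtype.ext ?_, map_one]
      simp only [Subgroup.coe_mul, hT, OneMemClass.coe_one]
      rw [show g * τ * g⁻¹ * (g * τ * g⁻¹) * (g * τ * g⁻¹) = g * (τ * τ * τ) * g⁻¹ by group, h3, mul_one,
        mul_inv_cancel]
    · rw [← map_mul, ← map_mul]
      refine congrArg _ (Subtype.ext ?_)
      simp only [Subgroup.coe_mul, hx, hT]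
      rw [show g * flp {a, c} * g⁻¹ * (g * τ * g⁻¹) = g * (flp {a, c} * τ) * g⁻¹ by group, ← hc]
      group
  obtain ⟨D, hD⟩ := eq_flp_of_mperm hS.two (g := T)
    (by rw [hT]; exact hS.iso (mul_mem (mul_mem hg hτ) (inv_mem hg))) hρ
  rw [hT] at hD
  apply hτ2
  have e := flp_sq (F := F) D
  rw [← hD, show g * τ * g⁻¹ * (g * τ * g⁻¹) = g * (τ * τ) * g⁻¹ by group] at e
  have e' := congrArg (fun y => g⁻¹ * y * g) e
  simpa [mul_assoc] using e'

theorem card_symmDiff_add (A B : Finset ι) : (symmDiff A B).card + 2 * (A ∩ B).card = A.card + B.card := by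
  have h1 := Finset.card_sdiff_add_card_inter A B
  have h2 := Finset.card_sdiff_add_card_inter B A
  rw [Finset.inter_comm B A] at h2
  rw [show symmDiff A B = (A \ B) ∪ (B \ A) by ext; simp [Finset.mem_symmDiff], Finset.card_union_of_disjoint
    (Finset.disjoint_left.2 fun y hy hy' => (Finset.mem_sdiff.1 hy).2 (Finset.mem_sdiff.1 hy').1)]
  omega

/-- a monomial conjugate of the sign change of a pair only comes from monomial elements -/
theorem SixMin.mono_of_conj_pair (hS : SixMin H) {g : GL ι F} (hg : g ∈ H) {a c : ι} (hac : a ≠ c)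
    (hu : Mono (g * flp {a, c} * g⁻¹)) : Mono g := by
  classical
  have h2 := hS.two
  obtain ⟨x, hx⟩ : ∃ x : monoG (ι := ι) (F := F), x.1 = g * flp {a, c} * g⁻¹ := ⟨⟨_, hu⟩, rfl⟩
  rcases hS.dbl_or_mono hg hac x hx with h | ⟨r₁, s₁, r₂, s₂, hd⟩
  · exact h
  obtain ⟨v, hv⟩ : ∃ v, v = act g (bv a : ι → F) := ⟨_, rfl⟩
  have hnd := hd.nodup
  simp only [List.nodup_cons, List.mem_cons, List.not_mem_nil, or_false, not_or, List.nodup_nil, and_true,
    not_false_iff] at hnd
  obtain ⟨⟨n12, n13, n14⟩, ⟨n23, n24⟩, n34⟩ := hnd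
  have hvs : SuppV {r₁, s₁, r₂, s₂} v := hv ▸ hd.supp
  have q1 : v s₁ ^ 2 = v r₁ ^ 2 := hv ▸ hd.eq₁
  have q2 : v s₂ ^ 2 = v r₂ ^ 2 := hv ▸ hd.eq₂
  have two_supp' : ∀ r s, r ≠ s → SuppV {r, s} v → Mono g := fun r s hrs h =>
    hS.two_supp hg (a := a) (Finset.card_pair hrs) (hv ▸ h)
  have hfour : ∀ z : ι → F, v ⬝ᵥ z = v r₁ * z r₁ + v s₁ * z s₁ + v r₂ * z r₂ + v s₂ * z s₂ := fun z => by
    rw [dotProduct, ← Finset.sum_subset (Finset.subset_univ {r₁, s₁, r₂, s₂})
      (fun k _ hk => by rw [hvs k hk, zero_mul]), Finset.sum_insert (by simp [n12, n13, n14]),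
      Finset.sum_insert (by simp [n23, n24]), Finset.sum_pair n34]
    ring
  have hxiso : x.1 ∈ Cfsg.isometryGroup F (stdQ : (ι → F) → F) :=
    hx ▸ hS.iso (mul_mem (mul_mem hg (hS.min.frame.flp_mem a c hac)) (inv_mem hg))
  -- the sign change of the first pair centralises the conjugate
  have hR : x.1 * flp {r₁, s₁} = flp {r₁, s₁} * x.1 := by
    rw [← mul_inv_eq_iff_eq_mul, conj_flp_of_mono h2 x hxiso]
    congr 1
    rw [Finset.map_insert, Finset.map_singleton, Equiv.coe_toEmbedding, hd.p₁, hd.q₁, Finset.pair_comm]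
  have hz : Mono (g⁻¹ * flp {r₁, s₁} * g) :=
    hS.commute_pair (mul_mem (mul_mem (inv_mem hg) (hS.min.frame.flp_mem _ _ n12)) hg) hac (by
      have e := congrArg (fun y => g⁻¹ * y * g) hR
      simp only [hx] at e
      calc g⁻¹ * flp {r₁, s₁} * g * flp {a, c} = g⁻¹ * (flp {r₁, s₁} * (g * flp {a, c} * g⁻¹)) * g := by group
        _ = g⁻¹ * (g * flp {a, c} * g⁻¹ * flp {r₁, s₁}) * g := e.symm
        _ = flp {a, c} * (g⁻¹ * flp {r₁, s₁} * g) := by group)
  obtain ⟨i, k, hk⟩ := hz a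
  have hflp : act (flp {r₁, s₁}) v = k • act g (bv i) := by
    have e := congrArg (act g) hk
    rw [act_mul, act_mul, act_inv', act_smul, ← hv] at e
    exact e
  rw [act_flp] at hflp
  by_cases hia : i = a
  · rw [hia, ← hv] at hflp
    have f1 := congrFun hflp r₁
    have f2 := congrFun hflp r₂
    simp [Ne.symm n13, Ne.symm n23] at f1 f2
    by_cases hr1 : v r₁ = 0
    · refine two_supp' r₂ s₂ n34 fun t ht => ?_
      simp only [Finset.mem_insert, Finset.mem_singleton, not_or] at ht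
      by_cases h : t ∈ ({r₁, s₁, r₂, s₂} : Finset ι)
      · simp only [Finset.mem_insert, Finset.mem_singleton, ht.1, ht.2, or_false] at h
        rcases h with rfl | rfl
        · exact hr1
        · rw [hr1] at q1; simpa using q1
      · exact hvs t h
    · have hk1 : k = -1 := mul_right_cancel₀ hr1 (by linear_combination -f1)
      have hr2 : v r₂ = 0 :=
        (mul_eq_zero.1 (show (2 : F) * v r₂ = 0 by rw [hk1] at f2; linear_combination f2)).resolve_left h2
      refine two_supp' r₁ s₁ n12 fun t ht => ?_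
      simp only [Finset.mem_insert, Finset.mem_singleton, not_or] at ht
      by_cases h : t ∈ ({r₁, s₁, r₂, s₂} : Finset ι)
      · simp only [Finset.mem_insert, Finset.mem_singleton, ht.1, ht.2, false_or] at h
        rcases h with rfl | rfl
        · exact hr2
        · rw [hr2] at q2; simpa using q2
      · exact hvs t h
  have e := congrArg (fun z => v ⬝ᵥ z) hflp
  simp only [dotProduct_smul, smul_eq_mul] at e
  rw [show v ⬝ᵥ act g (bv i) = 0 by rw [hv, iso_dot h2 (hS.iso hg), bv_dot, bv_apply, if_neg (Ne.symm hia)],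
    mul_zero, hfour] at e
  simp [Ne.symm n13, Ne.symm n23, Ne.symm n14, Ne.symm n24] at e
  have heq : v r₂ ^ 2 = v r₁ ^ 2 := mul_left_cancel₀ h2 (by linear_combination e - q2 + q1)
  have hnorm : v ⬝ᵥ v = 1 := by rw [hv, iso_dot h2 (hS.iso hg), bv_dot, bv_apply, if_pos rfl]
  rw [hfour] at hnorm
  obtain ⟨α, hαdef⟩ : ∃ α, α = v r₁ := ⟨_, rfl⟩
  rw [← hαdef] at q1 heq
  have hα0 : α ≠ 0 := fun e0 => by
    rw [e0, zero_pow two_ne_zero] at q1 heq
    rw [heq] at q2
    rw [← hαdef, e0, eq_zero_of_pow_eq_zero q1, eq_zero_of_pow_eq_zero q2, eq_zero_of_pow_eq_zero heq] at hnorm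
    simp at hnorm
  have hval : ∀ j ∈ ({r₁, s₁, r₂, s₂} : Finset ι), v j = α ∨ v j = -α := by
    intro j hj
    apply sq_eq_sq_iff_eq_or_eq_neg.1
    simp only [Finset.mem_insert, Finset.mem_singleton] at hj
    rcases hj with rfl | rfl | rfl | rfl
    · rw [hαdef]
    · exact q1
    · exact heq
    · rw [q2, heq]
  -- a three-cycle fixing `v`
  obtain ⟨σ, hσ⟩ : ∃ σ, σ = Equiv.swap r₁ s₁ * Equiv.swap r₁ r₂ := ⟨_, rfl⟩
  have h3c : Equiv.Perm.IsThreeCycle σ := hσ ▸ Equiv.Perm.isThreeCycle_swap_mul_swap_same n12 n13 n23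
  have hσ3 : σ * σ * σ = 1 := by
    have e := pow_orderOf_eq_one σ
    rw [h3c.orderOf, pow_succ, pow_two] at e
    exact e
  have hσ2 : σ * σ ≠ 1 := fun e0 => by
    have e := orderOf_dvd_of_pow_eq_one (x := σ) (n := 2) (by rw [pow_two, e0])
    rw [h3c.orderOf] at e
    norm_num at e
  have hσo : ∀ j, j ≠ r₁ → j ≠ s₁ → j ≠ r₂ → σ j = j := fun j j1 j2 j3 => by
    rw [hσ, Equiv.Perm.mul_apply, Equiv.swap_apply_of_ne_of_ne j1 j3, Equiv.swap_apply_of_ne_of_ne j1 j2]
  have hσmem : ∀ j, σ j ∈ ({r₁, s₁, r₂, s₂} : Finset ι) ↔ j ∈ ({r₁, s₁, r₂, s₂} : Finset ι) := fun j => by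
    by_cases hj : j ≠ r₁ ∧ j ≠ s₁ ∧ j ≠ r₂
    · rw [hσo j hj.1 hj.2.1 hj.2.2]
    · simp only [not_and_or, not_not] at hj
      rcases hj with rfl | rfl | rfl <;>
        simp [hσ, Equiv.swap_apply_def, n12, n13, n23, Ne.symm n12, Ne.symm n13, Ne.symm n23]
  obtain ⟨D₀, hD₀⟩ : ∃ D₀ : Finset ι, D₀ = Finset.univ.filter fun j => v j = -α := ⟨_, rfl⟩
  obtain ⟨v', hv'⟩ : ∃ v', v' = act (flp D₀) v := ⟨_, rfl⟩
  have hv'j : ∀ j, v' j = if j ∈ ({r₁, s₁, r₂, s₂} : Finset ι) then α else 0 := fun j => by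
    rw [hv', act_flp]
    simp only [hD₀, Finset.mem_filter, Finset.mem_univ, true_and]
    by_cases hj : j ∈ ({r₁, s₁, r₂, s₂} : Finset ι)
    · rw [if_pos hj]
      rcases hval j hj with e | e
      · rw [if_neg (by rw [e]; exact fun e' => hα0 ((mul_eq_zero.1
          (show (2 : F) * α = 0 by linear_combination e')).resolve_left h2)), e]
      · rw [if_pos e, e, neg_neg]
    · rw [if_neg hj, hvs j hj]
      split <;> simp
  obtain ⟨τ, hτ⟩ : ∃ τ : GL ι F, τ = flp D₀ * pm σ * flp D₀ := ⟨_, rfl⟩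
  have hτv : act τ v = v := by
    have h1 : act (pm σ) v' = v' := by
      rw [act_pm]
      funext j
      rw [Function.comp_apply, hv'j, hv'j]
      congr 1
      conv_rhs => rw [← Equiv.apply_symm_apply σ j]
      rw [← Equiv.Perm.inv_def]
      exact propext (hσmem _).symm
    rw [hτ, act_mul, act_mul, ← hv', h1, hv', ← act_mul, flp_sq, act_one]
  have hτH : τ ∈ H := by
    rw [hτ, show flp D₀ * pm σ * flp D₀ = flp D₀ * (pm σ * flp D₀ * pm σ⁻¹) * (pm σ : GL ι F) by
      rw [map_inv]; group, pm_conj_flp, flp_mul]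
    refine mul_mem (hS.min.frame.flp_even ?_) (hS.min.frame.pm_mem σ h3c.sign)
    have e := card_symmDiff_add D₀ (D₀.map σ.toEmbedding)
    rw [Finset.card_map] at e
    exact ⟨D₀.card - (D₀ ∩ D₀.map σ.toEmbedding).card, by omega⟩
  obtain ⟨t₁, t₂, ht12, hT⟩ := Finset.card_eq_two.1 (show ({r₁, s₁, r₂, s₂} : Finset ι)ᶜ.card = 2 by
    rw [Finset.card_compl, hS.card, Finset.card_insert_of_notMem (by simp [n12, n13, n14]),
      Finset.card_insert_of_notMem (by simp [n23, n24]), Finset.card_pair n34])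
  have hout : ∀ t ∈ ({t₁, t₂} : Finset ι), σ t = t ∧ v t = 0 := fun t ht => by
    rw [← hT, Finset.mem_compl] at ht
    refine ⟨?_, hvs t ht⟩
    simp only [Finset.mem_insert, Finset.mem_singleton, not_or] at ht
    exact hσo t ht.1 ht.2.1 ht.2.2.1
  have hσT : pm σ * flp {t₁, t₂} = flp {t₁, t₂} * (pm σ : GL ι F) := by
    rw [← mul_inv_eq_iff_eq_mul, ← map_inv, pm_conj_flp]
    congr 1
    rw [Finset.map_insert, Finset.map_singleton, Equiv.coe_toEmbedding, (hout t₁ (by simp)).1, (hout t₂ (by simp)).1]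
  have h1 := hS.mono_of_tau (inv_mem hg) ht12 hτH
    (by
      rw [inv_inv]
      refine hS.line (mul_mem (mul_mem (inv_mem hg) (hS.min.frame.flp_mem _ _ ht12)) hg) (j := a) (r := a) (c := 1) ?_
      rw [act_mul, act_mul, ← hv, act_fix_perp (flp_fixOff (subset_refl _)) (fun t ht => (hout t ht).2), hv, act_inv,
        one_smul])
    (by
      rw [inv_inv]
      refine hS.line (mul_mem (mul_mem (inv_mem hg) hτH) hg) (j := a) (r := a) (c := 1) ?_
      rw [act_mul, act_mul, ← hv, hτv, hv, act_inv, one_smul])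
    (by
      rw [hτ, mul_assoc, flp_comm, ← mul_assoc, mul_assoc (flp D₀), hσT, ← mul_assoc, flp_comm D₀, mul_assoc,
        mul_assoc, mul_assoc])
    (by
      rw [hτ, show flp D₀ * pm σ * flp D₀ * (flp D₀ * pm σ * flp D₀) * (flp D₀ * pm σ * flp D₀) =
        flp D₀ * pm σ * (flp D₀ * flp D₀) * pm σ * (flp D₀ * flp D₀) * pm σ * (flp D₀ : GL ι F) by group, flp_sq,
        mul_one, mul_one, mul_assoc (flp D₀), mul_assoc (flp D₀), ← map_mul, ← map_mul, hσ3, map_one, mul_one, flp_sq])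
    (fun e0 => hσ2 (by
      have e1 : pm (σ * σ) = (1 : GL ι F) := by
        rw [hτ, show flp D₀ * pm σ * flp D₀ * (flp D₀ * pm σ * flp D₀) =
          flp D₀ * pm σ * (flp D₀ * flp D₀) * pm σ * (flp D₀ : GL ι F) by group, flp_sq, mul_one,
          mul_assoc (flp D₀), ← map_mul] at e0
        have e' := congrArg (fun y => flp D₀ * y * (flp D₀ : GL ι F)) e0
        simp only [mul_assoc, one_mul, mul_one, flp_sq] at e'
        rwa [← mul_assoc, flp_sq, one_mul] at e'
      exact (mperm_pm (F := F) (σ * σ)).symm.trans (by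
        rw [show (⟨pm (σ * σ), mono_pm _⟩ : monoG (ι := ι) (F := F)) = 1 from Subtype.ext e1, map_one])))
  have h3 := h1.inv
  rwa [inv_inv] at h3

theorem SixMin.flp_univ_mem (hS : SixMin H) : flp Finset.univ ∈ H :=
  hS.min.frame.flp_even (by rw [Finset.card_univ, hS.card]; decide)

/-- pairs and complements of pairs -/
theorem SixMin.mono_of_conj (hS : SixMin H) {g : GL ι F} (hg : g ∈ H) {A : Finset ι} (hA : A.card = 2 ∨ A.card = 4)
    (hu : Mono (g * flp A * g⁻¹)) : Mono g := by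
  rcases hA with hA | hA
  · obtain ⟨a, c, hac, rfl⟩ := Finset.card_eq_two.1 hA
    exact hS.mono_of_conj_pair hg hac hu
  · obtain ⟨a, c, hac, hAc⟩ := Finset.card_eq_two.1 (show Aᶜ.card = 2 by rw [Finset.card_compl, hS.card, hA])
    refine hS.mono_of_conj_pair hg hac ?_
    rw [← hAc, flp_compl, show g * (flp Finset.univ * flp A) * g⁻¹ = g * flp Finset.univ * (flp A * g⁻¹) by group,
      flp_univ_comm, show flp Finset.univ * g * (flp A * g⁻¹) = flp Finset.univ * (g * flp A * g⁻¹) by group]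
    exact (mono_flp _).mul hu

theorem det_pm (σ : Equiv.Perm ι) :
    ((pm σ : GL ι F) : Matrix ι ι F).det = ((Equiv.Perm.sign σ : ℤ) : F) := by
  show ((σ⁻¹).permMatrix F).det = _
  rw [Matrix.det_permutation, Equiv.Perm.sign_inv]

theorem det_flp (D : Finset ι) : ((flp D : GL ι F) : Matrix ι ι F).det = (-1) ^ D.card := by
  show (Matrix.diagonal fun i => if i ∈ D then (-1 : F) else 1).det = _
  rw [Matrix.det_diagonal, Finset.prod_ite, Finset.prod_const_one, mul_one, Finset.prod_const, Finset.filter_univ_mem]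

theorem even_of_neg_one_pow (h2 : (2 : F) ≠ 0) {n : ℕ} (h : (-1 : F) ^ n = 1) : Even n := by
  rcases Nat.even_or_odd n with he | ho
  · exact he
  · rw [ho.neg_one_pow] at h
    exact absurd (by linear_combination -h) h2

/-- the moved points of a monomial involution are not all six -/
theorem SixMin.support_ne_univ (hS : SixMin H) {x : monoG (ι := ι) (F := F)} (hxH : x.1 ∈ H) (hx2 : x * x = 1) :
    (mperm x).support ≠ Finset.univ := by
  intro hsupp
  have h2 := hS.two
  obtain ⟨π, hπ⟩ : ∃ π, π = mperm x := ⟨_, rfl⟩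
  rw [← hπ] at hsupp
  have hππ : π * π = 1 := by rw [hπ, ← map_mul, hx2, map_one]
  have hne : π ≠ 1 := fun e => by
    rw [e, Equiv.Perm.support_one] at hsupp
    have := congrArg Finset.card hsupp
    simp [hS.card] at this
  have hord : orderOf π = 2 := orderOf_eq_prime (by rw [pow_two, hππ]) hne
  obtain ⟨m, hm⟩ := Equiv.Perm.cycleType_prime_order (σ := π) (by rw [hord]; exact Nat.prime_two)
  have hsum := π.sum_cycleType
  rw [hm, hsupp, hord, Multiset.sum_replicate, smul_eq_mul, Finset.card_univ, hS.card] at hsum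
  have hm2 : m = 2 := by omega
  have hsign : Equiv.Perm.sign π = -1 := by
    rw [Equiv.Perm.sign_of_cycleType, hm, hord, hm2]
    rfl
  obtain ⟨D, hD⟩ := exists_normal h2 x (hS.iso hxH)
  rw [← hπ] at hD
  have hinv : D.map π.toEmbedding = D := by
    apply flp_inj h2
    rw [← pm_conj_flp, map_inv, mul_inv_eq_iff_eq_mul]
    have e : x.1 * x.1 = 1 := congrArg Subtype.val hx2
    rw [hD, show pm π * flp D * (pm π * flp D) = pm π * flp D * pm π * (flp D : GL ι F) by group] at e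
    have e' := eq_inv_of_mul_eq_one_left e
    rw [flp_inv] at e'
    have hpp : pm π * pm π = (1 : GL ι F) := by rw [← map_mul, hππ, map_one]
    calc pm π * flp D = pm π * flp D * (pm π * pm π) := by rw [hpp, mul_one]
      _ = pm π * flp D * pm π * pm π := by group
      _ = flp D * pm π := by rw [e']
  have hmem : ∀ j, π j ∈ D ↔ j ∈ D := fun j => by
    constructor <;> intro hj
    · rw [← hinv, Finset.mem_map] at hj
      obtain ⟨i, hi, e⟩ := hj
      rwa [← π.injective e]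
    · rw [← hinv]; exact Finset.mem_map_of_mem _ hj
  have heven : 2 ∣ D.card := by
    have h1 := Equiv.Perm.two_dvd_card_support (σ := π.subtypePerm hmem) (Equiv.ext fun j => Subtype.ext (by
      simp only [pow_two, Equiv.Perm.mul_apply, Equiv.Perm.subtypePerm_apply, Equiv.Perm.one_apply]
      exact Equiv.congr_fun hππ (j : ι)))
    rwa [show (π.subtypePerm hmem).support = Finset.univ from Finset.eq_univ_iff_forall.2 fun j => by
      rw [Equiv.Perm.mem_support, ne_eq, Subtype.ext_iff, Equiv.Perm.subtypePerm_apply]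
      exact Equiv.Perm.mem_support.1 (hsupp ▸ Finset.mem_univ (j : ι)), Finset.card_univ, Fintype.card_coe] at h1
  have hdet := hS.det _ hxH
  rw [hD, Units.val_mul, Matrix.det_mul, det_pm, det_flp, hsign, (even_iff_two_dvd.2 heven).neg_one_pow,
    mul_one] at hdet
  push_cast at hdet
  exact h2 (by linear_combination -hdet)

theorem eq_one_of_sq_of_odd {G : Type*} [Group G] (O : Subgroup G) [Finite O] (hO : ¬ 2 ∣ Nat.card O) {y : G}
    (hy : y ∈ O) (h2 : y * y = 1) : y = 1 := by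
  by_contra hne
  have h1 : orderOf (⟨y, hy⟩ : O) = 2 :=
    orderOf_eq_prime (Subtype.ext (by simp [pow_two, h2])) (fun e => hne (congrArg Subtype.val e))
  exact hO (h1 ▸ orderOf_dvd_natCard _)

/-- the centraliser of a monomial involution other than `-1` is monomial -/
theorem SixMin.mono_centralizer (hS : SixMin H) {z : GL ι F} (hz : z ∈ H) (hz2 : z * z = 1) (hz1 : z ≠ 1)
    (hzu : z ≠ flp Finset.univ) (hzm : Mono z) {g : GL ι F} (hg : g ∈ H) (hgz : g * z = z * g) : Mono g := by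
  classical
  have h2 := hS.two
  obtain ⟨x, hx⟩ : ∃ x : monoG (ι := ι) (F := F), x.1 = z := ⟨⟨z, hzm⟩, rfl⟩
  have hx2 : x * x = 1 := Subtype.ext (by rw [Subgroup.coe_mul, hx, hz2]; rfl)
  by_cases hp : mperm x = 1
  · obtain ⟨D, hD⟩ := eq_flp_of_mperm h2 (g := x) (by rw [hx]; exact hS.iso hz) hp
    rw [hx] at hD
    have heven : Even D.card := even_of_neg_one_pow h2 (by rw [← det_flp, ← hD]; exact hS.det z hz)
    have h0 : D.card ≠ 0 := fun e => hz1 (by rw [hD, Finset.card_eq_zero.1 e, flp_empty])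
    have h6 : D.card ≠ 6 := fun e => hzu (by rw [hD, Finset.eq_univ_of_card D (e.trans hS.card.symm)])
    refine hS.commute_good hg (D := D) ?_ (hD ▸ hgz)
    have := D.card_le_univ
    rw [hS.card] at this
    obtain ⟨m, hm⟩ := heven
    omega
  obtain ⟨π, hπ⟩ : ∃ π, π = mperm x := ⟨_, rfl⟩
  rw [← hπ] at hp
  have hππ : ∀ r, π (π r) = r := fun r => by
    rw [hπ, ← Equiv.Perm.mul_apply, ← map_mul, hx2, map_one, Equiv.Perm.one_apply]
  obtain ⟨M, hM⟩ : ∃ M : Finset ι, M = π.support := ⟨_, rfl⟩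
  have hMgood : M.card = 2 ∨ M.card = 4 := by
    have h1 := Equiv.Perm.two_dvd_card_support (σ := π) (Equiv.ext fun r => by
      rw [pow_two, Equiv.Perm.mul_apply, hππ, Equiv.Perm.one_apply])
    have h3 : M.card ≠ 6 := fun e => hS.support_ne_univ (hx ▸ hz) hx2
      (by rw [← hπ, ← hM]; exact Finset.eq_univ_of_card M (e.trans hS.card.symm))
    have h4 : M.card ≠ 0 := fun e => hp (Equiv.Perm.support_eq_empty_iff.1 (by rw [← hM, Finset.card_eq_zero.1 e]))
    have := M.card_le_univ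
    rw [hS.card] at this
    rw [← hM] at h1
    omega
  have hflpz : ∀ {D : Finset ι}, (∀ r ∈ D, π r ∈ D) → flp D * z = z * flp D := by
    intro D hD
    have e := conj_flp_of_mono h2 x (by rw [hx]; exact hS.iso hz) D
    rw [← hπ, hx, show D.map π.toEmbedding = D from
      Finset.eq_of_subset_of_card_le (fun y hy => ?_) (by rw [Finset.card_map]), mul_inv_eq_iff_eq_mul] at e
    · exact e.symm
    · obtain ⟨r, hr, rfl⟩ := Finset.mem_map.1 hy
      exact hD r hr
  have hπM : ∀ r ∈ M, π r ∈ M := fun r hr => by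
    rw [hM, Equiv.Perm.mem_support] at hr ⊢
    exact fun e => hr (π.injective e)
  obtain ⟨G, hG⟩ : ∃ G : Subgroup (GL ι F), G = H ⊓ Subgroup.centralizer {z} := ⟨_, rfl⟩
  have hmem : ∀ {y : GL ι F}, y ∈ G ↔ y ∈ H ∧ y * z = z * y := by
    intro y
    rw [hG, Subgroup.mem_inf, Subgroup.mem_centralizer_singleton_iff]
  have haG : flp M ∈ G :=
    hmem.2 ⟨hS.min.frame.flp_even (by rcases hMgood with e | e <;> rw [e] <;> decide), hflpz hπM⟩
  have hgG : g ∈ G := hmem.2 ⟨hg, hgz⟩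
  have hiso : Cfsg.IsIsolatedInvolution (⟨flp M, haG⟩ : G) := by
    refine ⟨orderOf_eq_prime (Subtype.ext ?_) (fun e => ?_), fun d hd => Subtype.ext ?_⟩
    · simp [pow_two, flp_sq]
    · have := flp_inj h2 ((congrArg Subtype.val e).trans (flp_empty (F := F)).symm)
      rcases hMgood with h | h <;> simp [this] at h
    · obtain ⟨hdH, hdz⟩ := hmem.1 d.2
      have hd' : flp M * (d.1 * flp M * d.1⁻¹) = d.1 * flp M * d.1⁻¹ * flp M := congrArg Subtype.val hd.eq
      have h1 : Mono (d.1 * flp M * d.1⁻¹) :=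
        hS.commute_good (mul_mem (mul_mem hdH (hmem.1 haG).1) (inv_mem hdH)) hMgood hd'.symm
      obtain ⟨δ, hδ⟩ : ∃ δ : monoG (ι := ι) (F := F), δ.1 = d.1 := ⟨⟨_, hS.mono_of_conj hdH hMgood h1⟩, rfl⟩
      show d.1 * flp M * d.1⁻¹ = flp M
      rw [← hδ, conj_flp_of_mono h2 δ (by rw [hδ]; exact hS.iso hdH)]
      congr 1
      refine Finset.eq_of_subset_of_card_le (fun y hy => ?_) (by rw [Finset.card_map])
      obtain ⟨r, hr, rfl⟩ := Finset.mem_map.1 hy
      rw [hM, Equiv.Perm.mem_support] at hr ⊢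
      rw [Equiv.coe_toEmbedding]
      intro e
      apply hr
      refine (mperm δ).injective ?_
      have hcc : mperm δ * π = π * mperm δ := by
        rw [hπ, ← map_mul, ← map_mul]
        exact congrArg _ (Subtype.ext (by simp only [Subgroup.coe_mul, hδ, hx]; exact hdz))
      rw [← Equiv.Perm.mul_apply, hcc, Equiv.Perm.mul_apply, e]
  have hZ := CfsgLib.Invol.zstar hiso
  obtain ⟨O, hO⟩ : ∃ O : Subgroup G, O = Cfsg.pPrimeCore 2 G := ⟨_, rfl⟩
  have hOodd : ¬ 2 ∣ Nat.card O := hO ▸ CfsgLib.Coprime.pPrimeCore_not_dvd Nat.prime_two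
  haveI hOn : O.Normal := by
    rw [hO]
    haveI := CfsgLib.Coprime.pPrimeCore_characteristic (G := G) 2
    infer_instance
  -- for every point an invariant pair containing it
  have hpair : ∀ r, ∃ r', r' ≠ r ∧ (∀ y ∈ ({r, r'} : Finset ι), π y ∈ ({r, r'} : Finset ι)) ∧ (r ∈ M ↔ r' ∈ M) := by
    intro r
    by_cases hr : r ∈ M
    · refine ⟨π r, by rw [hM, Equiv.Perm.mem_support] at hr; exact hr, fun y hy => ?_,
        iff_of_true hr (hπM r hr)⟩
      simp only [Finset.mem_insert, Finset.mem_singleton] at hy ⊢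
      rcases hy with rfl | rfl
      · exact Or.inr rfl
      · exact Or.inl (hππ r)
    · obtain ⟨r', hr', hne⟩ := Finset.exists_mem_ne (s := Mᶜ) (by rw [Finset.card_compl, hS.card]; omega) r
      rw [Finset.mem_compl] at hr'
      refine ⟨r', hne, fun y hy => ?_, iff_of_false hr hr'⟩
      have : π y = y := by
        rw [← Equiv.Perm.notMem_support, ← hM]
        simp only [Finset.mem_insert, Finset.mem_singleton] at hy
        rcases hy with rfl | rfl
        · exact hr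
        · exact hr'
      rwa [this]
  have hDG : ∀ {D : Finset ι}, (D.card = 2 ∨ D.card = 4) → (∀ y ∈ D, π y ∈ D) → flp D ∈ G := fun {D} hc hD =>
    hmem.2 ⟨hS.min.frame.flp_even (by rcases hc with e | e <;> rw [e] <;> decide), hflpz hD⟩
  have hfix : ∀ y ∈ O, ∀ D : Finset ι, (D.card = 2 ∨ D.card = 4) → (y : GL ι F) * flp D = flp D * (y : GL ι F) → y = 1 := by
    intro y hy D hc hyD
    obtain ⟨Y, hY⟩ : ∃ Y : monoG (ι := ι) (F := F), Y.1 = y.1 :=
      ⟨⟨_, hS.commute_good (hmem.1 y.2).1 hc hyD⟩, rfl⟩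
    have hYiso : Y.1 ∈ Cfsg.isometryGroup F (stdQ : (ι → F) → F) := by rw [hY]; exact hS.iso (hmem.1 y.2).1
    have hpre : ∀ E : Finset ι, (E.card = 2 ∨ E.card = 4) → (∀ r ∈ E, π r ∈ E) →
        E.map (mperm Y).toEmbedding = E := by
      intro E hEc hE
      obtain ⟨f, hf⟩ : ∃ f : G, f.1 = flp E := ⟨⟨_, hDG hEc hE⟩, rfl⟩
      have e2 : (y * f * y⁻¹ * f⁻¹).1 = flp (symmDiff (E.map (mperm Y).toEmbedding) E) := by
        simp only [Subgroup.coe_mul, Subgroup.coe_inv, hf, flp_inv]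
        rw [← hY, conj_flp_of_mono h2 Y hYiso, flp_mul]
      have hcO : y * f * y⁻¹ * f⁻¹ ∈ O := by
        rw [show y * f * y⁻¹ * f⁻¹ = y * (f * y⁻¹ * f⁻¹) by group]
        exact mul_mem hy (hOn.conj_mem _ (inv_mem hy) f)
      have h1 := eq_one_of_sq_of_odd O hOodd hcO (Subtype.ext (by rw [Subgroup.coe_mul, e2, flp_sq]; rfl))
      have h3 := flp_inj h2 ((e2.symm.trans (congrArg Subtype.val h1)).trans (flp_empty (F := F)).symm)
      exact symmDiff_eq_bot.1 h3
    have hperm : mperm Y = 1 := by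
      refine Equiv.ext fun r => ?_
      rw [Equiv.Perm.one_apply]
      obtain ⟨r', hne, hinv, -⟩ := hpair r
      have hmap := hpre {r, r'} (Or.inl (Finset.card_pair (Ne.symm hne))) hinv
      have h1 : ∀ s ∈ ({r, r'} : Finset ι), mperm Y s ∈ ({r, r'} : Finset ι) := fun s hs => by
        have := Finset.mem_map_of_mem (mperm Y).toEmbedding hs
        rwa [hmap] at this
      by_contra hr
      have e1 : mperm Y r = r' := by
        have := h1 r (by simp)
        simp only [Finset.mem_insert, Finset.mem_singleton] at this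
        exact this.resolve_left hr
      have e2 : mperm Y r' = r := by
        have := h1 r' (by simp)
        simp only [Finset.mem_insert, Finset.mem_singleton] at this
        exact this.resolve_right fun e => hne ((mperm Y).injective (e.trans e1.symm))
      obtain ⟨m, hm⟩ : Odd (orderOf y) := by
        rw [← Nat.not_even_iff_odd, even_iff_two_dvd]
        intro h
        exact hOodd (h.trans (Subgroup.orderOf_dvd_natCard O hy))
      have e3 : mperm Y ^ (2 * m + 1) = 1 := by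
        rw [← map_pow, show Y ^ (2 * m + 1) = 1 from Subtype.ext (by
          rw [SubgroupClass.coe_pow, hY, ← SubgroupClass.coe_pow, ← hm, pow_orderOf_eq_one]; rfl), map_one]
      have e4 : ∀ k, (mperm Y ^ (2 * k)) r = r := fun k => by
        rw [pow_mul]
        exact Equiv.Perm.pow_apply_eq_self_of_apply_eq_self (by rw [pow_two, Equiv.Perm.mul_apply, e1, e2]) k
      have e5 := Equiv.congr_fun e3 r
      rw [pow_succ', Equiv.Perm.mul_apply, e4, e1, Equiv.Perm.one_apply] at e5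
      exact hne e5
    obtain ⟨E, hE⟩ := eq_flp_of_mperm h2 hYiso hperm
    exact eq_one_of_sq_of_odd O hOodd hy (Subtype.ext (by rw [Subgroup.coe_mul, ← hY, hE, flp_sq]; rfl))
  -- sign changes of invariant pairs invert the odd core
  have hinvert : ∀ E : Finset ι, E.card = 2 → (∀ r ∈ E, π r ∈ E) → ∀ y ∈ O,
      flp E * (y : GL ι F) * flp E = (y : GL ι F)⁻¹ := by
    intro E hEc hE y hy
    obtain ⟨f, hf⟩ : ∃ f : G, f.1 = flp E := ⟨⟨_, hDG (Or.inl hEc) hE⟩, rfl⟩
    have hff : f * f = 1 := Subtype.ext (by rw [Subgroup.coe_mul, hf, flp_sq]; rfl)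
    have hfi : f⁻¹ = f := inv_eq_of_mul_eq_one_right hff
    have hφmem : ∀ w : O, (w : G)⁻¹ * (f * w * f) ∈ O := fun w =>
      mul_mem (inv_mem w.2) (by have := hOn.conj_mem _ w.2 f; rwa [hfi] at this)
    obtain ⟨w, hw⟩ := (Finite.injective_iff_surjective (f := fun w : O => (⟨_, hφmem w⟩ : O))).1 (fun p q hpq => by
      have hpq' : (p : G)⁻¹ * (f * p * f) = (q : G)⁻¹ * (f * q * f) := congrArg Subtype.val hpq
      have hc : f * ((q : G) * (p : G)⁻¹) = (q : G) * (p : G)⁻¹ * f := by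
        calc f * ((q : G) * (p : G)⁻¹)
              = (q : G) * ((q : G)⁻¹ * (f * q * f)) * f * (p : G)⁻¹ := by
                simp only [mul_assoc, mul_inv_cancel_left, ← mul_assoc f f, hff, one_mul]
          _ = (q : G) * ((p : G)⁻¹ * (f * p * f)) * f * (p : G)⁻¹ := by rw [hpq']
          _ = (q : G) * (p : G)⁻¹ * f := by
                simp only [mul_assoc, ← mul_assoc f f, hff, one_mul, mul_inv_cancel, mul_one]
      have h1 := hfix _ (mul_mem q.2 (inv_mem p.2)) E (Or.inl hEc) (by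
        have e := (congrArg Subtype.val hc).symm
        simp only [Subgroup.coe_mul, hf] at e ⊢
        exact e)
      exact Subtype.ext (mul_inv_eq_one.1 h1).symm) ⟨y, hy⟩
    have hwy : y = (w : G)⁻¹ * (f * w * f) := (congrArg Subtype.val hw).symm
    have e : f * y * f = y⁻¹ := by
      rw [hwy]
      simp only [_root_.mul_inv_rev, hfi, inv_inv, mul_assoc, hff, mul_one]
    have := congrArg Subtype.val e
    simpa only [Subgroup.coe_mul, Subgroup.coe_inv, hf] using this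
  have hObot : ∀ y ∈ O, y = 1 := by
    intro y hy
    obtain ⟨r₁, hr₁⟩ := Finset.card_pos.1 (show 0 < M.card by omega)
    obtain ⟨s₁, hne₁, hinv₁, hiff₁⟩ := hpair r₁
    obtain ⟨r₂, hr₂⟩ := Finset.card_pos.1 (show 0 < ({r₁, s₁} : Finset ι)ᶜ.card by
      rw [Finset.card_compl, hS.card, Finset.card_pair (Ne.symm hne₁)]; norm_num)
    simp only [Finset.mem_compl, Finset.mem_insert, Finset.mem_singleton, not_or] at hr₂
    obtain ⟨s₂, hne₂, hinv₂, hiff₂⟩ := hpair r₂
    have hs₂ : s₂ ≠ r₁ ∧ s₂ ≠ s₁ := by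
      by_contra hcon
      rw [not_and_or, not_not, not_not] at hcon
      have hm : r₂ ∈ M := hiff₂.2 (by
        rcases hcon with e | e <;> rw [e]
        · exact hr₁
        · exact hiff₁.1 hr₁)
      have h1 : π r₂ = s₂ := by
        have := hinv₂ r₂ (by simp)
        simp only [Finset.mem_insert, Finset.mem_singleton] at this
        rw [hM, Equiv.Perm.mem_support] at hm
        exact this.resolve_left hm
      have h3 : π s₂ = r₂ := by rw [← h1, hππ]
      have := hinv₁ s₂ (by simp [hcon])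
      simp only [h3, Finset.mem_insert, Finset.mem_singleton] at this
      exact this.elim hr₂.1 hr₂.2
    have hdis : Disjoint ({r₁, s₁} : Finset ι) {r₂, s₂} := by
      simp [Finset.disjoint_insert_right, hr₂.1, hr₂.2, hs₂.1, hs₂.2]
    have hU : (flp {r₁, s₁} * flp {r₂, s₂} : GL ι F) = flp ({r₁, s₁} ∪ {r₂, s₂}) := by
      rw [flp_mul]; congr 1
      exact hdis.symmDiff_eq_sup
    refine hfix y hy ({r₁, s₁} ∪ {r₂, s₂}) (Or.inr ?_) ?_
    · rw [Finset.card_union_of_disjoint hdis, Finset.card_pair (Ne.symm hne₁), Finset.card_pair (Ne.symm hne₂)]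
    · have e1 := hinvert {r₁, s₁} (Finset.card_pair (Ne.symm hne₁)) hinv₁ y hy
      have e2 := hinvert {r₂, s₂} (Finset.card_pair (Ne.symm hne₂)) hinv₂ y⁻¹ (inv_mem hy)
      rw [Subgroup.coe_inv, inv_inv, ← e1] at e2
      rw [← hU]
      have e3 : (flp {r₁, s₁} * flp {r₂, s₂} : GL ι F) * (y : GL ι F) *
          (flp {r₁, s₁} * flp {r₂, s₂} : GL ι F) = (y : GL ι F) := by
        nth_rw 1 [flp_comm {r₁, s₁}]
        calc flp {r₂, s₂} * flp {r₁, s₁} * (y : GL ι F) * (flp {r₁, s₁} * flp {r₂, s₂} : GL ι F)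
              = flp {r₂, s₂} * (flp {r₁, s₁} * (y : GL ι F) * flp {r₁, s₁}) * flp {r₂, s₂} := by simp only [mul_assoc]
          _ = (y : GL ι F) := e2
      conv_lhs => rw [← e3]
      rw [mul_assoc, show (flp {r₁, s₁} * flp {r₂, s₂} : GL ι F) * (flp {r₁, s₁} * flp {r₂, s₂}) = 1 by
        rw [hU, flp_sq], mul_one]
  have h1 := hObot _ (hO ▸ hZ ⟨g, hgG⟩)
  have h3 := congrArg Subtype.val h1
  simp only [Subgroup.coe_mul, Subgroup.coe_inv, OneMemClass.coe_one, mul_inv_eq_one] at h3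
  exact hS.commute_good hg hMgood (mul_inv_eq_iff_eq_mul.1 h3).symm

/-- a frame group in six dimensions with monomial proper supports is monomial -/
theorem SixMin.mono_all (hS : SixMin H) {g : GL ι F} (hg : g ∈ H) : Mono g := by
  classical
  have h2 := hS.two
  obtain ⟨a, c, hac⟩ := Fintype.exists_pair_of_one_lt_card (α := ι) (by rw [hS.card]; norm_num)
  obtain ⟨v, hv⟩ : ∃ v, v = act g (bv a : ι → F) := ⟨_, rfl⟩
  obtain ⟨w, hw⟩ : ∃ w, w = act g (bv c : ι → F) := ⟨_, rfl⟩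
  obtain ⟨u, hu⟩ : ∃ u, u = g * flp {a, c} * g⁻¹ := ⟨_, rfl⟩
  have hI := Invol.conj h2 hS.min.frame hg (mem_fixOff_univ g) (Finset.mem_univ a) (Finset.mem_univ c) hac
  rw [← hu, ← hv, ← hw] at hI
  have hfo : orderOf (flp {a, c} : GL ι F) = 2 := orderOf_eq_prime (by rw [pow_two, flp_sq]) (fun e => by
    have := flp_inj h2 (e.trans (flp_empty (F := F)).symm)
    simp at this)
  have huo : orderOf u = 2 := hu ▸ CfsgLib.Invol.invol_conj hfo g
  let e : Fin 6 ≃ ι := (Fintype.equivFinOfCardEq hS.card).symm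
  have hne : ∀ s t, s ≠ t → e s ≠ e t := fun s t h h' => h (e.injective h')
  obtain ⟨π₀, hπ₀⟩ : ∃ π₀, π₀ = Equiv.swap (e 0) (e 1) * Equiv.swap (e 2) (e 3) := ⟨_, rfl⟩
  obtain ⟨z₀, hz₀⟩ : ∃ z₀ : GL ι F, z₀ = pm π₀ := ⟨_, rfl⟩
  have hzH : z₀ ∈ H := hz₀ ▸ hS.min.frame.pm_mem π₀ (by
    rw [hπ₀, map_mul, Equiv.Perm.sign_swap (hne 0 1 (by decide)), Equiv.Perm.sign_swap (hne 2 3 (by decide))]; rfl)
  have hπ0 : π₀ (e 0) = e 1 := by simp [hπ₀, Equiv.swap_apply_def, e.injective.eq_iff]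
  have hπne : π₀ ≠ 1 := fun h => hne 1 0 (by decide) (by rw [← hπ0, h]; rfl)
  have hzflp : ∀ D, z₀ ≠ flp D := fun D h => hπne (by
    rw [← mperm_pm (F := F) π₀, show (⟨pm π₀, mono_pm π₀⟩ : monoG (ι := ι) (F := F)) = ⟨flp D, mono_flp D⟩ from
      Subtype.ext (hz₀ ▸ h), mperm_flp])
  have hππ : π₀ * π₀ = 1 := by
    refine Equiv.ext fun r => ?_
    obtain ⟨t, rfl⟩ := e.surjective r
    fin_cases t <;> simp [hπ₀, Equiv.swap_apply_def, e.injective.eq_iff]
  have hzz : z₀ * z₀ = 1 := by rw [hz₀, ← map_mul, hππ, map_one]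
  have hzo : orderOf z₀ = 2 := orderOf_eq_prime (by rw [pow_two, hzz]) (fun h => hzflp ∅ (by rw [h, flp_empty]))
  rcases Nat.even_or_odd (orderOf (u * z₀)) with heven | hodd
  swap
  · exfalso
    obtain ⟨d, hd, hdz⟩ := CfsgLib.Invol.exists_conj_eq_of_odd huo hzo hodd
    have hdH : d ∈ H := (Subgroup.zpowers_le.2 (mul_mem hI.mem hzH)) hd
    have hz' : z₀ = d * g * flp {a, c} * (d * g)⁻¹ := by rw [← hdz, hu]; group
    obtain ⟨γ, hγ⟩ : ∃ γ : monoG (ι := ι) (F := F), γ.1 = d * g :=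
      ⟨⟨_, hS.mono_of_conj (mul_mem hdH hg) (Or.inl (Finset.card_pair hac))
        (hz' ▸ hz₀ ▸ mono_pm π₀)⟩, rfl⟩
    rw [← hγ, conj_flp_of_mono h2 γ (by rw [hγ]; exact hS.iso (mul_mem hdH hg))] at hz'
    exact hzflp _ hz'
  obtain ⟨s, hs⟩ : ∃ s, s = (u * z₀) ^ (orderOf (u * z₀) / 2) := ⟨_, rfl⟩
  have hsH : s ∈ H := hs ▸ pow_mem (mul_mem hI.mem hzH) _
  have hso : orderOf s = 2 := hs ▸ CfsgLib.Invol.orderOf_pow_half heven
  have hsu : s * u = u * s := hs ▸ (CfsgLib.Invol.commute_pow_half (CfsgLib.Invol.invol_conj_mul huo hzo) heven).eq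
  have hsz : s * z₀ = z₀ * s :=
    hs ▸ (CfsgLib.Invol.commute_pow_half (CfsgLib.Invol.invol_conj_mul' huo hzo) heven).eq
  have hs_univ : s ≠ flp Finset.univ := by
    obtain ⟨y, hy0, hyB, hyv, hyw, hyp⟩ := exists_perp_three (B := {e 0, e 2, e 4, e 5})
      (by rw [Finset.card_insert_of_notMem (by simp [hne]), Finset.card_insert_of_notMem (by simp [hne]),
        Finset.card_pair (hne 4 5 (by decide))])
      (v + v (e 3) • bv (e 2)) (w + w (e 3) • bv (e 2)) (e 0)
    obtain ⟨Y, hY⟩ : ∃ Y : ι → F, Y = y + y (e 2) • bv (e 3) := ⟨_, rfl⟩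
    have hy3 : y (e 3) = 0 := hyB _ (by simp [hne])
    have hy1 : y (e 1) = 0 := hyB _ (by simp [hne])
    have hYv : ∀ v' : ι → F, y ⬝ᵥ (v' + v' (e 3) • bv (e 2)) = 0 → Y ⬝ᵥ v' = 0 := fun v' h => by
      rw [dotProduct_add, dotProduct_smul, dot_bv, smul_eq_mul] at h
      rw [hY, add_dotProduct, smul_dotProduct, bv_dot, smul_eq_mul, mul_comm]
      exact h
    have hzY : act z₀ Y = Y := by
      rw [hz₀, act_pm, inv_eq_of_mul_eq_one_right hππ]
      funext r
      obtain ⟨t, rfl⟩ := e.surjective r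
      fin_cases t <;>
        simp [hY, hπ₀, Equiv.swap_apply_def, e.injective.eq_iff, bv_apply, hyp, hy1, hy3]
    have hY0 : Y ≠ 0 := fun h0 => hy0 (funext fun r => by
      obtain ⟨t, rfl⟩ := e.surjective r
      have h1 := congrFun h0 (e t)
      fin_cases t <;> simp_all [bv_apply, e.injective.eq_iff])
    intro hsflp
    have h1 := act_pow_eig (g := u * z₀) (c := (1 : F)) (x := Y)
      (by rw [act_mul, hzY, hI.act_perp (hYv v hyv) (hYv w hyw), one_smul]) (orderOf (u * z₀) / 2)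
    rw [← hs, hsflp, one_pow, one_smul, (flp_eig h2).2 (suppV_univ Y)] at h1
    refine hY0 (funext fun r => ?_)
    have h3 := congrFun h1 r
    rw [Pi.neg_apply] at h3
    exact (mul_eq_zero.1 (show (2 : F) * Y r = 0 by linear_combination -h3)).resolve_left h2
  have hsm : Mono s := hS.mono_centralizer hzH hzz (CfsgLib.Invol.invol_ne_one hzo) (hzflp _) (hz₀ ▸ mono_pm π₀) hsH hsz
  have hum : Mono u := hS.mono_centralizer hsH (CfsgLib.Invol.invol_mul_self hso) (CfsgLib.Invol.invol_ne_one hso)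
    hs_univ hsm hI.mem hsu.symm
  exact hS.mono_of_conj hg (Or.inl (Finset.card_pair hac)) (hu ▸ hum)

end CfsgLib.Perm.Trans.OrthFrame
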