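import Mathlib
import Cfsg.Agent.Lib.Perm.Trans.OrthFrame.Full
import Cfsg.Agent.Lib.Perm.Trans.OrthFrame.Six

/-!
# A non-monomial frame group is non-monomial on four coordinates
-/

set_option autoImplicit false
set_option linter.all false

namespace CfsgLib.Perm.Trans.OrthFrame

open scoped Matrix
open Matrix Cfsg.Geo CfsgLib.Perm.Trans

variable {ι : Type} [Fintype ι] [DecidableEq ι] {F : Type*} [Field F] [Fintype F]

/-- a frame group with a non-monomial element has one fixing all but four coordinates -/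
theorem exists_four {H : Subgroup (GL ι F)} (hH : Frame H) (h2 : (2 : F) ≠ 0) (hn : 5 ≤ Fintype.card ι)
    (hdet : ∀ g ∈ H, (g : Matrix ι ι F).det = 1) (hn8 : Fintype.card ι ≠ 8) (hnm : ∃ g ∈ H, ¬ Mono g) :
    ∃ T : Finset ι, T.card = 4 ∧ ∃ g ∈ H, g ∈ fixOff T ∧ ¬ Mono g := by
  classical
  obtain ⟨g₀, hg₀, hg₀m⟩ := hnm
  obtain ⟨B, hB, hBmin⟩ := Finset.exists_min_image
    ((Finset.univ : Finset ι).powerset.filter fun B => ∃ g ∈ H, g ∈ fixOff B ∧ ¬ Mono g) Finset.card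
    ⟨Finset.univ, Finset.mem_filter.2 ⟨Finset.mem_powerset.2 subset_rfl, g₀, hg₀, mem_fixOff_univ g₀, hg₀m⟩⟩
  rw [Finset.mem_filter] at hB
  obtain ⟨-, g, hg, hgB, hgm⟩ := hB
  by_cases h4 : B.card ≤ 4
  · obtain ⟨T, hBT, hT⟩ := Finset.exists_superset_card_eq h4 (by omega)
    exact ⟨T, hT, g, hg, fixOff_mono hBT hgB, hgm⟩
  exfalso
  have hMB : MinB H B := ⟨hH, h2, by omega, fun C hC h hh hhC => by
    by_contra hhm
    have := hBmin C (Finset.mem_filter.2 ⟨Finset.mem_powerset.2 (Finset.subset_univ C), h, hh, hhC, hhm⟩)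
    omega⟩
  refine hgm (mono_of_conj h2 (K := H ⊓ fixOff B) (by omega) (inf_le_left.trans hH.le_iso) inf_le_right
    (fun a ha b hb hab => ⟨hH.flp_mem a b hab, flp_fixOff (by simp [Finset.insert_subset_iff, ha, hb])⟩)
    (fun σ hσ hσB => ⟨hH.pm_mem σ hσ, pm_fixOff hσB⟩) (fun k hk a ha b hb hab => ?_) g ⟨hg, hgB⟩)
  have hu := Invol.conj h2 hH hk.1 hk.2 ha hb hab
  by_cases hside : Odd B.card ∨ ∃ k, k ∉ B
  · exact hu.mono_small hMB hside
  · simp only [not_or, not_exists, not_not] at hside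
    obtain ⟨hodd, hall⟩ := hside
    obtain rfl : B = Finset.univ := Finset.eq_univ_iff_forall.2 hall
    rw [Finset.card_univ] at hodd h4
    obtain ⟨j, hj⟩ := Nat.not_odd_iff_even.1 hodd
    by_cases h6 : Fintype.card ι = 6
    · exact SixMin.mono_all ⟨hMB, h6, hdet⟩ hu.mem
    exact hu.mono_full hMB (by omega) hk.1 hab rfl

end CfsgLib.Perm.Trans.OrthFrame
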