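import Mathlib
import Cfsg.Agent.Lib.Perm.Trans.OrthFrame.Support
import Cfsg.Agent.Lib.Perm.Trans.OrthFrame.Four

/-!
# Elements with entries `±1/2` on four coordinates
-/

set_option autoImplicit false
set_option linter.all false

namespace CfsgLib.Perm.Trans.OrthFrame

open scoped Matrix
open Matrix Cfsg.Geo CfsgLib.Perm.Trans

variable {ι : Type} [Fintype ι] [DecidableEq ι] {F : Type*} [Field F]

/-- `g` lives on `T` and has all entries `±1/2` there -/
def HalfOn (T : Finset ι) (g : GL ι F) : Prop :=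
  g ∈ fixOff T ∧ ∀ r ∈ T, ∀ s ∈ T, (2 * act g (bv s) r) ^ 2 = 1

theorem exists_even_map {A D : Finset ι} (hcard : A.card = D.card) (h4 : 4 ≤ A.card) :
    ∃ σ : Equiv.Perm ι, Equiv.Perm.sign σ = 1 ∧ A.map σ.toEmbedding = D := by
  classical
  obtain ⟨σ₀, hσ₀⟩ : ∃ σ : Equiv.Perm ι, A.map σ.toEmbedding = D := by
    refine ⟨(Finset.equivOfCardEq hcard).extendSubtype, Finset.eq_of_subset_of_card_le (fun y hy => ?_)
      (by rw [Finset.card_map, hcard])⟩
    obtain ⟨x, hx, rfl⟩ := Finset.mem_map.1 hy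
    rw [Equiv.coe_toEmbedding]
    exact Equiv.extendSubtype_mem _ x hx
  rcases Int.units_eq_one_or (Equiv.Perm.sign σ₀) with h | h
  · exact ⟨σ₀, h, hσ₀⟩
  · obtain ⟨a, ha, b, hb, hab⟩ := Finset.one_lt_card.1 (show 1 < A.card by omega)
    refine ⟨σ₀ * Equiv.swap a b, by rw [map_mul, h, Equiv.Perm.sign_swap hab]; rfl, ?_⟩
    have hswap : A.map (Equiv.swap a b).toEmbedding = A := by
      ext x
      rw [Finset.mem_map_equiv, Equiv.symm_swap]
      rcases eq_or_ne x a with rfl | hxa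
      · rw [Equiv.swap_apply_left]; simp [ha, hb]
      rcases eq_or_ne x b with rfl | hxb
      · rw [Equiv.swap_apply_right]; simp [ha, hb]
      rw [Equiv.swap_apply_of_ne_of_ne hxa hxb]
    show A.map ((Equiv.swap a b).toEmbedding.trans σ₀.toEmbedding) = D
    rw [← Finset.map_map, hswap, hσ₀]

/-- the matrix of `g` on four chosen coordinates -/
def resMat {T : Finset ι} (e : Fin 4 ≃ {x // x ∈ T}) (g : GL ι F) : Matrix (Fin 4) (Fin 4) F :=
  Matrix.of fun r s => act g (bv (e s : ι)) (e r : ι)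

variable [Fintype F]

theorem resMat_mul (h2 : (2 : F) ≠ 0) {T : Finset ι} (e : Fin 4 ≃ {x // x ∈ T}) {g h : GL ι F}
    (hhiso : h ∈ Cfsg.isometryGroup F (stdQ : (ι → F) → F)) (hh : h ∈ fixOff T) :
    resMat e (g * h) = resMat e g * resMat e h := by
  ext r s
  have hx := act_suppV h2 hhiso hh (bv_suppV (F := F) (e s).2)
  have e1 : act h (bv (e s : ι)) = ∑ k, act h (bv (e s : ι)) k • bv k := pi_eq_sum_univ' _
  rw [Matrix.mul_apply]
  simp only [resMat, Matrix.of_apply]
  rw [act_mul]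
  conv_lhs => rw [e1, act, mulVec_sum, Finset.sum_apply]
  rw [← Finset.sum_subset (Finset.subset_univ T) (fun k _ hk => by rw [hx k hk, zero_smul, mulVec_zero]; rfl),
    ← Finset.sum_coe_sort T, ← Equiv.sum_comp e]
  exact Finset.sum_congr rfl fun k _ => by rw [mulVec_smul, Pi.smul_apply, smul_eq_mul, mul_comm]

theorem resMat_one {T : Finset ι} (e : Fin 4 ≃ {x // x ∈ T}) : resMat e (1 : GL ι F) = 1 := by
  ext r s
  simp only [resMat, Matrix.of_apply, act_one, bv_apply, Matrix.one_apply]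
  exact if_congr ⟨fun h => e.injective (Subtype.ext h), fun h => by rw [h]⟩ rfl rfl

theorem det_resMat (h2 : (2 : F) ≠ 0) {T : Finset ι} (e : Fin 4 ≃ {x // x ∈ T}) {g : GL ι F}
    (hgiso : g ∈ Cfsg.isometryGroup F (stdQ : (ι → F) → F)) (hg : g ∈ fixOff T) :
    (g : Matrix ι ι F).det = (resMat e g).det := by
  classical
  let E : Fin 4 ⊕ {x // x ∉ T} ≃ ι := (Equiv.sumCongr e (Equiv.refl _)).trans (Equiv.sumCompl (· ∈ T))
  have hcol : ∀ r s, (g : Matrix ι ι F) r s = act g (bv s) r := fun r s => by simp [act, bv]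
  have hblk : (g : Matrix ι ι F).submatrix E E = Matrix.fromBlocks (resMat e g) 0 0 1 := by
    ext (r | r) (s | s) <;>
      simp only [Matrix.submatrix_apply, Matrix.fromBlocks_apply₁₁, Matrix.fromBlocks_apply₁₂,
        Matrix.fromBlocks_apply₂₁, Matrix.fromBlocks_apply₂₂, E, Equiv.trans_apply, Equiv.sumCongr_apply, Sum.map_inl,
        Sum.map_inr, Equiv.refl_apply, Equiv.sumCompl_apply_inl, Equiv.sumCompl_apply_inr, hcol, resMat, Matrix.of_apply]
    · rw [hg s s.2, bv_apply, Matrix.zero_apply, if_neg fun h : (e r : ι) = (s : ι) => s.2 (h ▸ (e r).2)]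
    · exact act_suppV h2 hgiso hg (bv_suppV (e s).2) r r.2
    · rw [hg s s.2, bv_apply, Matrix.one_apply]
      exact if_congr Subtype.ext_iff.symm rfl rfl
  rw [← Matrix.det_submatrix_equiv_self E, hblk, Matrix.det_fromBlocks_zero₂₁, Matrix.det_one, mul_one]

/-- a non-monomial frame group of determinant one has elements with entries `±1/2` on every four coordinates -/
theorem exists_halfOn {H : Subgroup (GL ι F)} (hH : Frame H) (h2 : (2 : F) ≠ 0) (hp : (Fintype.card F).Prime)
    (hodd : Odd (Fintype.card F)) (hdet : ∀ g ∈ H, (g : Matrix ι ι F).det = 1) (hn : 5 ≤ Fintype.card ι)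
    (hn8 : Fintype.card ι ≠ 8) (hnm : ∃ g ∈ H, ¬ Mono g) {T' : Finset ι} (hT' : T'.card = 4) :
    ∃ g ∈ H, HalfOn T' g := by
  classical
  obtain ⟨T, hT, g₀, hg₀, hg₀T, hg₀m⟩ := exists_four hH h2 hn hdet hn8 hnm
  let e : Fin 4 ≃ {x // x ∈ T} := (T.equivFinOfCardEq hT).symm
  let G : Subgroup (GL ι F) := H ⊓ fixOff T
  let res : G →* GL (Fin 4) F :=
    { toFun := fun g => ⟨resMat e g.1, resMat e g.1⁻¹,
        by rw [← resMat_mul h2 e (inv_mem (hH.le_iso g.2.1)) (inv_mem g.2.2), mul_inv_cancel, resMat_one],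
        by rw [← resMat_mul h2 e (hH.le_iso g.2.1) g.2.2, inv_mul_cancel, resMat_one]⟩
      map_one' := Units.ext (resMat_one e)
      map_mul' := fun a b => Units.ext (resMat_mul h2 e (hH.le_iso b.2.1) b.2.2) }
  have hact : ∀ (a : G) r s, ((res a : GL (Fin 4) F) : Matrix (Fin 4) (Fin 4) F) r s = act a.1 (bv (e s : ι)) (e r : ι) :=
    fun _ _ _ => rfl
  obtain ⟨kout, -, hkout⟩ : ∃ k ∈ (Finset.univ : Finset ι), k ∉ T :=
    Finset.exists_mem_notMem_of_card_lt_card (by rw [Finset.card_univ]; omega)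
  have hK : FrameFour res.range := by
    refine ⟨?_, ?_, fun a b hab => ?_, fun σ hσ => ?_, ?_⟩
    · rintro _ ⟨a, rfl⟩
      ext r s
      rw [Matrix.mul_apply, Matrix.one_apply]
      have h1 := iso_dot h2 (hH.le_iso a.2.1) (bv (e r : ι)) (bv (e s : ι))
      rw [dotProduct, ← Finset.sum_subset (Finset.subset_univ T) (fun k _ hk => by
        rw [act_suppV h2 (hH.le_iso a.2.1) a.2.2 (bv_suppV (e r).2) k hk, zero_mul]), ← Finset.sum_coe_sort T,
        ← Equiv.sum_comp e, bv_dot, bv_apply] at h1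
      simp only [Matrix.transpose_apply, hact]
      rw [h1]
      exact if_congr ⟨fun h => e.injective (Subtype.ext h), fun h => by rw [h]⟩ rfl rfl
    · rintro _ ⟨a, rfl⟩
      show (resMat e a.1).det = 1
      rw [← det_resMat h2 e (hH.le_iso a.2.1) a.2.2]
      exact hdet _ a.2.1
    · have hne : (e a : ι) ≠ e b := fun h => hab (e.injective (Subtype.ext h))
      refine ⟨⟨flp {(e a : ι), (e b : ι)}, hH.flp_mem _ _ hne, flp_fixOff (by simp [Finset.insert_subset_iff])⟩,
        Units.ext (Matrix.ext fun r s => ?_)⟩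
      rw [hact]
      show _ = Matrix.diagonal _ r s
      rw [flp_bv, Pi.smul_apply, smul_eq_mul, bv_apply, Matrix.diagonal_apply]
      rcases eq_or_ne r s with rfl | hrs
      · rw [if_pos rfl, mul_one, if_pos rfl]
        refine if_congr ?_ rfl rfl
        simp only [Finset.mem_insert, Finset.mem_singleton, Subtype.coe_inj, EmbeddingLike.apply_eq_iff_eq]
      · rw [if_neg fun h => hrs (e.injective (Subtype.ext h)), mul_zero, if_neg hrs]
    · refine ⟨⟨pm (Equiv.Perm.extendDomain σ e), hH.pm_mem _ (by rw [Equiv.Perm.sign_extendDomain, hσ]),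
        pm_fixOff fun k hk => Equiv.Perm.extendDomain_apply_not_subtype _ _ hk⟩, Units.ext (Matrix.ext fun r s => ?_)⟩
      rw [hact, pm_bv, Equiv.Perm.extendDomain_apply_image, bv_apply, pm_val]
      exact if_congr ⟨fun h => e.injective (Subtype.ext h), fun h => by rw [h]⟩ rfl rfl
    · rintro _ ⟨a, rfl⟩
      obtain ⟨D, hD⟩ : ∃ D : Finset ι, D = {(e 1 : ι), (e 2 : ι), (e 3 : ι), kout} := ⟨_, rfl⟩
      have hne : ∀ i, (e i : ι) ≠ kout := fun i h => hkout (h ▸ (e i).2)
      have hij : ∀ i j, i ≠ j → (e i : ι) ≠ e j := fun i j h h' => h (e.injective (Subtype.ext h'))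
      have hD4 : Even D.card := by
        rw [hD, Finset.card_insert_of_notMem (by simp [hij 1 2 (by decide), hij 1 3 (by decide), hne]),
          Finset.card_insert_of_notMem (by simp [hij 2 3 (by decide), hne]), Finset.card_pair (hne 3)]
        decide
      have hout : ∀ k, k ∉ T → k ∈ D → k = kout := fun k hk hkD => by
        rw [hD] at hkD
        simp only [Finset.mem_insert, Finset.mem_singleton] at hkD
        rcases hkD with rfl | rfl | rfl | rfl
        all_goals first | rfl | exact absurd (e _).2 hk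
      have hfix : flp D * a.1 * flp D ∈ fixOff T := fun k hk => by
        rw [act_mul, act_mul, flp_bv, act_smul, a.2.2 k hk, act_smul, flp_bv, smul_smul]
        split <;> simp
      refine ⟨⟨flp D * a.1 * flp D, mul_mem (mul_mem (hH.flp_even hD4) a.2.1) (hH.flp_even hD4), hfix⟩,
        Units.ext (Matrix.ext fun r s => ?_)⟩
      rw [hact, Units.val_mul, Units.val_mul]
      show _ = (Matrix.diagonal (fun i => if i ∈ ({1, 2, 3} : Finset (Fin 4)) then (-1 : F) else 1) * ((res a : GL (Fin 4) F) : Matrix (Fin 4) (Fin 4) F) * Matrix.diagonal (fun i => if i ∈ ({1, 2, 3} : Finset (Fin 4)) then (-1 : F) else 1) : Matrix (Fin 4) (Fin 4) F) r s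
      rw [Matrix.mul_diagonal, Matrix.diagonal_mul, hact, act_mul, act_mul, flp_bv, act_smul, act_smul, act_flp,
        Pi.smul_apply, smul_eq_mul]
      have hmem : ∀ i, (e i : ι) ∈ D ↔ i ∈ ({1, 2, 3} : Finset (Fin 4)) := fun i => by
        rw [hD]
        simp [Subtype.coe_inj, hne]
      simp only [hmem]
      split <;> split <;> ring
  have hnm4 : ∃ k ∈ res.range, ¬ Mono k := by
    refine ⟨res ⟨g₀, hg₀, hg₀T⟩, ⟨_, rfl⟩, fun hm => hg₀m fun j => ?_⟩
    by_cases hj : j ∈ T
    · obtain ⟨i, c, hc⟩ := hm (e.symm ⟨j, hj⟩)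
      refine ⟨e i, c, funext fun r => ?_⟩
      rw [Pi.smul_apply, smul_eq_mul, bv_apply]
      by_cases hr : r ∈ T
      · have h1 := congrFun hc (e.symm ⟨r, hr⟩)
        simp only [act, bv, Matrix.mulVec_single_one, Matrix.col_apply, hact, Equiv.apply_symm_apply, Pi.smul_apply,
          smul_eq_mul, Pi.single_apply] at h1
        simp only [act, bv, Matrix.mulVec_single_one, Matrix.col_apply]
        rw [h1]
        congr 1
        refine if_congr ⟨fun h => ?_, fun h => ?_⟩ rfl rfl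
        · rw [← h, Equiv.apply_symm_apply]
        · rw [Equiv.symm_apply_eq]; exact Subtype.ext h
      · rw [if_neg fun h : r = (e i : ι) => hr (h ▸ (e i).2), mul_zero]
        exact act_suppV h2 (hH.le_iso hg₀) hg₀T (bv_suppV hj) r hr
    · exact ⟨j, 1, by rw [hg₀T j hj, one_smul]⟩
  obtain ⟨_, ⟨a, rfl⟩, hhalf⟩ := hK.exists_half hp hodd h2 hnm4
  obtain ⟨σ, hσs, hσT⟩ := exists_even_map (hT.trans hT'.symm) (by omega)
  refine ⟨pm σ * a.1 * (pm σ)⁻¹, mul_mem (mul_mem (hH.pm_mem σ hσs) a.2.1) (inv_mem (hH.pm_mem σ hσs)),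
    fun k hk => ?_, fun r hr s hs => ?_⟩
  · rw [← map_inv, act_mul, act_mul, pm_bv, a.2.2 _ fun h => hk ?_, pm_bv, Equiv.Perm.inv_def, Equiv.apply_symm_apply]
    rw [← hσT, Finset.mem_map_equiv]
    exact h
  · rw [← hσT, Finset.mem_map_equiv] at hr hs
    rw [← map_inv, act_mul, act_mul, pm_bv, act_pm]
    have h1 := hhalf (e.symm ⟨σ.symm r, hr⟩) (e.symm ⟨σ.symm s, hs⟩)
    rw [hact, Equiv.apply_symm_apply, Equiv.apply_symm_apply] at h1
    exact h1

end CfsgLib.Perm.Trans.OrthFrame
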