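import Mathlib
import Cfsg.Agent.Lib.Perm.Trans.OrthFrame.HalfElem

/-!
# Reflection products reached from elements with entries `±1/2`

A descent over integer vectors of norm a power of four.
-/

set_option autoImplicit false
set_option linter.all false

namespace CfsgLib.Perm.Trans.OrthFrame

open scoped Matrix
open Matrix Cfsg.Geo CfsgLib.Perm.Trans

variable {ι : Type} [Fintype ι] [DecidableEq ι] {F : Type*} [Field F] [DecidableEq F]

/-- the reflection in a vector of norm one -/
def rf (v : ι → F) : GL ι F :=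
  if hv : v ⬝ᵥ v = 1 then
    have h : (1 - (2 : F) • vecMulVec v v) * (1 - (2 : F) • vecMulVec v v) = (1 : Matrix ι ι F) := by
      have e : vecMulVec v v * vecMulVec v v = vecMulVec v v := by
        rw [vecMulVec_mul_vecMulVec, hv, one_smul]
      rw [sub_mul, one_mul, mul_sub, mul_one, Matrix.smul_mul, Matrix.mul_smul, e, smul_smul]
      module
    ⟨1 - (2 : F) • vecMulVec v v, 1 - (2 : F) • vecMulVec v v, h, h⟩
  else 1

theorem act_rf {v : ι → F} (hv : v ⬝ᵥ v = 1) (x : ι → F) : act (rf v) x = x - (2 * (x ⬝ᵥ v)) • v := by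
  rw [act, rf, dif_pos hv]
  show (1 - (2 : F) • vecMulVec v v) *ᵥ x = _
  rw [sub_mulVec, one_mulVec, smul_mulVec, vecMulVec_mulVec, op_smul_eq_smul, smul_smul, dotProduct_comm]

theorem rf_sq {v : ι → F} (hv : v ⬝ᵥ v = 1) : rf v * rf v = 1 := gl_ext_bv fun i => by
  rw [act_mul, act_rf hv, act_rf hv, act_one, sub_dotProduct, smul_dotProduct, hv, smul_eq_mul]
  module

theorem rf_inv {v : ι → F} (hv : v ⬝ᵥ v = 1) : (rf v)⁻¹ = rf v := inv_eq_of_mul_eq_one_right (rf_sq hv)

theorem rf_iso {v : ι → F} (hv : v ⬝ᵥ v = 1) : rf v ∈ Cfsg.isometryGroup F (stdQ : (ι → F) → F) :=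
  Quad.mem_iso.2 fun x => by
    show act (rf v) x ⬝ᵥ act (rf v) x = x ⬝ᵥ x
    rw [act_rf hv]
    simp only [sub_dotProduct, dotProduct_sub, smul_dotProduct, dotProduct_smul, hv, dotProduct_comm v x, smul_eq_mul]
    ring

theorem rf_conj (h2 : (2 : F) ≠ 0) {g : GL ι F} (hg : g ∈ Cfsg.isometryGroup F (stdQ : (ι → F) → F)) {v : ι → F}
    (hv : v ⬝ᵥ v = 1) : g * rf v * g⁻¹ = rf (act g v) := gl_ext_bv fun i => by
  have hv' : act g v ⬝ᵥ act g v = 1 := by rw [iso_dot h2 hg, hv]
  rw [act_mul, act_mul, act_rf hv, act_rf hv', act_sub, act_smul, act_inv', ← iso_dot h2 hg (act g⁻¹ (bv i)) v,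
    act_inv']

theorem rf_bv (j : ι) : rf (bv j : ι → F) = flp {j} := gl_ext_bv fun i => by
  rw [act_rf (by rw [dot_bv, bv_apply, if_pos rfl]), flp_bv, dot_bv, bv_apply]
  by_cases h : j = i
  · subst h; rw [if_pos rfl, if_pos (Finset.mem_singleton_self j)]; module
  · rw [if_neg h, if_neg (by simp [Ne.symm h])]; simp

/-- the subgroup generated by the elements living on four coordinates -/
def halfGen (H : Subgroup (GL ι F)) : Subgroup (GL ι F) :=
  Subgroup.closure {g | g ∈ H ∧ ∃ T : Finset ι, T.card ≤ 4 ∧ g ∈ fixOff T}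

/-- the norm-one vectors whose reflections agree with that of `e` modulo `halfGen H` -/
def InS (H : Subgroup (GL ι F)) (e : ι) (z : ι → F) : Prop := z ⬝ᵥ z = 1 ∧ rf (bv e) * rf z ∈ halfGen H

/-- the hypotheses of the descent -/
structure Halved (H : Subgroup (GL ι F)) : Prop where
  frame : Frame H
  two : (2 : F) ≠ 0
  five : 5 ≤ Fintype.card ι
  half : ∀ T : Finset ι, T.card = 4 → ∃ g ∈ H, HalfOn T g

variable {H : Subgroup (GL ι F)}

omit [DecidableEq F] in
theorem halfGen_le : halfGen H ≤ H := (Subgroup.closure_le _).2 fun g hg => hg.1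

omit [DecidableEq F] in
theorem Halved.pair_mem (hH : Halved H) {a b : ι} (hab : a ≠ b) : flp {a, b} ∈ halfGen H :=
  Subgroup.subset_closure ⟨hH.frame.flp_mem a b hab, {a, b}, Finset.card_le_two.trans (by norm_num),
    flp_fixOff subset_rfl⟩

omit [DecidableEq F] in
theorem Halved.conj_flp_mem (hH : Halved H) (j : ι) {g : GL ι F} (hg : g ∈ halfGen H) :
    flp {j} * g * flp {j} ∈ halfGen H := by
  induction hg using Subgroup.closure_induction with
  | mem x hx =>
    obtain ⟨hxH, T, hT, hxT⟩ := hx
    by_cases hfull : (insert j T).card = Fintype.card ι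
    · -- the coordinate `j` is fixed by `x`
      have hj : j ∉ T := fun h => by
        rw [Finset.insert_eq_of_mem h] at hfull
        have := hH.five
        omega
      have hcomm : flp {j} * x = x * flp {j} := gl_ext_bv fun i => by
        rw [act_mul, act_mul, flp_bv, act_smul]
        by_cases hi : i = j
        · subst hi
          rw [hxT i hj, flp_bv]
        · rw [if_neg (by simp [hi]), one_smul, act_flp]
          funext r
          by_cases hr : r ∈ ({j} : Finset ι)
          · rw [if_pos hr, Finset.mem_singleton.1 hr, ← dot_bv (act x (bv i)) j, ← hxT j hj,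
              iso_dot hH.two (hH.frame.le_iso hxH), dot_bv, bv_apply, if_neg (Ne.symm hi), neg_zero]
          · rw [if_neg hr]
      rw [hcomm, mul_assoc, flp_sq, mul_one]
      exact Subgroup.subset_closure ⟨hxH, T, hT, hxT⟩
    obtain ⟨k, -, hk⟩ : ∃ k ∈ (Finset.univ : Finset ι), k ∉ insert j T := Finset.exists_mem_notMem_of_card_lt_card (by
      have := Finset.card_le_univ (insert j T)
      rw [Finset.card_univ]; omega)
    rw [Finset.mem_insert, not_or] at hk
    have e : flp {j} * x * flp {j} = flp {j, k} * x * flp {j, k} := gl_ext_bv fun i => by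
      rw [act_mul, act_mul, act_mul, act_mul, flp_bv, flp_bv, act_smul, act_smul, act_smul, act_smul]
      by_cases hi : i = k
      · subst hi
        rw [hxT i hk.2, flp_bv, flp_bv, if_neg (by simp [hk.1]), if_pos (by simp)]
        simp
      · have hiff : i ∈ ({j, k} : Finset ι) ↔ i ∈ ({j} : Finset ι) := by simp [hi]
        simp only [hiff]
        congr 1
        have hx0 : act x (bv i : ι → F) k = 0 := by
          rw [← dot_bv (act x (bv i)) k, ← hxT k hk.2, iso_dot hH.two (hH.frame.le_iso hxH), dot_bv, bv_apply,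
            if_neg (Ne.symm hi)]
        funext r
        rw [act_flp, act_flp]
        by_cases hr : r = k
        · subst hr; simp [hx0]
        · simp [hr]
    refine Subgroup.subset_closure ⟨e ▸ mul_mem (mul_mem (hH.frame.flp_mem j k (Ne.symm hk.1)) hxH)
      (hH.frame.flp_mem j k (Ne.symm hk.1)), T, hT, fun r hr => ?_⟩
    rw [act_mul, act_mul, flp_bv, act_smul, hxT r hr, act_smul, flp_bv, smul_smul]
    split <;> simp
  | one => rw [mul_one, flp_sq]; exact one_mem _
  | mul x y _ _ hx hy =>
    rw [show flp {j} * (x * y) * flp {j} = flp {j} * x * (flp {j} * flp {j}) * y * flp {j} by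
      rw [flp_sq, mul_one]; group]
    rw [show flp {j} * x * (flp {j} * flp {j}) * y * flp {j} = flp {j} * x * flp {j} * (flp {j} * y * flp {j}) by group]
    exact mul_mem hx hy
  | inv x _ hx =>
    rw [show flp {j} * x⁻¹ * flp {j} = (flp {j} * x * flp {j})⁻¹ by
      rw [_root_.mul_inv_rev, _root_.mul_inv_rev, flp_inv]; group]
    exact inv_mem hx

theorem Halved.inS_act (hH : Halved H) {e : ι} {z : ι → F} (hz : InS H e z) {g : GL ι F} (hg : g ∈ halfGen H) :
    InS H e (act g z) := by
  have hgiso := hH.frame.le_iso (halfGen_le hg)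
  refine ⟨by rw [iso_dot hH.two hgiso, hz.1], ?_⟩
  rw [← rf_conj hH.two hgiso hz.1, rf_bv]
  have h1 := hH.conj_flp_mem e hg
  rw [show flp {e} * (g * rf z * g⁻¹) = flp {e} * g * flp {e} * (flp {e} * rf z) * g⁻¹ by
    rw [mul_assoc (flp {e} * g), ← mul_assoc (flp {e}) (flp {e}), flp_sq, one_mul]; group]
  exact mul_mem (mul_mem h1 (rf_bv (F := F) e ▸ hz.2)) (inv_mem hg)

theorem Halved.inS_bv (hH : Halved H) (e j : ι) : InS H e (bv j : ι → F) := by
  refine ⟨by rw [dot_bv, bv_apply, if_pos rfl], ?_⟩
  rw [rf_bv, rf_bv]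
  by_cases h : e = j
  · subst h; rw [flp_sq]; exact one_mem _
  · rw [flp_mul]
    convert hH.pair_mem h using 2
    ext x
    simp only [Finset.mem_symmDiff, Finset.mem_singleton, Finset.mem_insert]
    refine ⟨fun hx => hx.elim (fun h' => Or.inl h'.1) (fun h' => Or.inr h'.1), ?_⟩
    rintro (rfl | rfl)
    · exact Or.inl ⟨rfl, h⟩
    · exact Or.inr ⟨rfl, Ne.symm h⟩

theorem Halved.inS_flp_one (hH : Halved H) {e : ι} {z : ι → F} (hz : InS H e z) (j : ι) :
    InS H e (act (flp {j}) z) := by
  refine ⟨by rw [iso_dot hH.two (flp_iso _), hz.1], ?_⟩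
  rw [← rf_conj hH.two (flp_iso _) hz.1, flp_inv, rf_bv]
  have h1 := hH.conj_flp_mem j hz.2
  rw [rf_bv] at h1
  rwa [show flp {e} * (flp {j} * rf z * flp {j}) = flp {j} * (flp {e} * rf z) * flp {j} by
    rw [← mul_assoc, ← mul_assoc, flp_mul, symmDiff_comm, ← flp_mul]; group]

theorem Halved.inS_flp (hH : Halved H) {e : ι} {z : ι → F} (hz : InS H e z) (D : Finset ι) :
    InS H e (act (flp D) z) := by
  induction D using Finset.induction_on with
  | empty => rw [flp_empty, act_one]; exact hz
  | @insert a D ha ih =>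
    have h := hH.inS_flp_one ih a
    rw [← act_mul, flp_mul] at h
    convert h using 3
    ext x
    simp only [Finset.mem_symmDiff, Finset.mem_singleton, Finset.mem_insert]
    constructor
    · rintro (rfl | hx)
      · exact Or.inl ⟨rfl, ha⟩
      · exact Or.inr ⟨hx, fun h' => ha (h' ▸ hx)⟩
    · rintro (⟨h', -⟩ | ⟨h', -⟩)
      exacts [Or.inl h', Or.inr h']

/-- small integers not vanishing in an odd characteristic -/
theorem small_int_ne {p : ℕ} [CharP F p] (hp : p.Prime) (h2 : (2 : F) ≠ 0) {n : ℤ} (hn : n = 2 ∨ n = -2 ∨ n = 4 ∨ n = -4) :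
    (n : F) ≠ 0 := by
  have h4 : (4 : F) ≠ 0 := by rw [show (4 : F) = 2 * 2 by norm_num]; exact mul_ne_zero h2 h2
  rcases hn with rfl | rfl | rfl | rfl <;> push_cast <;> simp [h2, h4]

/-- four signs with vanishing sum in `F` vanish in `ℤ` -/
theorem sum_signs_eq_zero (h2 : (2 : F) ≠ 0) {κ : Type} (T : Finset κ) (hT : T.card = 4) {f : κ → ℤ}
    (hf : ∀ s ∈ T, f s = 1 ∨ f s = -1) (h : ((∑ s ∈ T, f s : ℤ) : F) = 0) : ∑ s ∈ T, f s = 0 := by
  classical
  have h4 : (4 : F) ≠ 0 := by rw [show (4 : F) = 2 * 2 by norm_num]; exact mul_ne_zero h2 h2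
  obtain ⟨A, hA⟩ : ∃ A, A = T.filter fun s => f s = 1 := ⟨_, rfl⟩
  have hsum : ∑ s ∈ T, f s = 2 * (A.card : ℤ) - 4 := by
    rw [Finset.sum_congr rfl fun s hs => show f s = 2 * (if f s = 1 then 1 else 0) - 1 by
      rcases hf s hs with e | e <;> simp [e]]
    rw [Finset.sum_sub_distrib, ← Finset.mul_sum, Finset.sum_boole, ← hA, Finset.sum_const, hT]
    norm_num
  have hA4 : A.card ≤ 4 := hT ▸ hA ▸ Finset.card_filter_le _ _
  rw [hsum] at h ⊢
  interval_cases hc : A.card
  · exact absurd h (by push_cast; norm_num [h4])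
  · exact absurd h (by push_cast; norm_num [h2])
  · norm_num
  · exact absurd h (by push_cast; norm_num [h2])
  · exact absurd h (by push_cast; norm_num [h4])

theorem odd_sq_mod_eight {a : ℤ} (ha : Odd a) : a ^ 2 % 4 = 1 := by
  obtain ⟨k, rfl⟩ := ha
  have e : (2 * k + 1) ^ 2 = 4 * (k * k + k) + 1 := by ring
  rw [e]; omega

/-- the vector of an integer vector scaled by `2 ^ (-k)` -/
def scaled (k : ℕ) (y : ι → ℤ) : ι → F := fun i => (y i : F) / 2 ^ k

theorem Halved.inS_scaled (hH : Halved H) (e : ι) :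
    ∀ (k : ℕ) (y : ι → ℤ), ∑ i, y i ^ 2 = 4 ^ k → InS H e (scaled k y : ι → F) := by
  classical
  have h2 := hH.two
  intro k
  induction k with
  | zero =>
    intro y hy
    rw [pow_zero] at hy
    obtain ⟨j, hj⟩ : ∃ j, y j ≠ 0 := by
      by_contra h
      push Not at h
      simp [h] at hy
    have hle := Finset.single_le_sum (f := fun i => y i ^ 2) (fun i _ => sq_nonneg _) (Finset.mem_univ j)
    simp only [hy] at hle
    have hjj : y j = 1 ∨ y j = -1 := by
      have h1 : 1 ≤ y j ^ 2 := by rcases lt_or_gt_of_ne hj with h | h <;> nlinarith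
      exact sq_eq_one_iff.1 (le_antisymm hle h1)
    have hzero : ∀ i, i ≠ j → y i = 0 := fun i hi => by
      have h1 : y i ^ 2 + y j ^ 2 ≤ 1 := by
        rw [← hy, ← Finset.sum_pair hi (f := fun i => y i ^ 2)]
        exact Finset.sum_le_sum_of_subset_of_nonneg (Finset.subset_univ _) fun _ _ _ => sq_nonneg _
      have hsq : y j ^ 2 = 1 := by rcases hjj with h | h <;> rw [h] <;> norm_num
      exact sq_eq_zero_iff.1 (le_antisymm (by omega) (sq_nonneg _))
    rcases hjj with h | h
    · convert hH.inS_bv e j using 1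
      funext i
      by_cases hi : i = j
      · subst hi; simp [scaled, h]
      · simp [scaled, hzero i hi, bv_apply, hi]
    · convert hH.inS_flp_one (hH.inS_bv e j) j using 1
      rw [act_flp]
      funext i
      by_cases hi : i = j
      · subst hi; simp [scaled, h]
      · simp [scaled, hzero i hi, bv_apply, hi]
  | succ k ihk =>
    intro y hy
    induction hN : (Finset.univ.filter fun i => Odd (y i)).card using Nat.strong_induction_on generalizing y with
    | _ N ihN =>
    obtain ⟨O, hO⟩ : ∃ O, O = Finset.univ.filter fun i => Odd (y i) := ⟨_, rfl⟩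
    rw [← hO] at hN
    rcases Nat.eq_zero_or_pos N with rfl | hpos
    · -- all entries are even
      have hev : ∀ i, ∃ c, y i = 2 * c := fun i => by
        have : i ∉ O := by rw [Finset.card_eq_zero.1 hN]; simp
        rw [hO, Finset.mem_filter] at this
        obtain ⟨c, hc⟩ := Int.not_odd_iff_even.1 fun h => this ⟨Finset.mem_univ i, h⟩
        exact ⟨c, by omega⟩
      choose c hc using hev
      have hsum : ∑ i, c i ^ 2 = 4 ^ k := by
        have : 4 * ∑ i, c i ^ 2 = 4 * 4 ^ k := by
          rw [Finset.mul_sum, ← pow_succ' 4 k, ← hy]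
          exact Finset.sum_congr rfl fun i _ => by rw [hc i]; ring
        omega
      convert ihk c hsum using 1
      funext i
      simp only [scaled, hc i, pow_succ]
      push_cast
      field_simp
    -- four odd entries
    have h4 : N % 4 = 0 := by
      have h1 : (∑ i, y i ^ 2) % 4 = (N : ℤ) % 4 := by
        rw [Finset.sum_int_mod, Finset.sum_congr rfl (fun i _ => show y i ^ 2 % 4 = if Odd (y i) then 1 else 0 by
          by_cases h : Odd (y i)
          · rw [if_pos h, odd_sq_mod_eight h]
          · rw [if_neg h]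
            obtain ⟨c, hc⟩ := Int.not_odd_iff_even.1 h
            rw [hc, show (c + c) ^ 2 = 4 * (c * c) by ring]; omega), Finset.sum_boole, ← hO, hN]
      rw [hy, pow_succ] at h1
      omega
    obtain ⟨T, hTO, hT⟩ := Finset.exists_subset_card_eq (s := O) (n := 4) (by omega)
    obtain ⟨g, hg, hgT, hgh⟩ := hH.half T hT
    have hgen : g ∈ halfGen H := Subgroup.subset_closure ⟨hg, T, hT.le, hgT⟩
    obtain ⟨r₀, hr₀⟩ : T.Nonempty := Finset.card_pos.1 (by omega)
    obtain ⟨ε, hε, hεg⟩ : ∃ ε : ι → ι → ℤ, (∀ r s, ε r s = 1 ∨ ε r s = -1) ∧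
        ∀ r ∈ T, ∀ s ∈ T, act g (bv s) r = (ε r s : F) / 2 := by
      refine ⟨fun r s => if 2 * act g (bv s) r = (1 : F) then 1 else -1,
        fun r s => (em (2 * act g (bv s) r = (1 : F))).imp (fun h => if_pos h) (fun h => if_neg h), fun r hr s hs => ?_⟩
      rcases sq_eq_one_iff.1 (hgh r hr s hs) with h | h
      · dsimp only; rw [if_pos h, Int.cast_one, eq_div_iff h2, mul_comm, h]
      · have hne : ¬ (2 * act g (bv s) r = (1 : F)) := by
          rw [h]; exact fun e => h2 (by linear_combination -e)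
        dsimp only; rw [if_neg hne, Int.cast_neg, Int.cast_one, eq_div_iff h2, mul_comm, h]
    have hisoG := hH.frame.le_iso hg
    have hsupp : ∀ s ∈ T, SuppV T (act g (bv s) : ι → F) := fun s hs => act_suppV h2 hisoG hgT (bv_suppV hs)
    have hcols : ∀ s ∈ T, ∀ s' ∈ T, s ≠ s' → ∑ r ∈ T, ε r s * ε r s' = 0 := by
      intro s hs s' hs' hne
      refine sum_signs_eq_zero h2 T hT (fun r _ => by
        rcases hε r s with a | a <;> rcases hε r s' with b | b <;> simp [a, b]) ?_
      have h1 := iso_dot h2 hisoG (bv s) (bv s')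
      rw [dotProduct, ← Finset.sum_subset (Finset.subset_univ T) (fun r _ hr => by rw [hsupp s hs r hr, zero_mul]),
        bv_dot, bv_apply, if_neg hne] at h1
      rw [Finset.sum_congr rfl fun r hr => show act g (bv s) r * act g (bv s') r =
        ((ε r s * ε r s' : ℤ) : F) / 4 by rw [hεg r hr s hs, hεg r hr s' hs']; push_cast; rw [div_mul_div_comm]; norm_num,
        ← Finset.sum_div, div_eq_zero_iff, or_iff_left (by
          rw [show (4 : F) = 2 * 2 by norm_num]; exact mul_ne_zero h2 h2)] at h1
      push_cast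
      push_cast at h1
      exact h1
    have hrows : ∀ r ∈ T, r ≠ r₀ → ∑ s ∈ T, ε r s * ε r₀ s = 0 := by
      intro r hr hne
      refine sum_signs_eq_zero h2 T hT (fun s _ => by
        rcases hε r s with a | a <;> rcases hε r₀ s with b | b <;> simp [a, b]) ?_
      have hiso' := inv_mem hisoG
      have hT' : g⁻¹ ∈ fixOff T := inv_mem hgT
      have hent : ∀ s r, act g⁻¹ (bv r : ι → F) s = act g (bv s) r := fun s r => by
        rw [← dot_bv (act g⁻¹ (bv r)) s, ← iso_dot h2 hisoG, act_inv', bv_dot]
      have h1 := iso_dot h2 hiso' (bv r) (bv r₀)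
      rw [dotProduct, ← Finset.sum_subset (Finset.subset_univ T)
        (fun s _ hs => by rw [act_suppV h2 hiso' hT' (bv_suppV hr) s hs, zero_mul]),
        bv_dot, bv_apply, if_neg hne] at h1
      rw [Finset.sum_congr rfl fun s hs => show act g⁻¹ (bv r) s * act g⁻¹ (bv r₀) s =
        ((ε r s * ε r₀ s : ℤ) : F) / 4 by rw [hent, hent, hεg r hr s hs, hεg r₀ hr₀ s hs]; push_cast; rw [div_mul_div_comm]; norm_num,
        ← Finset.sum_div, div_eq_zero_iff, or_iff_left (by
          rw [show (4 : F) = 2 * 2 by norm_num]; exact mul_ne_zero h2 h2)] at h1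
      push_cast
      push_cast at h1
      exact h1
    -- arrange signs
    obtain ⟨D, hD⟩ : ∃ D, D = T.filter fun s => (ε r₀ s * y s) % 4 ≠ 1 := ⟨_, rfl⟩
    obtain ⟨w, hw⟩ : ∃ w : ι → ℤ, w = fun s => if s ∈ D then -y s else y s := ⟨_, rfl⟩
    have hDT : D ⊆ T := hD ▸ Finset.filter_subset _ _
    have hwodd : ∀ s, Odd (w s) ↔ Odd (y s) := fun s => by
      rw [hw]; dsimp only
      split <;> simp
    have hw1 : ∀ s ∈ T, (ε r₀ s * w s) % 4 = 1 := fun s hs => by
      have hodd : Odd (y s) := by
        have := hTO hs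
        rw [hO, Finset.mem_filter] at this
        exact this.2
      obtain ⟨c, hc⟩ := hodd
      by_cases h : (ε r₀ s * y s) % 4 ≠ 1
      · have : s ∈ D := by rw [hD, Finset.mem_filter]; exact ⟨hs, h⟩
        rw [hw]; dsimp only
        rw [if_pos this]
        rcases hε r₀ s with a | a <;> rw [a] at h ⊢ <;> omega
      · have : s ∉ D := by rw [hD, Finset.mem_filter]; exact fun hh => h hh.2
        rw [hw]; dsimp only
        rw [if_neg this]
        exact not_not.1 h
    have hrow4 : ∀ r ∈ T, (4 : ℤ) ∣ ∑ s ∈ T, ε r s * w s := by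
      intro r hr
      have h1 : (4 : ℤ) ∣ ∑ s ∈ T, (ε r s * w s - ε r s * ε r₀ s) := Finset.dvd_sum fun s hs => by
        obtain ⟨c, hc⟩ : ∃ c, ε r₀ s * w s = 4 * c + 1 := ⟨(ε r₀ s * w s) / 4, by
          have := hw1 s hs; omega⟩
        have hw' : w s = ε r₀ s * (4 * c + 1) := by
          rcases hε r₀ s with a | a <;> rw [a] at hc ⊢ <;> omega
        exact ⟨ε r s * ε r₀ s * c, by rw [hw']; ring⟩
      have h3 : (4 : ℤ) ∣ ∑ s ∈ T, ε r s * ε r₀ s := by
        by_cases hrr : r = r₀
        · subst hrr
          rw [Finset.sum_congr rfl fun s _ => show ε r s * ε r s = 1 by rcases hε r s with a | a <;> simp [a],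
            Finset.sum_const, hT]
          norm_num
        · rw [hrows r hr hrr]; exact dvd_zero _
      rw [Finset.sum_sub_distrib] at h1
      exact (dvd_sub_left h3).1 h1
    choose! q hq using hrow4
    obtain ⟨y', hy'⟩ : ∃ y' : ι → ℤ, y' = fun r => if r ∈ T then 2 * q r else w r := ⟨_, rfl⟩
    have hwsum : ∑ i, w i ^ 2 = 4 ^ (k + 1) := by
      rw [← hy]
      exact Finset.sum_congr rfl fun i _ => by rw [hw]; dsimp only; split <;> ring
    have hnorm : ∑ i, y' i ^ 2 = 4 ^ (k + 1) := by
      rw [← hwsum, ← Finset.sum_add_sum_compl T, ← Finset.sum_add_sum_compl T (fun i => w i ^ 2)]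
      congr 1
      · have h1 : 4 * ∑ i ∈ T, y' i ^ 2 = 4 * ∑ i ∈ T, w i ^ 2 := by
          calc 4 * ∑ r ∈ T, y' r ^ 2 = ∑ r ∈ T, (∑ s ∈ T, ε r s * w s) * ∑ s' ∈ T, ε r s' * w s' := by
                rw [Finset.mul_sum]
                refine Finset.sum_congr rfl fun r hr => ?_
                rw [hy', hq r hr]; dsimp only; rw [if_pos hr]; ring
            _ = ∑ s ∈ T, ∑ s' ∈ T, w s * w s' * ∑ r ∈ T, ε r s * ε r s' := by
                rw [Finset.sum_congr (s₁ := T) rfl fun r _ =>
                  Finset.sum_mul_sum T T (fun s => ε r s * w s) (fun s' => ε r s' * w s'), Finset.sum_comm]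
                refine Finset.sum_congr rfl fun s _ => ?_
                rw [Finset.sum_comm]
                refine Finset.sum_congr rfl fun s' _ => ?_
                rw [Finset.mul_sum]
                exact Finset.sum_congr rfl fun r _ => by ring
            _ = 4 * ∑ s ∈ T, w s ^ 2 := by
                rw [Finset.mul_sum]
                refine Finset.sum_congr rfl fun s hs => ?_
                rw [Finset.sum_eq_single s (fun s' hs' hne => by rw [hcols s hs s' hs' (Ne.symm hne), mul_zero])
                  (fun h => absurd hs h)]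
                have h44 : ∑ r ∈ T, ε r s * ε r s = 4 := by
                  calc ∑ r ∈ T, ε r s * ε r s = ∑ r ∈ T, (1 : ℤ) :=
                        Finset.sum_congr rfl fun r _ => by rcases hε r s with a | a <;> simp [a]
                    _ = 4 := by rw [Finset.sum_const, hT]; rfl
                rw [h44]
                ring
        omega
      · exact Finset.sum_congr rfl fun i hi => by rw [hy']; dsimp only; rw [if_neg (Finset.mem_compl.1 hi)]
    have hfewer : (Finset.univ.filter fun i => Odd (y' i)).card < N := by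
      rw [← hN]
      refine Finset.card_lt_card ((Finset.ssubset_iff_of_subset fun i hi => ?_).2 ⟨r₀, hTO hr₀, ?_⟩)
      · rw [Finset.mem_filter, hy'] at hi
        dsimp only at hi
        by_cases hiT : i ∈ T
        · exact hTO hiT
        · rw [if_neg hiT, hwodd] at hi
          rw [hO, Finset.mem_filter]; exact hi
      · rw [Finset.mem_filter, hy']
        dsimp only
        rw [if_pos hr₀]
        simp
    have hS := hH.inS_flp (hH.inS_act (ihN _ hfewer y' hnorm rfl) (inv_mem hgen)) D
    have e1 : act g (scaled (k + 1) w : ι → F) = scaled (k + 1) y' := by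
      have ew : (scaled (k + 1) w : ι → F) = ∑ i, (scaled (k + 1) w : ι → F) i • bv i := by
        exact pi_eq_sum_univ' _
      funext r
      rw [ew, act, mulVec_sum, Finset.sum_apply, ← Finset.sum_add_sum_compl T]
      rw [Finset.sum_congr rfl (s₁ := T) fun s hs => show ((g : Matrix ι ι F) *ᵥ ((scaled (k + 1) w : ι → F) s • bv s)) r =
        ((scaled (k + 1) w : ι → F) s • act g (bv s)) r from congrFun (mulVec_smul _ _ _) r]
      rw [Finset.sum_congr rfl (s₁ := Tᶜ) fun s hs => show ((g : Matrix ι ι F) *ᵥ ((scaled (k + 1) w : ι → F) s • bv s)) r =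
        ((scaled (k + 1) w : ι → F) s • bv s) r by rw [mulVec_smul]; exact congrFun (congrArg _ (hgT s (Finset.mem_compl.1 hs))) r]
      simp only [Pi.smul_apply, smul_eq_mul, bv_apply]
      by_cases hr : r ∈ T
      · rw [Finset.sum_eq_zero (s := Tᶜ) fun s hs => by
          rw [if_neg fun h : r = s => (Finset.mem_compl.1 hs) (h ▸ hr), mul_zero], add_zero]
        rw [Finset.sum_congr rfl fun s hs => show (scaled (k + 1) w : ι → F) s * act g (bv s) r =
          ((ε r s * w s : ℤ) : F) / (2 ^ (k + 1) * 2) by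
          simp only [scaled]; rw [hεg r hr s hs, div_mul_div_comm]; push_cast; ring, ← Finset.sum_div, ← Int.cast_sum, hq r hr]
        simp only [scaled, hy', if_pos hr]
        push_cast
        field_simp
        ring
      · rw [Finset.sum_eq_zero (s := T) fun s hs => by rw [hsupp s hs r hr, mul_zero], zero_add,
          Finset.sum_eq_single r (fun s _ hne => by rw [if_neg (Ne.symm hne), mul_zero])
            (fun h => absurd (Finset.mem_compl.2 hr) h), if_pos rfl, mul_one]
        simp only [scaled, hy', if_neg hr]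
    rw [← e1, act_inv] at hS
    convert hS using 1
    funext i
    rw [act_flp]
    simp only [scaled, hw]
    by_cases hi : i ∈ D <;> simp [hi, neg_div]

end CfsgLib.Perm.Trans.OrthFrame
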