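import Mathlib
import Cfsg.Agent.Lib.Perm.Trans.OrthFrame.Descent

/-!
# Lifting vectors of norm one to integer vectors of norm a power of four
-/

set_option autoImplicit false
set_option linter.all false

namespace CfsgLib.Perm.Trans.OrthFrame

open scoped Matrix
open Matrix Cfsg.Geo CfsgLib.Perm.Trans

variable {ι : Type} [Fintype ι] [DecidableEq ι] {F : Type*} [Field F] [DecidableEq F]

omit [DecidableEq ι] [DecidableEq F] in
theorem natrep [Fintype F] {p : ℕ} [CharP F p] (hp : Fintype.card F = p) (x : F) : ∃ a < p, (a : F) = x := by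
  have hinj : Function.Injective fun a : Fin p => ((a : ℕ) : F) := fun a b h =>
    Fin.ext (CharP.natCast_injOn_Iio F p (Set.mem_Iio.2 a.2) (Set.mem_Iio.2 b.2) h)
  obtain ⟨a, ha⟩ := ((Fintype.bijective_iff_injective_and_card _).2 ⟨hinj, by rw [Fintype.card_fin, hp]⟩).2 x
  exact ⟨a, a.2, ha⟩

/-- an integer vector built from given values on `R` and four squares on four further coordinates -/
theorem exists_int_vec (R : Finset ι) {c : Fin 4 → ι} (hc : Function.Injective c) (hcR : ∀ i, c i ∉ R) (A : ι → ℕ)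
    {d N : ℕ} (hd : ∑ i ∈ R, A i ^ 2 ≤ N) {q : ℕ} (hq : N - ∑ i ∈ R, A i ^ 2 = d ^ 2 * q) :
    ∃ y : ι → ℤ, ∑ i, y i ^ 2 = N ∧ (∀ i ∈ R, y i = A i) ∧ (∀ i ∉ R, (d : ℤ) ∣ y i) ∧
      ∀ i ∉ R, i ∉ Finset.univ.image c → y i = 0 := by
  classical
  obtain ⟨a, b, e, f, hsum⟩ := Nat.sum_four_squares q
  obtain ⟨v, hv⟩ : ∃ v : Fin 4 → ℤ, v = ![(a : ℤ), b, e, f] := ⟨_, rfl⟩
  refine ⟨fun i => if i ∈ R then (A i : ℤ) else ∑ t, if c t = i then (d : ℤ) * v t else 0, ?_, fun i hi => if_pos hi,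
    fun i hi => ?_, fun i hi hi' => ?_⟩
  · rw [← Finset.sum_add_sum_compl R, Finset.sum_congr rfl (s₁ := R) (g := fun i => (A i : ℤ) ^ 2) fun i hi => by dsimp only; rw [if_pos hi]]
    have hsub : Finset.univ.image c ⊆ Rᶜ := fun x hx => by
      obtain ⟨t, -, rfl⟩ := Finset.mem_image.1 hx
      exact Finset.mem_compl.2 (hcR t)
    rw [← Finset.sum_subset hsub fun x hx hx' => by
      dsimp only; rw [if_neg (Finset.mem_compl.1 hx), Finset.sum_eq_zero fun t _ => if_neg fun h : c t = x => hx' (h ▸ Finset.mem_image_of_mem c (Finset.mem_univ t)),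
        zero_pow two_ne_zero], Finset.sum_image fun _ _ _ _ h => hc h,
      Finset.sum_congr rfl (s₁ := (Finset.univ : Finset (Fin 4))) (g := fun t => ((d : ℤ) * v t) ^ 2) fun t _ => by
        dsimp only; rw [if_neg (hcR t), Finset.sum_eq_single t (fun s _ hs => if_neg fun h => hs (hc h))
          (fun h => absurd (Finset.mem_univ t) h), if_pos rfl], Fin.sum_univ_four, hv]
    have e1 : N = ∑ i ∈ R, A i ^ 2 + d ^ 2 * (a ^ 2 + b ^ 2 + e ^ 2 + f ^ 2) := by rw [hsum, ← hq]; omega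
    rw [e1]
    push_cast
    simp
    ring
  · dsimp only
    rw [if_neg hi]
    exact Finset.dvd_sum fun t _ => by split <;> simp
  · dsimp only
    rw [if_neg hi]
    exact Finset.sum_eq_zero fun t _ => if_neg fun h : c t = i => hi' (h ▸ Finset.mem_image_of_mem c (Finset.mem_univ t))

variable [Fintype F] {H : Subgroup (GL ι F)}

/-- every norm-one vector leaving four coordinates zero is reached -/
theorem Halved.inS_of_supp (hH : Halved H) (hp : (Fintype.card F).Prime) (e : ι) {x : ι → F} (hx : x ⬝ᵥ x = 1)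
    {R : Finset ι} (hR : R.card + 4 ≤ Fintype.card ι) (hxR : SuppV R x) : InS H e x := by
  classical
  obtain ⟨p, hpe⟩ : ∃ p, Fintype.card F = p := ⟨_, rfl⟩
  haveI : CharP F p := by
    obtain ⟨c, hc⟩ := CharP.exists F
    obtain ⟨n, hcp, hcn⟩ := FiniteField.card F c
    have : Fintype.card F = c := ((Nat.prime_dvd_prime_iff_eq hcp hp).1 (hcn ▸ dvd_pow_self c n.ne_zero)).symm
    rwa [← hpe, this]
  rw [hpe] at hp
  have h2 := hH.two
  obtain ⟨j₀, hj₀⟩ : ∃ j, x j ≠ 0 := by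
    by_contra h
    push Not at h
    rw [show x = 0 from funext h, zero_dotProduct] at hx
    exact zero_ne_one hx
  have hj₀R : j₀ ∈ R := by by_contra h; exact hj₀ (hxR j₀ h)
  obtain ⟨m, hm⟩ : ∃ m, Fintype.card ι * (p ^ 2) ^ 2 ≤ 4 ^ m :=
    ⟨_, ((Nat.lt_pow_self (by norm_num : 1 < 4)).le)⟩
  have hrep := fun i => natrep hpe ((2 : F) ^ m * x i)
  choose A hA hAx using hrep
  have hsumF : ((∑ i ∈ R, A i ^ 2 : ℕ) : F) = (4 : F) ^ m := by
    push_cast
    simp only [hAx, mul_pow]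
    rw [← Finset.mul_sum, ← pow_mul, mul_comm m 2, pow_mul, show ((2 : F) ^ 2) = 4 by norm_num]
    have : ∑ i ∈ R, x i ^ 2 = 1 := by
      rw [← hx, dotProduct, ← Finset.sum_subset (Finset.subset_univ R) (fun i _ hi => by rw [hxR i hi, mul_zero])]
      exact Finset.sum_congr rfl fun i _ => pow_two _
    rw [this, mul_one]
  have hbound : ∀ B : ι → ℕ, (∀ i, B i ≤ p ^ 2) → ∑ i ∈ R, B i ^ 2 ≤ 4 ^ m := fun B hB => by
    refine le_trans ?_ hm
    calc ∑ i ∈ R, B i ^ 2 ≤ ∑ i ∈ R, (p ^ 2) ^ 2 := Finset.sum_le_sum fun i _ => Nat.pow_le_pow_left (hB i) 2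
      _ = R.card * (p ^ 2) ^ 2 := by rw [Finset.sum_const, smul_eq_mul]
      _ ≤ Fintype.card ι * (p ^ 2) ^ 2 := Nat.mul_le_mul_right _ (Finset.card_le_univ R)
  have hp1 : p ≤ p ^ 2 := Nat.le_self_pow two_ne_zero p
  have hle := hbound A fun i => (hA i).le.trans hp1
  obtain ⟨d, hd⟩ : p ∣ 4 ^ m - ∑ i ∈ R, A i ^ 2 := by
    rw [← CharP.cast_eq_zero_iff F p, Nat.cast_sub hle, hsumF]
    push_cast; ring
  -- adjust one coordinate
  have hA0 : (A j₀ : F) ≠ 0 := by rw [hAx]; exact mul_ne_zero (pow_ne_zero _ h2) hj₀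
  obtain ⟨s, hs, hsF⟩ := natrep hpe ((d : F) / (2 * (A j₀ : F)))
  obtain ⟨B, hB⟩ : ∃ B : ι → ℕ, B = fun i => if i = j₀ then A i + p * s else A i := ⟨_, rfl⟩
  have hBb : ∀ i, B i ≤ p ^ 2 := fun i => by
    rw [hB]; dsimp only
    split
    · have h1 := hA i
      have h3 : p * s + p ≤ p * p := by
        calc p * s + p = p * (s + 1) := by ring
          _ ≤ p * p := Nat.mul_le_mul_left p hs
      rw [pow_two]; omega
    · exact (hA i).le.trans hp1
  have hleB := hbound B hBb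
  obtain ⟨d', hd'⟩ : p ∣ d - (2 * A j₀ * s + p * s ^ 2) := by
    by_cases hle' : 2 * A j₀ * s + p * s ^ 2 ≤ d
    · rw [← CharP.cast_eq_zero_iff F p, Nat.cast_sub hle']
      push_cast
      rw [hsF, CharP.cast_eq_zero F p]
      field_simp
      ring
    · rw [Nat.sub_eq_zero_of_le (by omega)]; exact dvd_zero _
  have hBsum : ∑ i ∈ R, B i ^ 2 = ∑ i ∈ R, A i ^ 2 + p * (2 * A j₀ * s + p * s ^ 2) := by
    rw [← Finset.add_sum_erase R (fun i => B i ^ 2) hj₀R, ← Finset.add_sum_erase R (fun i => A i ^ 2) hj₀R,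
      Finset.sum_congr rfl (s₁ := R.erase j₀) (g := fun i => A i ^ 2) fun i hi => by
        rw [hB]; dsimp only; rw [if_neg (Finset.mem_erase.1 hi).1]]
    rw [hB]; dsimp only; rw [if_pos rfl]; ring
  have hq : 4 ^ m - ∑ i ∈ R, B i ^ 2 = p ^ 2 * d' := by
    rw [pow_two, mul_assoc, ← hd', Nat.mul_sub, ← hd, hBsum, Nat.sub_add_eq]
  obtain ⟨C, hCR, hC⟩ := Finset.exists_subset_card_eq (s := Rᶜ) (n := 4) (by rw [Finset.card_compl]; omega)
  let c : Fin 4 → ι := fun t => ((C.equivFinOfCardEq hC).symm t : ι)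
  obtain ⟨y, hy, hyR, hyo, -⟩ := exists_int_vec R (c := c) (Subtype.val_injective.comp (Equiv.injective _))
    (fun t => Finset.mem_compl.1 (hCR ((C.equivFinOfCardEq hC).symm t).2)) B hleB hq
  convert hH.inS_scaled e m y (by rw [hy]; push_cast; rfl) using 1
  funext i
  simp only [scaled]
  by_cases hi : i ∈ R
  · have e1 : (B i : F) = A i := by
      rw [hB]; dsimp only
      split
      · push_cast; rw [CharP.cast_eq_zero F p]; ring
      · rfl
    rw [hyR i hi, Int.cast_natCast, e1, hAx, mul_div_cancel_left₀ _ (pow_ne_zero _ h2)]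
  · obtain ⟨t, ht⟩ := hyo i hi
    rw [hxR i hi, ht]
    push_cast
    rw [CharP.cast_eq_zero F p]; simp

/-- prescribed values on some coordinates extend to a reached vector -/
theorem Halved.exists_inS (hH : Halved H) (hp : (Fintype.card F).Prime) (e : ι) (x : ι → F) (R : Finset ι)
    {T : Finset ι} (hT : T.card = 4) (hTR : Disjoint T R) :
    ∃ z, InS H e z ∧ (∀ i ∈ R, z i = x i) ∧ SuppV (R ∪ T) z := by
  classical
  obtain ⟨p, hpe⟩ : ∃ p, Fintype.card F = p := ⟨_, rfl⟩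
  haveI : CharP F p := by
    obtain ⟨c, hc⟩ := CharP.exists F
    obtain ⟨n, hcp, hcn⟩ := FiniteField.card F c
    have : Fintype.card F = c := ((Nat.prime_dvd_prime_iff_eq hcp hp).1 (hcn ▸ dvd_pow_self c n.ne_zero)).symm
    rwa [← hpe, this]
  have h2 := hH.two
  obtain ⟨m, hm⟩ : ∃ m, Fintype.card ι * p ^ 2 ≤ 4 ^ m := ⟨_, ((Nat.lt_pow_self (by norm_num : 1 < 4)).le)⟩
  have hrep := fun i => natrep hpe ((2 : F) ^ m * x i)
  choose A hA hAx using hrep
  have hle : ∑ i ∈ R, A i ^ 2 ≤ 4 ^ m := by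
    refine le_trans ?_ hm
    calc ∑ i ∈ R, A i ^ 2 ≤ ∑ i ∈ R, p ^ 2 := Finset.sum_le_sum fun i _ => Nat.pow_le_pow_left (hA i).le 2
      _ = R.card * p ^ 2 := by rw [Finset.sum_const, smul_eq_mul]
      _ ≤ Fintype.card ι * p ^ 2 := Nat.mul_le_mul_right _ (Finset.card_le_univ R)
  let c : Fin 4 → ι := fun t => ((T.equivFinOfCardEq hT).symm t : ι)
  obtain ⟨y, hy, hyR, -, hyz⟩ := exists_int_vec R (c := c) (Subtype.val_injective.comp (Equiv.injective _))
    (fun t => Finset.disjoint_left.1 hTR ((T.equivFinOfCardEq hT).symm t).2) A (d := 1) hle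
    (q := 4 ^ m - ∑ i ∈ R, A i ^ 2) (by rw [one_pow, one_mul])
  refine ⟨scaled m y, hH.inS_scaled e m y (by rw [hy]; push_cast; rfl), fun i hi => ?_, fun i hi => ?_⟩
  · simp only [scaled]
    rw [hyR i hi, Int.cast_natCast, hAx, mul_div_cancel_left₀ _ (pow_ne_zero _ h2)]
  · rw [Finset.mem_union, not_or] at hi
    simp only [scaled]
    rw [hyz i hi.1 fun h => by
      obtain ⟨t, -, rfl⟩ := Finset.mem_image.1 h
      exact hi.2 ((T.equivFinOfCardEq hT).symm t).2, Int.cast_zero, zero_div]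

end CfsgLib.Perm.Trans.OrthFrame
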