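import Mathlib
import Cfsg.Agent.Lib.Perm.Trans.OrthFrame.Lift
import Cfsg.Agent.Lib.Perm.Trans.QuadMax

/-!
# Half-integral elements generate `Ω` of the standard form
-/

set_option autoImplicit false
set_option linter.all false

namespace CfsgLib.Perm.Trans.OrthFrame

open scoped Matrix
open Matrix Cfsg.Geo CfsgLib.Perm.Trans

variable {ι : Type} [Fintype ι] [DecidableEq ι] {F : Type*} [Field F]

omit [DecidableEq ι] in
theorem pol_stdQ (x y : ι → F) : QuadraticMap.polar (stdQ : (ι → F) → F) x y = 2 * (x ⬝ᵥ y) := by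
  simp only [QuadraticMap.polar, stdQ, add_dotProduct, dotProduct_add, dotProduct_comm y x]
  ring

theorem stdQ_nd (h2 : (2 : F) ≠ 0) : IsNondegenerateQuadraticForm (stdQ : (ι → F) → F) := by
  refine ⟨fun c v => by simp only [stdQ, smul_dotProduct, dotProduct_smul, smul_eq_mul]; ring,
    ⟨?_, ?_, ?_, ?_⟩, fun v hv => ?_⟩
  · intro x y v; simp only [pol_stdQ, add_dotProduct]; ring
  · intro c x v; simp only [pol_stdQ, smul_dotProduct, smul_eq_mul]; ring
  · intro v x y; simp only [pol_stdQ, dotProduct_add]; ring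
  · intro c v x; simp only [pol_stdQ, dotProduct_smul, smul_eq_mul]; ring
  · obtain ⟨i, hi⟩ := Function.ne_iff.1 hv
    exact ⟨⟨bv i, by rw [pol_stdQ, bv_dot]; exact mul_ne_zero h2 hi⟩,
      ⟨bv i, by rw [pol_stdQ, dot_bv]; exact mul_ne_zero h2 hi⟩⟩

variable [Fintype F] [DecidableEq F] {H : Subgroup (GL ι F)} {e : ι} {a : ι → F}

/-- the Eichler transformation from two reached vectors differing by a singular vector orthogonal to one -/
theorem Halved.ein_of_inS (hH : Halved H) {w : ι → F} (hw : InS H e w) (hz : InS H e (w + a)) (haa : a ⬝ᵥ a = 0)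
    (haw : a ⬝ᵥ w = 0) : Quad.EIn (stdQ : (ι → F) → F) (halfGen H) a w := by
  have he1 : (bv e : ι → F) ⬝ᵥ bv e = 1 := (hH.inS_bv e e).1
  refine ⟨rf w * rf (w + a), ?_, fun x => ?_⟩
  · have h1 := mul_mem (inv_mem hw.2) hz.2
    rwa [_root_.mul_inv_rev, rf_inv he1, rf_inv hw.1, mul_assoc, ← mul_assoc (rf (bv e)) (rf (bv e)), rf_sq he1,
      one_mul] at h1
  · show act (rf w * rf (w + a)) x = _
    rw [act_mul, act_rf hz.1, act_rf hw.1, pol_stdQ, pol_stdQ]
    simp only [stdQ, sub_dotProduct, smul_dotProduct, smul_eq_mul, dotProduct_add, add_dotProduct, hw.1, haw]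
    module

/-- the vectors orthogonal to `a` whose transformations at `a` are reached -/
def centreSpace (hQ : IsNondegenerateQuadraticForm (stdQ : (ι → F) → F)) (hp : (Fintype.card F).Prime)
    (h2 : (2 : F) ≠ 0) (M : Subgroup (GL ι F)) (haa : a ⬝ᵥ a = 0) : Submodule F (ι → F) where
  carrier := {x | a ⬝ᵥ x = 0 ∧ Quad.EIn (stdQ : (ι → F) → F) M a x}
  zero_mem' := ⟨dotProduct_zero _, by
    have := Quad.EIn.smul_self hQ M (u := a) haa 0
    rwa [zero_smul] at this⟩
  add_mem' := fun {x y} hx hy => ⟨by rw [dotProduct_add, hx.1, hy.1, add_zero],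
    Quad.EIn.add hQ haa (by rw [pol_stdQ, hx.1, mul_zero]) (by rw [pol_stdQ, hy.1, mul_zero]) hx.2 hy.2⟩
  smul_mem' := fun c x hx => by
    refine ⟨by rw [dotProduct_smul, hx.1, smul_zero], ?_⟩
    obtain ⟨p, hpe⟩ : ∃ p, Fintype.card F = p := ⟨_, rfl⟩
    haveI : CharP F p := by
      obtain ⟨c', hc⟩ := CharP.exists F
      obtain ⟨n, hcp, hcn⟩ := FiniteField.card F c'
      have : Fintype.card F = c' := ((Nat.prime_dvd_prime_iff_eq hcp hp).1 (hcn ▸ dvd_pow_self c' n.ne_zero)).symm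
      rwa [← hpe, this]
    obtain ⟨n, -, rfl⟩ := natrep hpe c
    induction n with
    | zero =>
      rw [Nat.cast_zero, zero_smul]
      have := Quad.EIn.smul_self hQ M (u := a) haa 0
      rwa [zero_smul] at this
    | succ n ih =>
      rw [Nat.cast_succ, add_smul, one_smul]
      exact Quad.EIn.add hQ haa (by rw [pol_stdQ, dotProduct_smul, hx.1, smul_zero, mul_zero])
        (by rw [pol_stdQ, hx.1, mul_zero]) ih hx.2

/-- the data of a centre -/
structure CentreData (H : Subgroup (GL ι F)) (e : ι) (a : ι → F) : Prop where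
  halved : Halved H
  prime : (Fintype.card F).Prime
  self : a ⬝ᵥ a = 0
  zero : a e = 0
  e_mem : Quad.EIn (stdQ : (ι → F) → F) (halfGen H) a (bv e)

/-- the submodule attached to centre data -/
def CentreData.space (d : CentreData H e a) : Submodule F (ι → F) :=
  centreSpace (stdQ_nd d.halved.two) d.prime d.halved.two (halfGen H) d.self

theorem CentreData.bv_mem (d : CentreData H e a) : bv e ∈ d.space := ⟨by rw [dot_bv, d.zero], d.e_mem⟩

/-- a reached vector orthogonal to `a` moves the space -/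
theorem CentreData.move (d : CentreData H e a) {w x : ι → F} (hw : InS H e w) (haw : a ⬝ᵥ w = 0) (hx : x ∈ d.space) :
    act (rf (bv e)) (act (rf w) x) ∈ d.space := by
  have he1 : (bv e : ι → F) ⬝ᵥ bv e = 1 := (d.halved.inS_bv e e).1
  have hgiso : rf (bv e) * rf w ∈ Cfsg.isometryGroup F (stdQ : (ι → F) → F) := mul_mem (rf_iso he1) (rf_iso hw.1)
  have hga : act (rf (bv e) * rf w) a = a := by
    rw [act_mul, act_rf hw.1, haw]
    simp only [mul_zero, zero_smul, sub_zero]
    rw [act_rf he1, dot_bv, d.zero]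
    simp
  refine ⟨?_, ?_⟩
  · rw [← act_mul]
    conv_lhs => rw [← hga]
    rw [iso_dot d.halved.two hgiso, hx.1]
  · have h1 := Quad.EIn.conj hx.2 hgiso hw.2
    rw [← act_mul]
    rwa [show (((rf (bv e) * rf w : GL ι F) : Matrix ι ι F) *ᵥ a) = a from hga] at h1

theorem CentreData.mem_of_inS (d : CentreData H e a) {w : ι → F} (hw : InS H e w) (haw : a ⬝ᵥ w = 0) (hwe : w e ≠ 0) :
    w ∈ d.space := by
  have he1 : (bv e : ι → F) ⬝ᵥ bv e = 1 := (d.halved.inS_bv e e).1
  have h1 := d.move hw haw d.bv_mem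
  rw [act_rf hw.1, bv_dot, act_sub, act_smul, act_rf he1, act_rf he1, dot_bv, bv_apply, if_pos rfl, dot_bv] at h1
  have h3 : (2 * w e) • w ∈ d.space := by
    have h4 := d.space.sub_mem (d.space.smul_mem (4 * w e * w e - 1) d.bv_mem) h1
    convert h4 using 1
    module
  have := d.space.smul_mem (2 * w e)⁻¹ h3
  rwa [smul_smul, inv_mul_cancel₀ (mul_ne_zero d.halved.two hwe), one_smul] at this

/-- the coordinate description of the orthogonal of `a` gives all its transformations -/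
theorem CentreData.centre (d : CentreData H e a) {i₁ : ι} {T : Finset ι} (hi₁ : i₁ ∉ T) (ha1 : a i₁ = 1)
    (hasupp : SuppV (insert i₁ T) a) (hout : ∀ l ∉ insert i₁ T, bv l ∈ d.space)
    (hv : ∀ j ∈ T, a j • bv i₁ - bv j ∈ d.space) {x : ι → F} (hx : a ⬝ᵥ x = 0) :
    Quad.EIn (stdQ : (ι → F) → F) (halfGen H) a x := by
  suffices x ∈ d.space from this.2
  obtain ⟨y, hy⟩ : ∃ y, y = x + ∑ j ∈ T, x j • (a j • bv i₁ - bv j) := ⟨_, rfl⟩
  have hy0 : ∀ r ∈ insert i₁ T, y r = 0 := by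
    intro r hr
    rw [hy, Pi.add_apply, Finset.sum_apply]
    rcases Finset.mem_insert.1 hr with rfl | hr
    · rw [dotProduct, ← Finset.sum_subset (Finset.subset_univ (insert r T)) (fun k _ hk => by rw [hasupp k hk, zero_mul]),
        Finset.sum_insert hi₁, ha1, one_mul] at hx
      rw [← hx]
      congr 1
      refine Finset.sum_congr rfl fun j hj => ?_
      have hjr : r ≠ j := fun h => hi₁ (h ▸ hj)
      simp [bv_apply, hjr, mul_comm]
    · have hri : r ≠ i₁ := fun h => hi₁ (h ▸ hr)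
      rw [Finset.sum_eq_single r (fun j _ hj => by simp [bv_apply, hri, Ne.symm hj]) (fun h => absurd hr h)]
      simp [bv_apply, hri]
  have hymem : y ∈ d.space := by
    rw [show y = ∑ l, y l • bv l from pi_eq_sum_univ' y]
    refine Submodule.sum_mem _ fun l _ => ?_
    by_cases hl : l ∈ insert i₁ T
    · rw [hy0 l hl, zero_smul]; exact zero_mem _
    · exact d.space.smul_mem _ (hout l hl)
  have hx' : x = y - ∑ j ∈ T, x j • (a j • bv i₁ - bv j) := by rw [hy, add_sub_cancel_right]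
  rw [hx']
  exact d.space.sub_mem hymem (Submodule.sum_mem _ fun j hj => d.space.smul_mem _ (hv j hj))

omit [Fintype F] [DecidableEq F] in
theorem sum_five {M : Type*} [AddCommMonoid M] {u : Fin 5 → ι} (hu : Function.Injective u) (g : ι → M)
    (hg : ∀ i, (¬ ∃ j, u j = i) → g i = 0) : ∑ i, g i = g (u 0) + g (u 1) + g (u 2) + g (u 3) + g (u 4) := by
  rw [← Finset.sum_subset (Finset.subset_univ (Finset.univ.image u)) (fun i _ hi => hg i fun ⟨j, hj⟩ =>
    hi (hj ▸ Finset.mem_image_of_mem u (Finset.mem_univ j))), Finset.sum_image fun _ _ _ _ h => hu h,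
    Fin.sum_univ_five]

/-- from dimension five on a centre comes from a representation by four squares and its quaternion multiples -/
theorem Halved.exists_centre_squares (hH : Halved H) (hp : (Fintype.card F).Prime) :
    ∃ (a : ι → F) (i₁ l : ι), a ⬝ᵥ a = 0 ∧ a i₁ ≠ 0 ∧ a l = 0 ∧
      ∀ x, a ⬝ᵥ x = 0 → Quad.EIn (stdQ : (ι → F) → F) (halfGen H) a x := by
  classical
  obtain ⟨p, hpe⟩ : ∃ p, Fintype.card F = p := ⟨_, rfl⟩
  haveI : CharP F p := by
    obtain ⟨c', hc⟩ := CharP.exists F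
    obtain ⟨n, hcp, hcn⟩ := FiniteField.card F c'
    have : Fintype.card F = c' := ((Nat.prime_dvd_prime_iff_eq hcp hp).1 (hcn ▸ dvd_pow_self c' n.ne_zero)).symm
    rwa [← hpe, this]
  rw [hpe] at hp
  have h2 := hH.two
  obtain ⟨U, -, hU⟩ := Finset.exists_subset_card_eq (s := (Finset.univ : Finset ι)) (n := 5)
    (by rw [Finset.card_univ]; exact hH.five)
  obtain ⟨u, hu⟩ : ∃ u : Fin 5 → ι, Function.Injective u :=
    ⟨fun t => ((U.equivFinOfCardEq hU).symm t : ι), Subtype.val_injective.comp (Equiv.injective _)⟩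
  have hext : ∀ f g : ι → F, (∀ j, f (u j) = g (u j)) → (∀ i, (¬ ∃ j, u j = i) → f i = g i) → f = g :=
    fun f g h1 h3 => funext fun i => by
      by_cases hi : ∃ j, u j = i
      · obtain ⟨j, rfl⟩ := hi; exact h1 j
      · exact h3 i hi
  have houtbv : ∀ i, (¬ ∃ j, u j = i) → ∀ k, (bv (u k) : ι → F) i = 0 := fun i hi k => by
    rw [bv_apply, if_neg fun h => hi ⟨k, h.symm⟩]
  obtain ⟨m, hm⟩ : ∃ m, (2 * p) ^ 2 ≤ 4 ^ m := ⟨_, (Nat.lt_pow_self (by norm_num : 1 < 4)).le⟩
  obtain ⟨A, hA, hAx⟩ := natrep hpe ((2 : F) ^ m)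
  have hA0 : (A : F) ≠ 0 := by rw [hAx]; exact pow_ne_zero _ h2
  -- a square root with the remainder not divisible by `p ^ 2`
  obtain ⟨B, hB, hBx, hBp⟩ : ∃ B : ℕ, B ^ 2 ≤ 4 ^ m ∧ (B : F) = (2 : F) ^ m ∧ ¬ p ^ 2 ∣ 4 ^ m - B ^ 2 := by
    have hA1 : A ^ 2 ≤ 4 ^ m := le_trans (Nat.pow_le_pow_left (by omega) 2) hm
    have hA2 : (A + p) ^ 2 ≤ 4 ^ m := le_trans (Nat.pow_le_pow_left (by omega) 2) hm
    by_cases hd : p ^ 2 ∣ 4 ^ m - A ^ 2
    · refine ⟨A + p, hA2, by push_cast; rw [CharP.cast_eq_zero F p, add_zero, hAx], fun hd' => hA0 ?_⟩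
      have h3 := Nat.dvd_sub hd hd'
      have h4 : 4 ^ m - A ^ 2 - (4 ^ m - (A + p) ^ 2) = p * (2 * A + p) := by
        have e : (A + p) ^ 2 = A ^ 2 + p * (2 * A + p) := by ring
        omega
      rw [h4, pow_two] at h3
      have h5 := (CharP.cast_eq_zero_iff F p _).2 (Nat.dvd_of_mul_dvd_mul_left hp.pos h3)
      push_cast at h5
      rw [CharP.cast_eq_zero F p, add_zero] at h5
      exact (mul_eq_zero.1 h5).resolve_left h2
    · exact ⟨A, hA1, hAx, hd⟩
  obtain ⟨v₀, v₁, v₂, v₃, hsum⟩ := Nat.sum_four_squares (4 ^ m - B ^ 2)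
  let mk : ℤ → ℤ → ℤ → ℤ → (ι → ℤ) := fun a b c d => Function.extend u ![(B : ℤ), a, b, c, d] 0
  have hreach : ∀ a b c d : ℤ, a ^ 2 + b ^ 2 + c ^ 2 + d ^ 2 = v₀ ^ 2 + v₁ ^ 2 + v₂ ^ 2 + v₃ ^ 2 →
      InS H (u 0) (scaled m (mk a b c d) : ι → F) := fun a b c d h => hH.inS_scaled (u 0) m _ (by
    rw [sum_five hu _ fun i hi => by simp [mk, Function.extend_apply' _ _ _ hi]]
    simp only [mk, hu.extend_apply]
    have e : ((B : ℤ) ^ 2 + ((v₀ : ℤ) ^ 2 + (v₁ : ℤ) ^ 2 + (v₂ : ℤ) ^ 2 + (v₃ : ℤ) ^ 2)) = 4 ^ m := by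
      have : B ^ 2 + (v₀ ^ 2 + v₁ ^ 2 + v₂ ^ 2 + v₃ ^ 2) = 4 ^ m := by omega
      exact_mod_cast this
    simp only [Matrix.cons_val_zero, Matrix.cons_val_one, Matrix.cons_val_two, Matrix.cons_val_three,
      Matrix.cons_val_four, Matrix.head_cons, Matrix.tail_cons]
    linear_combination e + h)
  obtain ⟨z, hz⟩ : ∃ z : ι → F, z = scaled m (mk v₀ v₁ v₂ v₃) := ⟨_, rfl⟩
  have hzS : InS H (u 0) z := hz ▸ hreach _ _ _ _ rfl
  have h2m : (2 : F) ^ m ≠ 0 := pow_ne_zero _ h2
  have hz0 : z (u 0) = 1 := by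
    rw [hz]; simp [scaled, mk, hBx, h2m, hu.extend_apply]
  obtain ⟨a, ha⟩ : ∃ a, a = z - bv (u 0) := ⟨_, rfl⟩
  have ha0 : a (u 0) = 0 := by rw [ha, Pi.sub_apply, hz0, bv_apply, if_pos rfl, sub_self]
  have haa : a ⬝ᵥ a = 0 := by
    rw [ha, sub_dotProduct, dotProduct_sub, dotProduct_sub, hzS.1, dot_bv, bv_dot, dot_bv, hz0, bv_apply, if_pos rfl]
    ring
  have hval : ∀ t : Fin 4, a (u t.succ) = ((![(v₀ : ℤ), v₁, v₂, v₃] t : ℤ) : F) / 2 ^ m := fun t => by
    rw [ha, Pi.sub_apply, hz, bv_apply, if_neg (fun h => Fin.succ_ne_zero t (hu h)), sub_zero]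
    simp [scaled, mk, hu.extend_apply]
  have haout : ∀ i, (¬ ∃ j, u j = i) → a i = 0 := fun i hi => by
    rw [ha, Pi.sub_apply, houtbv i hi, sub_zero, hz]
    simp [scaled, mk, Function.extend_apply' _ _ _ hi]
  obtain ⟨t, ht⟩ : ∃ t : Fin 4, a (u t.succ) ≠ 0 := by
    by_contra hcon
    push Not at hcon
    refine hBp ?_
    have hd : ∀ w : ℕ, ((w : ℤ) : F) / 2 ^ m = 0 → p ∣ w := fun w hw => by
      rw [div_eq_zero_iff, or_iff_left h2m, Int.cast_natCast, CharP.cast_eq_zero_iff F p] at hw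
      exact hw
    obtain ⟨c₀, hc₀⟩ := hd v₀ (by have := hval 0; rw [hcon] at this; simpa using this.symm)
    obtain ⟨c₁, hc₁⟩ := hd v₁ (by have := hval 1; rw [hcon] at this; simpa using this.symm)
    obtain ⟨c₂, hc₂⟩ := hd v₂ (by have := hval 2; rw [hcon] at this; simpa using this.symm)
    obtain ⟨c₃, hc₃⟩ := hd v₃ (by have := hval 3; rw [hcon] at this; simpa using this.symm)
    rw [← hsum, hc₀, hc₁, hc₂, hc₃]
    exact ⟨c₀ ^ 2 + c₁ ^ 2 + c₂ ^ 2 + c₃ ^ 2, by ring⟩
  have d : CentreData H (u 0) a := ⟨hH, hpe ▸ hp, haa, ha0,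
    hH.ein_of_inS (hH.inS_bv (u 0) (u 0)) (by rw [ha, add_sub_cancel]; exact hzS) haa (by rw [dot_bv, ha0])⟩
  -- orthogonal integral vectors
  have horth : ∀ a' b' c' d' : ℤ, a' ^ 2 + b' ^ 2 + c' ^ 2 + d' ^ 2 = v₀ ^ 2 + v₁ ^ 2 + v₂ ^ 2 + v₃ ^ 2 →
      (v₀ : ℤ) * a' + v₁ * b' + v₂ * c' + v₃ * d' = 0 →
      (fun i => (Function.extend u ![0, (a' : F), b', c', d'] 0 i) / 2 ^ m) ∈ d.space := by
    intro a' b' c' d' hn' ho
    have hw := hreach a' b' c' d' hn'
    have hwe : (scaled m (mk a' b' c' d') : ι → F) (u 0) = 1 := by simp [scaled, mk, hBx, h2m, hu.extend_apply]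
    have hmem := d.mem_of_inS hw (by
      rw [dotProduct, sum_five hu (fun i => a i * (scaled m (mk a' b' c' d') : ι → F) i) (fun i hi => by simp [haout i hi]), ha0, show u 1 = u (Fin.succ 0) from rfl, show u 2 = u (Fin.succ 1) from rfl,
        show u 3 = u (Fin.succ 2) from rfl, show u 4 = u (Fin.succ 3) from rfl, hval, hval, hval, hval]
      have ho' : (v₀ : F) * a' + v₁ * b' + v₂ * c' + v₃ * d' = 0 := by exact_mod_cast congrArg (Int.cast : ℤ → F) ho
      simp [scaled, mk, hu.extend_apply]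
      field_simp
      linear_combination ho') (by rw [hwe]; exact one_ne_zero)
    convert d.space.sub_mem hmem d.bv_mem using 1
    refine hext _ _ (fun j => ?_) fun i hi => by
      simp [scaled, mk, houtbv i hi, Function.extend_apply' _ _ _ hi]
    rw [Pi.sub_apply, bv_apply]
    simp only [hu.eq_iff, scaled, mk, hu.extend_apply]
    fin_cases j <;> simp [hBx, h2m]
  have L0 := horth (-v₁) v₀ (-v₃) v₂ (by ring) (by ring)
  have R0 := horth (-v₁) v₀ v₃ (-v₂) (by ring) (by ring)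
  have L1 := horth (-v₂) v₃ v₀ (-v₁) (by ring) (by ring)
  have R1 := horth (-v₂) (-v₃) v₀ v₁ (by ring) (by ring)
  have L2 := horth (-v₃) (-v₂) v₁ v₀ (by ring) (by ring)
  have R2 := horth (-v₃) v₂ (-v₁) v₀ (by ring) (by ring)
  have hskew : ∀ i j : Fin 4, a (u i.succ) • bv (u j.succ) - a (u j.succ) • bv (u i.succ) ∈ d.space := by
    have half : ∀ (P Q : ι → F) (y : ι → F), P ∈ d.space → Q ∈ d.space → (2 : F) • y = P + Q → y ∈ d.space :=
      fun P Q y hP hQ e => (d.space.smul_mem_iff h2).1 (e ▸ d.space.add_mem hP hQ)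
    have half' : ∀ (P Q : ι → F) (y : ι → F), P ∈ d.space → Q ∈ d.space → (2 : F) • y = P - Q → y ∈ d.space :=
      fun P Q y hP hQ e => (d.space.smul_mem_iff h2).1 (e ▸ d.space.sub_mem hP hQ)
    have h01 : a (u 1) • bv (u 2) - a (u 2) • bv (u 1) ∈ d.space := half _ _ _ L0 R0 (by
      rw [show u 1 = u (Fin.succ 0) from rfl, show u 2 = u (Fin.succ 1) from rfl, hval, hval]
      refine hext _ _ (fun j => ?_) fun i hi => by simp [houtbv i hi, Function.extend_apply' _ _ _ hi]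
      fin_cases j <;> simp [bv_apply, hu.eq_iff, hu.extend_apply] <;> ring)
    have h23 : a (u 3) • bv (u 4) - a (u 4) • bv (u 3) ∈ d.space := half' _ _ _ L0 R0 (by
      rw [show u 3 = u (Fin.succ 2) from rfl, show u 4 = u (Fin.succ 3) from rfl, hval, hval]
      refine hext _ _ (fun j => ?_) fun i hi => by simp [houtbv i hi, Function.extend_apply' _ _ _ hi]
      fin_cases j <;> simp [bv_apply, hu.eq_iff, hu.extend_apply] <;> ring)
    have h02 : a (u 1) • bv (u 3) - a (u 3) • bv (u 1) ∈ d.space := half _ _ _ L1 R1 (by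
      rw [show u 1 = u (Fin.succ 0) from rfl, show u 3 = u (Fin.succ 2) from rfl, hval, hval]
      refine hext _ _ (fun j => ?_) fun i hi => by simp [houtbv i hi, Function.extend_apply' _ _ _ hi]
      fin_cases j <;> simp [bv_apply, hu.eq_iff, hu.extend_apply] <;> ring)
    have h13 : a (u 2) • bv (u 4) - a (u 4) • bv (u 2) ∈ d.space := half' _ _ _ R1 L1 (by
      rw [show u 2 = u (Fin.succ 1) from rfl, show u 4 = u (Fin.succ 3) from rfl, hval, hval]
      refine hext _ _ (fun j => ?_) fun i hi => by simp [houtbv i hi, Function.extend_apply' _ _ _ hi]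
      fin_cases j <;> simp [bv_apply, hu.eq_iff, hu.extend_apply] <;> ring)
    have h03 : a (u 1) • bv (u 4) - a (u 4) • bv (u 1) ∈ d.space := half _ _ _ L2 R2 (by
      rw [show u 1 = u (Fin.succ 0) from rfl, show u 4 = u (Fin.succ 3) from rfl, hval, hval]
      refine hext _ _ (fun j => ?_) fun i hi => by simp [houtbv i hi, Function.extend_apply' _ _ _ hi]
      fin_cases j <;> simp [bv_apply, hu.eq_iff, hu.extend_apply] <;> ring)
    have h12 : a (u 2) • bv (u 3) - a (u 3) • bv (u 2) ∈ d.space := half' _ _ _ L2 R2 (by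
      rw [show u 2 = u (Fin.succ 1) from rfl, show u 3 = u (Fin.succ 2) from rfl, hval, hval]
      refine hext _ _ (fun j => ?_) fun i hi => by simp [houtbv i hi, Function.extend_apply' _ _ _ hi]
      fin_cases j <;> simp [bv_apply, hu.eq_iff, hu.extend_apply] <;> ring)
    intro i j
    fin_cases i <;> fin_cases j <;>
      first
      | (rw [sub_self]; exact d.space.zero_mem)
      | exact h01 | exact h23 | exact h02 | exact h13 | exact h03 | exact h12
      | (rw [← neg_sub]; first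
          | exact d.space.neg_mem h01 | exact d.space.neg_mem h23 | exact d.space.neg_mem h02
          | exact d.space.neg_mem h13 | exact d.space.neg_mem h03 | exact d.space.neg_mem h12)
  -- the coordinate vectors outside the five
  have hout : ∀ l, (¬ ∃ j : Fin 4, u j.succ = l) → bv l ∈ d.space := by
    intro l hl
    rcases eq_or_ne l (u 0) with rfl | hl0
    · exact d.bv_mem
    have hl' : ¬ ∃ j, u j = l := fun ⟨j, hj⟩ => by
      rcases Fin.eq_zero_or_eq_succ j with rfl | ⟨k, rfl⟩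
      · exact hl0 hj.symm
      · exact hl ⟨k, hj⟩
    have hal : a l = 0 := haout l hl'
    refine ⟨by rw [dot_bv, hal], hH.ein_of_inS (hH.inS_bv (u 0) l) ?_ haa (by rw [dot_bv, hal])⟩
    convert hH.inS_scaled (u 0) m (mk v₀ v₁ v₂ v₃ ∘ Equiv.swap (u 0) l) (by
      simp only [Function.comp_apply]
      rw [Equiv.sum_comp (Equiv.swap (u 0) l) (fun i => mk v₀ v₁ v₂ v₃ i ^ 2),
        sum_five hu _ fun i hi => by simp [mk, Function.extend_apply' _ _ _ hi]]
      have e : ((B : ℤ) ^ 2 + ((v₀ : ℤ) ^ 2 + (v₁ : ℤ) ^ 2 + (v₂ : ℤ) ^ 2 + (v₃ : ℤ) ^ 2)) = 4 ^ m := by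
        have : B ^ 2 + (v₀ ^ 2 + v₁ ^ 2 + v₂ ^ 2 + v₃ ^ 2) = 4 ^ m := by omega
        exact_mod_cast this
      simp [mk, hu.extend_apply]
      linear_combination e) using 1
    funext i
    simp only [Pi.add_apply, bv_apply, scaled, Function.comp_apply]
    rcases eq_or_ne i l with rfl | hil
    · simp [hal, mk, hu.extend_apply, hBx, h2m]
    rcases eq_or_ne i (u 0) with rfl | hi0
    · simp [ha0, mk, hil, Function.extend_apply' _ _ _ hl']
    rw [Equiv.swap_apply_of_ne_of_ne hi0 hil, if_neg hil, zero_add, ha, Pi.sub_apply, bv_apply, if_neg hi0, sub_zero, hz]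
    rfl
  refine ⟨a, u t.succ, u 0, haa, ht, ha0, fun x hx => ?_⟩
  suffices x ∈ d.space from this.2
  have hx' : ∑ j : Fin 4, a (u j.succ) * x (u j.succ) = 0 := by
    rw [← hx, dotProduct, sum_five hu (fun i => a i * x i) (fun i hi => by simp [haout i hi]), Fin.sum_univ_four, ha0, zero_mul, zero_add]
    rfl
  obtain ⟨y, hy⟩ : ∃ y, y = x - ∑ j : Fin 4,
      (x (u j.succ) / a (u t.succ)) • (a (u t.succ) • bv (u j.succ) - a (u j.succ) • bv (u t.succ)) := ⟨_, rfl⟩
  have hy0 : ∀ k : Fin 4, y (u k.succ) = 0 := fun k => by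
    rw [hy]
    simp only [Pi.sub_apply, Finset.sum_apply, Pi.smul_apply, smul_eq_mul, bv_apply, hu.eq_iff, Fin.succ_inj,
      mul_sub, mul_ite, mul_one, mul_zero, Finset.sum_sub_distrib, Finset.sum_ite_eq, Finset.mem_univ, if_true,
      div_mul_cancel₀ _ ht]
    rcases eq_or_ne k t with rfl | hkt
    · simp only [if_true]
      rw [show ∑ j : Fin 4, x (u j.succ) / a (u k.succ) * a (u j.succ) =
        (∑ j : Fin 4, a (u j.succ) * x (u j.succ)) / a (u k.succ) by
        rw [Finset.sum_div]; exact Finset.sum_congr rfl fun j _ => by ring, hx', zero_div]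
      ring
    · simp [hkt]
  have hymem : y ∈ d.space := by
    rw [show y = ∑ l, y l • bv l from pi_eq_sum_univ' y]
    refine Submodule.sum_mem _ fun l _ => ?_
    by_cases hl : ∃ j : Fin 4, u j.succ = l
    · obtain ⟨k, rfl⟩ := hl
      rw [hy0, zero_smul]; exact zero_mem _
    · exact d.space.smul_mem _ (hout l hl)
  rw [show x = y + ∑ j : Fin 4,
      (x (u j.succ) / a (u t.succ)) • (a (u t.succ) • bv (u j.succ) - a (u j.succ) • bv (u t.succ)) by
    rw [hy, sub_add_cancel]]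
  exact d.space.add_mem hymem (d.space.sum_mem fun j _ => d.space.smul_mem _ (hskew t j))

/-- a centre of `Ω` with a coordinate `i₁` where it is one -/
theorem Halved.exists_centre (hH : Halved H) (hp : (Fintype.card F).Prime) :
    ∃ (a : ι → F) (i₁ l : ι), a ⬝ᵥ a = 0 ∧ a i₁ = 1 ∧ a l = 0 ∧
      ∀ x, a ⬝ᵥ x = 0 → Quad.EIn (stdQ : (ι → F) → F) (halfGen H) a x := by
  classical
  have h2 := hH.two
  obtain ⟨a, i₁, l, haa, hai, hal, hall⟩ := hH.exists_centre_squares hp
  have hc := Quad.eCentres_smul (stdQ_nd h2) (u := a) (M := halfGen H) ⟨haa, fun x hx => hall x (by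
    rw [pol_stdQ] at hx
    exact (mul_eq_zero.1 hx).resolve_left h2)⟩ (a i₁)⁻¹
  refine ⟨(a i₁)⁻¹ • a, i₁, l, hc.1, ?_, ?_, fun x hx => hc.2 x (by rw [pol_stdQ, hx, mul_zero])⟩
  · rw [Pi.smul_apply, smul_eq_mul, inv_mul_cancel₀ hai]
  · rw [Pi.smul_apply, hal, smul_zero]

/-- half-integral elements generate `Ω` -/
theorem Halved.omega_le (hH : Halved H) (hp : (Fintype.card F).Prime) (hodd : Odd (Fintype.card F)) :
    omegaGL (stdQ : (ι → F) → F) ≤ H := by
  have h2 := hH.two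
  have hQ := stdQ_nd (ι := ι) (F := F) h2
  obtain ⟨a, i₁, l, haa, ha1, hal, hall⟩ := hH.exists_centre hp
  have hli : i₁ ≠ l := fun h => one_ne_zero (α := F) (by rw [← ha1, h, hal])
  have hMi : halfGen H ≤ Cfsg.isometryGroup F (stdQ : (ι → F) → F) := halfGen_le.trans hH.frame.le_iso
  have haC : a ∈ Quad.eCentres (stdQ : (ι → F) → F) (halfGen H) := ⟨haa, fun x hx => hall x (by
    rw [pol_stdQ] at hx
    exact (mul_eq_zero.1 hx).resolve_left h2)⟩
  have hgC := Quad.eCentres_conj hMi (hH.pair_mem hli) haC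
  have hne : QuadraticMap.polar (stdQ : (ι → F) → F) a (((flp {i₁, l} : GL ι F) : Matrix ι ι F) *ᵥ a) ≠ 0 := by
    rw [pol_stdQ, show ((flp {i₁, l} : GL ι F) : Matrix ι ι F) *ᵥ a = a - (2 : F) • bv i₁ from ?_]
    · rw [dotProduct_sub, dotProduct_smul, haa, dot_bv, ha1]
      simpa using h2
    · show act (flp {i₁, l}) a = _
      rw [act_flp]
      funext r
      simp only [Pi.sub_apply, Pi.smul_apply, smul_eq_mul, bv_apply, Finset.mem_insert, Finset.mem_singleton]
      rcases eq_or_ne r i₁ with rfl | h1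
      · simp [ha1]; ring
      rcases eq_or_ne r l with rfl | h2'
      · simp [hal, h1]
      · simp [h1, h2']
  refine (Quad.omega_le_of_eCentres hQ (by have := hH.five; omega) fun x hx => ?_).trans halfGen_le
  exact Quad.eCentres_all hQ hMi haC hgC hne hx

end CfsgLib.Perm.Trans.OrthFrame
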