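import Mathlib
import Cfsg.Agent.Lib.Perm.Trans.OrthFrame.Generate
import Cfsg.Agent.Lib.Perm.Trans.QuadFrames

/-!
# Orthogonal frame stabilisers are maximal in `Ω`

Over a prime field of odd order, in dimension at least five and different from eight.
-/

set_option autoImplicit false
set_option linter.all false

namespace CfsgLib.Perm.Trans.OrthFrame

open scoped Matrix commutatorElement
open Matrix Cfsg.Geo CfsgLib.Perm.Trans

variable {ι : Type} [Fintype ι] [DecidableEq ι] {F : Type*} [Field F] [Fintype F]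

/-- a frame group of determinant one is monomial or contains `Ω` -/
theorem frame_dichotomy {H : Subgroup (GL ι F)} (hH : Frame H) (hp : (Fintype.card F).Prime)
    (hodd : Odd (Fintype.card F)) (hdet : ∀ g ∈ H, (g : Matrix ι ι F).det = 1) (hn : 5 ≤ Fintype.card ι)
    (hn8 : Fintype.card ι ≠ 8) : (∀ g ∈ H, Mono g) ∨ omegaGL (stdQ : (ι → F) → F) ≤ H := by
  classical
  have h2 : (2 : F) ≠ 0 := by
    refine Ring.two_ne_zero fun h => ?_
    have h1 := (FiniteField.even_card_iff_char_two (F := F)).1 h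
    rw [Nat.odd_iff] at hodd
    omega
  by_contra hcon
  rw [not_or] at hcon
  push Not at hcon
  obtain ⟨⟨g, hg, hgm⟩, hle⟩ := hcon
  exact hle (Halved.omega_le ⟨hH, h2, hn, fun T hT => exists_halfOn hH h2 hp hodd hdet hn hn8 ⟨g, hg, hgm⟩ hT⟩ hp hodd)

theorem omegaGL_eq_comm (Q : (ι → F) → F) :
    omegaGL Q = ⁅Cfsg.isometryGroup F Q, Cfsg.isometryGroup F Q⁆ := by
  rw [omegaGL, show Cfsg.Omega F Q = commutator (Cfsg.isometryGroup F Q) from rfl, commutator_def,
    Subgroup.map_commutator, ← MonoidHom.range_eq_map, Subgroup.range_subtype]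

theorem det_omegaGL {Q : (ι → F) → F} {g : GL ι F} (hg : g ∈ omegaGL Q) : (g : Matrix ι ι F).det = 1 := by
  rw [omegaGL_eq_comm] at hg
  have h : ⁅Cfsg.isometryGroup F Q, Cfsg.isometryGroup F Q⁆ ≤
      (Matrix.GeneralLinearGroup.det : GL ι F →* Fˣ).ker := by
    rw [Subgroup.commutator_le]
    intro a _ b _
    rw [MonoidHom.mem_ker, map_commutatorElement, commutatorElement_eq_one_iff_commute]
    exact Commute.all _ _
  have h1 := congrArg Units.val (MonoidHom.mem_ker.1 (h hg))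
  simpa using h1

theorem frame_omega : Frame (omegaGL (stdQ : (ι → F) → F)) := by
  refine ⟨Quad.omegaGL_le_iso, fun a b hab => ?_, fun σ hσ => ?_⟩
  · rw [omegaGL_eq_comm]
    have h : ⁅(flp {a} : GL ι F), (pm (Equiv.swap a b) : GL ι F)⁆ = flp {a, b} := by
      rw [commutatorElement_def, flp_inv, mul_assoc (flp {a}) (pm _), mul_assoc (flp {a}), ← map_inv, pm_conj_flp,
        flp_mul]
      congr 1
      ext x
      simp only [Finset.map_singleton, Equiv.coe_toEmbedding, Equiv.swap_apply_left, Finset.mem_symmDiff,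
        Finset.mem_singleton, Finset.mem_insert]
      refine ⟨fun hx => hx.elim (fun h => Or.inl h.1) (fun h => Or.inr h.1), ?_⟩
      rintro (rfl | rfl)
      exacts [Or.inl ⟨rfl, hab⟩, Or.inr ⟨rfl, Ne.symm hab⟩]
    rw [← h]
    exact Subgroup.commutator_mem_commutator (flp_iso _) (pm_iso _)
  · rw [omegaGL_eq_comm]
    have hle : alternatingGroup ι ≤
        (⁅Cfsg.isometryGroup F (stdQ : (ι → F) → F), Cfsg.isometryGroup F (stdQ : (ι → F) → F)⁆).comap pm := by
      rw [← Equiv.Perm.closure_three_cycles_eq_alternating, Subgroup.closure_le]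
      intro ρ hρ
      have h3 : Equiv.Perm.IsThreeCycle ρ := hρ
      have hsq : Equiv.Perm.IsThreeCycle (ρ * ρ) := h3.isThreeCycle_sq
      obtain ⟨τ, hτ⟩ := isConj_iff.1 (Equiv.Perm.isConj_iff_cycleType_eq.2 (h3.cycleType.trans hsq.cycleType.symm))
      have hc : ρ = ⁅τ, ρ⁆ := by rw [commutatorElement_def, hτ]; group
      rw [SetLike.mem_coe, Subgroup.mem_comap, hc, map_commutatorElement]
      exact Subgroup.commutator_mem_commutator (pm_iso _) (pm_iso _)
    exact hle hσ

/-- `Ω` of the standard form is not monomial -/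
theorem omega_not_mono (h2 : (2 : F) ≠ 0) (hn : 4 ≤ Fintype.card ι) :
    ∃ g ∈ omegaGL (stdQ : (ι → F) → F), ¬ Mono g := by
  classical
  obtain ⟨T, -, hT⟩ := Finset.exists_subset_card_eq (s := (Finset.univ : Finset ι)) (n := 4)
    (by rw [Finset.card_univ]; omega)
  obtain ⟨a, ha⟩ : T.Nonempty := Finset.card_pos.1 (by omega)
  obtain ⟨v, hv⟩ : ∃ v : ι → F, v = fun r => if r ∈ T then (2 : F)⁻¹ else 0 := ⟨_, rfl⟩
  have hv1 : v ⬝ᵥ v = 1 := by
    rw [dotProduct, ← Finset.sum_subset (Finset.subset_univ T) (fun r _ hr => by rw [hv]; simp [hr]),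
      Finset.sum_congr rfl (g := fun _ => (2 : F)⁻¹ * (2 : F)⁻¹) (fun r hr => by rw [hv]; simp [hr]),
      Finset.sum_const, hT]
    simp only [nsmul_eq_mul]
    push_cast
    field_simp
    ring
  refine ⟨⁅rf v, flp {a}⁆, ?_, fun hm => ?_⟩
  · rw [omegaGL_eq_comm]
    exact Subgroup.commutator_mem_commutator (rf_iso hv1) (flp_iso _)
  · obtain ⟨i, c, hc⟩ := hm a
    have h1 : act ⁅rf v, flp {a}⁆ (bv a) = -v := by
      rw [commutatorElement_def, rf_inv hv1, flp_inv, act_mul, act_mul, act_mul, flp_bv,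
        if_pos (Finset.mem_singleton_self a), neg_one_smul, act_neg,
        show act (rf v) (bv a) = bv a - (2 * v a) • v by rw [act_rf hv1, bv_dot]]
      have h3 : act (flp {a}) (-(bv a - (2 * v a) • v)) = v := by
        rw [act_flp]
        funext r
        have hva : v a = (2 : F)⁻¹ := by rw [hv]; simp [ha]
        simp only [Pi.neg_apply, Pi.sub_apply, Pi.smul_apply, smul_eq_mul, bv_apply, hva, mul_inv_cancel₀ h2,
          Finset.mem_singleton, one_mul]
        by_cases hr : r = a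
        · subst hr
          simp only [↓reduceIte, hva]
          field_simp
          ring
        · simp [hr]
      rw [h3, act_rf hv1, hv1]
      module
    obtain ⟨r, hr, hri⟩ := Finset.exists_mem_ne (s := T) (by omega) i
    have h3 := congrFun (h1.symm.trans hc) r
    rw [Pi.neg_apply, Pi.smul_apply, bv_apply, if_neg hri, smul_zero, hv] at h3
    simp [hr, h2] at h3

/-- transport to a form similar to the standard one -/
theorem omegaGL_transport {Q : (ι → F) → F} {P : GL ι F} {c : F} (hc : c ≠ 0)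
    (hP : ∀ y, Q (act P y) = c * (y ⬝ᵥ y)) {g : GL ι F} :
    P * g * P⁻¹ ∈ omegaGL Q ↔ g ∈ omegaGL (stdQ : (ι → F) → F) := by
  have hmap : (Cfsg.isometryGroup F (stdQ : (ι → F) → F)).map (MulAut.conj P).toMonoidHom =
      Cfsg.isometryGroup F Q := by
    ext k
    rw [Subgroup.mem_map]
    constructor
    · rintro ⟨h, hh, rfl⟩
      refine Quad.mem_iso.2 fun x => ?_
      show Q (act (P * h * P⁻¹) x) = Q x
      rw [act_mul, act_mul, hP]
      conv_rhs => rw [← act_inv' P x, hP]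
      exact congrArg _ (Quad.mem_iso.1 hh (act P⁻¹ x))
    · intro hk
      refine ⟨P⁻¹ * k * P, Quad.mem_iso.2 fun y => mul_left_cancel₀ hc ?_, by simp [MulAut.conj_apply, mul_assoc]⟩
      show c * (act (P⁻¹ * k * P) y ⬝ᵥ act (P⁻¹ * k * P) y) = c * (y ⬝ᵥ y)
      rw [← hP, act_mul, act_mul, act_inv', ← hP]
      exact Quad.mem_iso.1 hk _
  rw [omegaGL_eq_comm, omegaGL_eq_comm, ← hmap, ← Subgroup.map_commutator]
  exact Subgroup.mem_map_iff_mem (MulAut.conj P).injective

/-- the stabiliser of a frame of a nondegenerate form is maximal in `Ω` -/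
theorem frame_stabilizer_maximal' {Q : (ι → F) → F} (hQ : IsNondegenerateQuadraticForm Q)
    (hp : (Fintype.card F).Prime) (hodd : Odd (Fintype.card F)) (hn : 5 ≤ Fintype.card ι)
    (hn8 : Fintype.card ι ≠ 8) {t : ℕ} {D : Fin t → Submodule F (ι → F)} (hD : IsOrthogonalMDecomposition Q 1 D) :
    IsMaximalIn (omegaGL Q) (decompositionStabilizer D ⊓ omegaGL Q) := by
  classical
  have h2 : (2 : F) ≠ 0 := by
    refine Ring.two_ne_zero fun h => ?_
    have h1 := (FiniteField.even_card_iff_char_two (F := F)).1 h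
    rw [Nat.odd_iff] at hodd
    omega
  have htn : t = Fintype.card ι := by simpa using Quad.member_count hQ hD
  have hfin : ∀ j, Module.finrank F (D j) = 1 := hD.decomp.decomp.finrank_eq
  let j₀ : Fin t := ⟨0, by omega⟩
  obtain ⟨a, ha0, hspan⟩ := finrank_eq_one_iff'.1 (hfin j₀)
  obtain ⟨c, hc⟩ : ∃ c, c = Q (a : ι → F) := ⟨_, rfl⟩
  have hc0 : c ≠ 0 := by
    intro h0
    have ha' : (a : ι → F) ≠ 0 := fun h => ha0 (Subtype.ext h)
    obtain ⟨x, hx, hne⟩ := (hD.decomp.nondegenerate j₀ (a : ι → F) a.2 ha').2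
    obtain ⟨s, hs⟩ := hspan ⟨x, hx⟩
    have hxs : x = s • (a : ι → F) := (congrArg Subtype.val hs).symm
    apply hne
    rw [hxs]
    simp [Quad.psmul_left hQ, Quad.psmul_right hQ, Quad.pself hQ, ← hc, h0]
  choose ej hej using fun j => hD.isometric j₀ j
  obtain ⟨b, hb⟩ : ∃ b : Fin t → (ι → F), b = fun j => ((ej j a : D j) : ι → F) := ⟨_, rfl⟩
  have hbmem : ∀ j, b j ∈ D j := fun j => hb ▸ (ej j a).2
  have hbQ : ∀ j, Q (b j) = c := fun j => by rw [hb, hc]; exact hej j a
  have hb0 : ∀ j, b j ≠ 0 := fun j h => hc0 (by rw [← hbQ j, h, Quad.qzero hQ])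
  have hDspan : ∀ j, D j = Submodule.span F {b j} := fun j => by
    refine le_antisymm (fun x hx => ?_) (Submodule.span_le.2 (Set.singleton_subset_iff.2 (hbmem j)))
    obtain ⟨s, hs⟩ := (finrank_eq_one_iff_of_nonzero' (⟨b j, hbmem j⟩ : D j)
      (fun h => hb0 j (congrArg Subtype.val h))).1 (hfin j) ⟨x, hx⟩
    exact Submodule.mem_span_singleton.2 ⟨s, congrArg Subtype.val hs⟩
  let E : ι ≃ Fin t := (Fintype.equivFin ι).trans (finCongr htn.symm)
  obtain ⟨Pm, hPm⟩ : ∃ Pm : Matrix ι ι F, Pm = Matrix.of fun r i => b (E i) r := ⟨_, rfl⟩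
  have hPy : ∀ y, Pm *ᵥ y = ∑ i, y i • b (E i) := fun y => funext fun r => by
    rw [hPm, Finset.sum_apply, Matrix.mulVec, dotProduct]
    exact Finset.sum_congr rfl fun i _ => by rw [Matrix.of_apply, Pi.smul_apply, smul_eq_mul, mul_comm]
  have horth : ∀ i k : ι, QuadraticMap.polar Q (b (E i)) (b (E k)) = if i = k then 2 * c else 0 := fun i k => by
    rcases eq_or_ne i k with rfl | hik
    · rw [if_pos rfl, Quad.pself hQ, hbQ]
    · rw [if_neg hik]
      exact Quad.member_orth hQ hD (fun h => hik (E.injective h)) (hbmem _) (hbmem _)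
  have hQP : ∀ y : ι → F, Q (Pm *ᵥ y) = c * (y ⬝ᵥ y) := fun y => by
    have hpol : ∀ x, QuadraticMap.polar Q (Pm *ᵥ y) x = ∑ i, y i * QuadraticMap.polar Q (b (E i)) x := fun x => by
      show Quad.pfl hQ x (Pm *ᵥ y) = _
      rw [hPy, map_sum]
      exact Finset.sum_congr rfl fun i _ => by rw [map_smul]; rfl
    have h1 : QuadraticMap.polar Q (Pm *ᵥ y) (Pm *ᵥ y) = 2 * c * (y ⬝ᵥ y) := by
      rw [hpol, dotProduct, Finset.mul_sum]
      refine Finset.sum_congr rfl fun i _ => ?_
      rw [Quad.pcomm, hpol, Finset.sum_eq_single i (fun k _ hk => by rw [horth, if_neg hk, mul_zero])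
        (fun h => absurd (Finset.mem_univ i) h), horth, if_pos rfl]
      ring
    rw [Quad.pself hQ] at h1
    exact mul_left_cancel₀ h2 (by linear_combination h1)
  have hPinj : Function.Injective (fun y => Pm *ᵥ y) := by
    intro y y' h
    funext i
    have h1 : ∀ z : ι → F, QuadraticMap.polar Q (Pm *ᵥ z) (b (E i)) = 2 * c * z i := fun z => by
      show Quad.pfl hQ (b (E i)) (Pm *ᵥ z) = _
      rw [hPy, map_sum, Finset.sum_eq_single i (fun k _ hk => by
        rw [map_smul, show Quad.pfl hQ (b (E i)) (b (E k)) = QuadraticMap.polar Q (b (E k)) (b (E i)) from rfl, horth,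
          if_neg hk, smul_zero]) (fun h => absurd (Finset.mem_univ i) h), map_smul,
        show Quad.pfl hQ (b (E i)) (b (E i)) = QuadraticMap.polar Q (b (E i)) (b (E i)) from rfl, horth, if_pos rfl,
        smul_eq_mul]
      ring
    exact mul_left_cancel₀ (mul_ne_zero h2 hc0)
      ((h1 y).symm.trans ((congrArg (fun z => QuadraticMap.polar Q z (b (E i))) h).trans (h1 y')))
  obtain ⟨P, hPv⟩ : ∃ P : GL ι F, (P : Matrix ι ι F) = Pm :=
    ⟨(Matrix.mulVec_injective_iff_isUnit.1 hPinj).unit, IsUnit.unit_spec _⟩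
  have hP : ∀ y, Q (act P y) = c * (y ⬝ᵥ y) := fun y => by
    show Q ((P : Matrix ι ι F) *ᵥ y) = _
    rw [hPv, hQP]
  have hPb : ∀ i, act P (bv i) = b (E i) := fun i => by
    show (P : Matrix ι ι F) *ᵥ bv i = _
    rw [hPv, hPy, Finset.sum_eq_single i (fun k _ hk => by rw [bv_apply, if_neg hk, zero_smul])
      (fun h => absurd (Finset.mem_univ i) h), bv_apply, if_pos rfl, one_smul]
  -- monomial elements and the stabiliser
  have hto : ∀ g : GL ι F, Mono g → P * g * P⁻¹ ∈ decompositionStabilizer D := by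
    intro g hg
    obtain ⟨gm, hgm⟩ : ∃ gm : monoG (ι := ι) (F := F), gm.1 = g := ⟨⟨g, hg⟩, rfl⟩
    refine ⟨(E.symm.trans (mperm gm)).trans E, fun j => ?_⟩
    obtain ⟨s, hs0, hs⟩ := mperm_apply gm (E.symm j)
    rw [hgm] at hs
    have h1 : act (P * g * P⁻¹) (b j) = s • b (E (mperm gm (E.symm j))) := by
      rw [← E.apply_symm_apply j, ← hPb, act_mul, act_mul, act_inv, Equiv.apply_symm_apply, hs, act_smul, hPb]
    rw [show ((E.symm.trans (mperm gm)).trans E) j = E (mperm gm (E.symm j)) from rfl, hDspan j, hDspan, Submodule.map_span, Set.image_singleton,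
      Matrix.toLin'_apply, show ((P * g * P⁻¹ : GL ι F) : Matrix ι ι F) *ᵥ b j = act (P * g * P⁻¹) (b j) from rfl, h1,
      Submodule.span_singleton_smul_eq (Ne.isUnit hs0)]
  have hfrom : ∀ g : GL ι F, P * g * P⁻¹ ∈ decompositionStabilizer D → Mono g := by
    rintro g ⟨σ, hσ⟩ i
    have h1 : act (P * g * P⁻¹) (b (E i)) ∈ D (σ (E i)) := by
      rw [← hσ]
      exact ⟨b (E i), hbmem _, Matrix.toLin'_apply _ _⟩
    rw [hDspan, Submodule.mem_span_singleton] at h1
    obtain ⟨s, hs⟩ := h1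
    refine ⟨E.symm (σ (E i)), s, ?_⟩
    have h3 := congrArg (act P⁻¹) hs
    rw [act_smul, ← E.apply_symm_apply (σ (E i)), ← hPb, act_inv, ← hPb, ← act_mul, ← act_mul,
      show P⁻¹ * (P * g * P⁻¹) * P = g by group] at h3
    exact h3.symm
  refine ⟨lt_of_le_of_ne inf_le_right fun heq => ?_, fun M hM1 hM2 => ?_⟩
  · obtain ⟨g, hg, hgm⟩ := omega_not_mono (ι := ι) h2 (by omega)
    have h1 : P * g * P⁻¹ ∈ decompositionStabilizer D ⊓ omegaGL Q := by
      rw [heq]; exact (omegaGL_transport hc0 hP).2 hg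
    exact hgm (hfrom g h1.1)
  · let H : Subgroup (GL ι F) := M.comap (MulAut.conj P).toMonoidHom
    have hmemH : ∀ g, g ∈ H ↔ P * g * P⁻¹ ∈ M := fun g => Iff.rfl
    have hΩ : ∀ g ∈ H, g ∈ omegaGL (stdQ : (ι → F) → F) := fun g hg =>
      (omegaGL_transport hc0 hP).1 (hM2 ((hmemH g).1 hg))
    have hFr := frame_omega (ι := ι) (F := F)
    have hH : Frame H := ⟨fun g hg => hFr.le_iso (hΩ g hg),
      fun x y hxy => (hmemH _).2 (hM1 ⟨hto _ (mono_flp _), (omegaGL_transport hc0 hP).2 (hFr.flp_mem x y hxy)⟩),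
      fun σ hσ => (hmemH _).2 (hM1 ⟨hto _ (mono_pm σ), (omegaGL_transport hc0 hP).2 (hFr.pm_mem σ hσ)⟩)⟩
    rcases frame_dichotomy hH hp hodd (fun g hg => det_omegaGL (hΩ g hg)) hn hn8 with h | h
    · refine Or.inl (le_antisymm (fun x hx => ⟨?_, hM2 hx⟩) hM1)
      have hx' : P * (P⁻¹ * x * P) * P⁻¹ = x := by group
      rw [← hx']
      exact hto _ (h _ ((hmemH _).2 (hx'.symm ▸ hx)))
    · refine Or.inr (le_antisymm hM2 fun x hx => ?_)
      have hx' : P * (P⁻¹ * x * P) * P⁻¹ = x := by group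
      rw [← hx']
      exact (hmemH _).1 (h ((omegaGL_transport hc0 hP).1 (hx'.symm ▸ hx)))

/-- the same in dimension at least seven -/
theorem frame_stabilizer_maximal {Q : (ι → F) → F} (hQ : IsNondegenerateQuadraticForm Q)
    (hp : (Fintype.card F).Prime) (hodd : Odd (Fintype.card F)) (hn : 7 ≤ Fintype.card ι)
    (hn8 : Fintype.card ι ≠ 8) {t : ℕ} {D : Fin t → Submodule F (ι → F)} (hD : IsOrthogonalMDecomposition Q 1 D) :
    IsMaximalIn (omegaGL Q) (decompositionStabilizer D ⊓ omegaGL Q) :=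
  frame_stabilizer_maximal' hQ hp hodd (by omega) hn8 hD

end CfsgLib.Perm.Trans.OrthFrame
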